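import Mathlib
import Cfsg.Agent.H61.ZassRecog

/-!
Sharply triply transitive groups: basic facts and the case of odd degree.
-/

set_option autoImplicit false

namespace Cfsg.Agent.H61

open MulAction OnePoint

/-- A sharply 3-transitive action (elementary form). -/
structure IsSharp3 (G Ω : Type*) [Group G] [MulAction G Ω] : Prop where
  trans3 : ∀ a b c a' b' c' : Ω, a ≠ b → b ≠ c → a ≠ c → a' ≠ b' → b' ≠ c' → a' ≠ c' →
    ∃ g : G, g • a = a' ∧ g • b = b' ∧ g • c = c'
  three : ∀ (g : G) (a b c : Ω), a ≠ b → b ≠ c → a ≠ c → g • a = a → g • b = b → g • c = c → g = 1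

section
variable {G Ω : Type*} [Group G] [MulAction G Ω]

/-- three distinct points as an embedding -/
def emb3 {a b c : Ω} (hab : a ≠ b) (hbc : b ≠ c) (hac : a ≠ c) : Fin 3 ↪ Ω :=
  ⟨![a, b, c], by
    intro i j hij
    fin_cases i <;> fin_cases j <;> simp_all [eq_comm]⟩

theorem IsSharp3.of_stabilizer (h3 : IsMultiplyPretransitive G Ω 3)
    (hsharp : ∀ x : Fin 3 ↪ Ω, stabilizer G x = ⊥) : IsSharp3 G Ω where
  trans3 a b c a' b' c' h1 h2 h3' h4 h5 h6 := by
    obtain ⟨g, hg⟩ := exists_smul_eq G (emb3 h1 h2 h3') (emb3 h4 h5 h6)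
    exact ⟨g, congrArg (fun x : Fin 3 ↪ Ω => x 0) hg, congrArg (fun x : Fin 3 ↪ Ω => x 1) hg,
      congrArg (fun x : Fin 3 ↪ Ω => x 2) hg⟩
  three g a b c h1 h2 h3' ha hb hc := by
    have : g ∈ stabilizer G (emb3 h1 h2 h3') := by
      rw [mem_stabilizer_iff]
      ext i
      fin_cases i
      · exact ha
      · exact hb
      · exact hc
    rwa [hsharp, Subgroup.mem_bot] at this

theorem IsSharp3.three_trans (h : IsSharp3 G Ω) : IsMultiplyPretransitive G Ω 3 ∧
    ∀ x : Fin 3 ↪ Ω, stabilizer G x = ⊥ := by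
  refine ⟨⟨fun x y => ?_⟩, fun x => ?_⟩
  · obtain ⟨g, h0, h1, h2⟩ := h.trans3 (x 0) (x 1) (x 2) (y 0) (y 1) (y 2)
      (x.injective.ne (by decide)) (x.injective.ne (by decide)) (x.injective.ne (by decide))
      (y.injective.ne (by decide)) (y.injective.ne (by decide)) (y.injective.ne (by decide))
    refine ⟨g, ?_⟩
    ext i
    fin_cases i
    · exact h0
    · exact h1
    · exact h2
  · rw [eq_bot_iff]
    intro g hg
    exact h.three g (x 0) (x 1) (x 2) (x.injective.ne (by decide)) (x.injective.ne (by decide))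
      (x.injective.ne (by decide)) (congrArg (fun x : Fin 3 ↪ Ω => x 0) hg)
      (congrArg (fun x : Fin 3 ↪ Ω => x 1) hg) (congrArg (fun x : Fin 3 ↪ Ω => x 2) hg)

theorem exists_ne_ne [Finite Ω] (h3 : 3 ≤ Nat.card Ω) (a b : Ω) : ∃ c : Ω, c ≠ a ∧ c ≠ b := by
  by_contra hh
  push Not at hh
  have h1 : (Set.univ : Set Ω) ⊆ {a, b} := fun x _ => by
    by_cases hx : x = a
    · exact Or.inl hx
    · exact Or.inr (hh x hx)
  have h2 := Set.ncard_le_ncard h1
  have h4 : ({a, b} : Set Ω).ncard ≤ 2 := by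
    refine (Set.ncard_insert_le _ _).trans ?_
    rw [Set.ncard_singleton]
  rw [Set.ncard_univ] at h2
  omega

theorem IsSharp3.isZ (h : IsSharp3 G Ω) [Finite Ω] (h3 : 3 ≤ Nat.card Ω) : IsZ G Ω where
  trans a b c d hab hcd := by
    obtain ⟨x, hx1, hx2⟩ := exists_ne_ne h3 a b
    obtain ⟨y, hy1, hy2⟩ := exists_ne_ne h3 c d
    obtain ⟨g, h1, h2, -⟩ := h.trans3 a b x c d y hab hx2.symm hx1.symm hcd hy2.symm hy1.symm
    exact ⟨g, h1, h2⟩
  three := h.three
  faithful g hg := by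
    have : Nontrivial Ω := Finite.one_lt_card_iff_nontrivial.mp (by omega)
    obtain ⟨a, b, hab⟩ := exists_pair_ne Ω
    obtain ⟨x, hx1, hx2⟩ := exists_ne_ne h3 a b
    exact h.three g a b x hab hx2.symm hx1.symm (hg _) (hg _) (hg _)

theorem natCard_ne_ne [Finite Ω] {a b : Ω} (hab : a ≠ b) :
    Nat.card {x : Ω // x ≠ a ∧ x ≠ b} = Nat.card Ω - 2 := by
  classical
  have := Fintype.ofFinite Ω
  rw [Nat.card_eq_fintype_card, Nat.card_eq_fintype_card, Fintype.card_subtype]
  have : (Finset.univ.filter fun x : Ω => x ≠ a ∧ x ≠ b) = Finset.univ \ {a, b} := by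
    ext x; simp
  rw [this, Finset.card_univ_sdiff, Finset.card_pair hab]

theorem IsZ.stab2_smul_injective (h : IsZ G Ω) {a b c : Ω} (hab : a ≠ b) (hca : c ≠ a)
    (hcb : c ≠ b) : Function.Injective (fun g : stab2 G a b => (⟨g.1 • c,
      fun e => hca (smul_left_cancel g.1 (e.trans g.2.1.symm)),
      fun e => hcb (smul_left_cancel g.1 (e.trans g.2.2.symm))⟩ : {x : Ω // x ≠ a ∧ x ≠ b})) :=
  fun g k hgk => Subtype.ext (h.eq_of_smul_eq hab hcb.symm hca.symm (g.2.1.trans k.2.1.symm)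
    (g.2.2.trans k.2.2.symm) (congrArg Subtype.val hgk))

theorem IsSharp3.card_stab2 (h : IsSharp3 G Ω) [Finite Ω] (h3 : 3 ≤ Nat.card Ω) {a b : Ω}
    (hab : a ≠ b) : Nat.card (stab2 G a b) = Nat.card Ω - 2 := by
  obtain ⟨c, hca, hcb⟩ := exists_ne_ne h3 a b
  rw [← natCard_ne_ne hab]
  refine Nat.card_congr (Equiv.ofBijective _ ⟨(h.isZ h3).stab2_smul_injective hab hca hcb, ?_⟩)
  rintro ⟨x, hxa, hxb⟩
  obtain ⟨g, h1, h2, h4⟩ := h.trans3 a b c a b x hab hcb.symm hca.symm hab hxb.symm hxa.symm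
  exact ⟨⟨g, h1, h2⟩, Subtype.ext h4⟩

theorem IsZ.isSharp3_of_card (h : IsZ G Ω) [Finite Ω] {a b : Ω} (hab : a ≠ b)
    (hc : Nat.card Ω - 2 ≤ Nat.card (stab2 G a b)) : IsSharp3 G Ω where
  three := h.three
  trans3 x y z x' y' z' h1 h2 h3 h4 h5 h6 := by
    have := h.finite
    obtain ⟨g, hg1, hg2⟩ := h.trans x y x' y' h1 h4
    have hb := (h.stab2_smul_injective h4 (c := g • z)
      (fun e => h3 (smul_left_cancel g (hg1.trans e.symm)))
      (fun e => h2 (smul_left_cancel g (hg2.trans e.symm)))).bijective_of_nat_card_le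
      (by rw [natCard_ne_ne h4, h.card_stab2_eq hab h4]; exact hc)
    obtain ⟨k, hk⟩ := hb.2 ⟨z', h6.symm, h5.symm⟩
    refine ⟨k.1 * g, ?_, ?_, ?_⟩
    · rw [mul_smul, hg1]; exact k.2.1
    · rw [mul_smul, hg2]; exact k.2.2
    · rw [mul_smul]; exact congrArg Subtype.val hk

theorem IsSharp3.exists_isKer (h : IsSharp3 G Ω) [Finite Ω] (h3 : 3 ≤ Nat.card Ω) (w : Ω) :
    ∃ F : Subgroup G, IsKer F w := by
  have hZ := h.isZ h3
  have h2 : IsSharp2 (stabilizer G w) (SubMulAction.ofStabilizer G w) :=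
    { trans := fun a b c d hab hcd => by
        obtain ⟨g, h1, h2, h4⟩ := h.trans3 w a.1 b.1 w c.1 d.1 (Ne.symm a.2)
          (fun e => hab (Subtype.ext e)) (Ne.symm b.2) (Ne.symm c.2)
          (fun e => hcd (Subtype.ext e)) (Ne.symm d.2)
        exact ⟨⟨g, h1⟩, Subtype.ext h2, Subtype.ext h4⟩
      sharp := hZ.sharp_ofStabilizer w }
  obtain ⟨a, ha, -⟩ := exists_ne_ne h3 w w
  obtain ⟨b, hb, hba⟩ := exists_ne_ne h3 w a
  have : Nontrivial (SubMulAction.ofStabilizer G w) :=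
    ⟨⟨⟨a, ha⟩, ⟨b, hb⟩, fun e => hba (congrArg Subtype.val e).symm⟩⟩
  exact ⟨_, hZ.isKer_of_subgroup w h2.kernel fun _ => h2.mem_kernel⟩

/-- conjugation by an element swapping two points, on the two-point stabiliser -/
def swapAut {a b : Ω} (s : G) (hs1 : s • a = b) (hs2 : s • b = a) : MulAut (stab2 G a b) where
  toFun g := ⟨s * g.1 * s⁻¹, by
      change (s * g.1 * s⁻¹) • a = a
      rw [mul_smul, mul_smul, inv_smul_eq_iff.mpr hs2.symm, g.2.2, hs2], by
      change (s * g.1 * s⁻¹) • b = b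
      rw [mul_smul, mul_smul, inv_smul_eq_iff.mpr hs1.symm, g.2.1, hs1]⟩
  invFun g := ⟨s⁻¹ * g.1 * s, by
      change (s⁻¹ * g.1 * s) • a = a
      rw [mul_smul, mul_smul, hs1, g.2.2, inv_smul_eq_iff, hs1], by
      change (s⁻¹ * g.1 * s) • b = b
      rw [mul_smul, mul_smul, hs2, g.2.1, inv_smul_eq_iff, hs2]⟩
  left_inv g := Subtype.ext (by simp [mul_assoc])
  right_inv g := Subtype.ext (by simp [mul_assoc])
  map_mul' g k := Subtype.ext (by simp [mul_assoc])

theorem swapAut_apply {a b : Ω} (s : G) (hs1 : s • a = b) (hs2 : s • b = a) (g : stab2 G a b) :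
    (swapAut s hs1 hs2 g : G) = s * g.1 * s⁻¹ := rfl

theorem swapAut_involutive {a b : Ω} (s : G) (hs1 : s • a = b) (hs2 : s • b = a)
    (hss : s * s = 1) : Function.Involutive (swapAut s hs1 hs2) := fun g => Subtype.ext (by
  rw [swapAut_apply, swapAut_apply]
  calc s * (s * g.1 * s⁻¹) * s⁻¹ = (s * s) * g.1 * (s * s)⁻¹ := by group
    _ = g.1 := by rw [hss]; simp)

/-- In odd degree every involution swapping two points inverts their stabiliser. -/
theorem IsZ.inverts_of_odd (h : IsZ G Ω) [Finite Ω] (hodd : Odd (Nat.card Ω)) {a b : Ω}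
    (hab : a ≠ b) (s : G) (hss : s * s = 1) (hs1 : s • a = b) (hs2 : s • b = a) :
    ∀ g ∈ stab2 G a b, s * g * s⁻¹ = g⁻¹ := by
  have := h.finite
  have hs : s ≠ 1 := by rintro rfl; exact hab (by simpa using hs1)
  have h1 := h.card_fixedBy_le hs
  have h2 := card_fixedBy_modEq (Ω := Ω) (g := s) (p := 2) (by rw [pow_two, hss])
  rw [Nat.ModEq] at h2
  rw [Nat.odd_iff] at hodd
  obtain ⟨hsub, ⟨i, hi⟩⟩ := Nat.card_eq_one_iff_unique.mp
    (show Nat.card (fixedBy Ω s) = 1 by omega)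
  have hi' : s • i = i := hi
  have hfpf : MonoidHom.FixedPointFree (swapAut s hs1 hs2) := by
    intro g hg
    have hg' : s * g.1 * s⁻¹ = g.1 := congrArg Subtype.val hg
    have h3 : g.1 • i ∈ fixedBy Ω s := by
      change s • g.1 • i = g.1 • i
      rw [← mul_smul, mul_inv_eq_iff_eq_mul.mp hg', mul_smul, hi']
    have h4 : g.1 • i = i := congrArg Subtype.val (hsub.elim ⟨_, h3⟩ ⟨i, hi⟩)
    exact Subtype.ext (h.three g.1 a b i hab (by rintro rfl; exact hab (hs2.symm.trans hi'))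
      (by rintro rfl; exact hab (hi'.symm.trans hs1)) g.2.1 g.2.2 h4)
  intro g hg
  have := congrFun (hfpf.coe_eq_inv_of_involutive (swapAut_involutive s hs1 hs2 hss)) ⟨g, hg⟩
  exact congrArg Subtype.val this

/-- A sharply 3-transitive group whose two-point stabiliser is inverted by the element swapping
the two points and fixing a third one is `PGL(2,K)`. -/
theorem IsSharp3.iso_PGL_of_inverts (h : IsSharp3 G Ω) [Finite Ω] {w o i : Ω} (ho : o ≠ w)
    (hiw : i ≠ w) (hio : i ≠ o) (s : G) (hs1 : s • w = o) (hs2 : s • o = w) (hs3 : s • i = i)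
    (hinv : ∀ g ∈ stab2 G w o, s * g * s⁻¹ = g⁻¹) :
    ∃ (K : Type) (_ : Field K) (_ : Fintype K), Nat.card Ω = Fintype.card K + 1 ∧
      Nonempty (G ≃* Matrix.ProjGenLinGroup (Fin 2) K) := by
  have h3 : 3 ≤ Nat.card Ω := by
    simpa using Nat.card_le_card_of_injective _ (emb3 ho.symm hio.symm hiw.symm).injective
  have hZ := h.isZ h3
  obtain ⟨F, hF⟩ := h.exists_isKer h3 w
  have hbig : Nat.card Ω - 2 ≤ 2 * Nat.card (stab2 G w o) := by
    rw [h.card_stab2 h3 ho.symm]; omega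
  obtain ⟨hcomm, -⟩ := hF.elementary_of_big hZ ho h3 le_rfl hbig
  obtain ⟨K, _, _, f, rfl, rfl, rfl, -, hT, -, hA, -⟩ := hF.exists_coord hcomm ho hiw hio
    (stab2 G w o) (fun _ ha => ha) (comm_of_inverted hinv) (hF.eq_of_invariant hZ ho le_rfl hbig)
  have hT' : ∀ b : K, ∃ u : G, u • f ∞ = f ∞ ∧ ∀ x : K, u • f x = f (x + b : K) := fun b => by
    obtain ⟨u, hu, hu'⟩ := hT b
    exact ⟨u, hF.fix u hu, hu'⟩
  have hcard : Nat.card Ω = Fintype.card K + 1 := by rw [← Nat.card_congr f, card_onePoint]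
  have hH' : ∀ c : K, c ≠ 0 → ∃ a ∈ stab2 G (f ∞) (f (0 : K)), ∀ x : K, a • f x = f (c * x : K) := by
    intro c hc
    obtain ⟨a, h1, h2, h4⟩ := h.trans3 (f ∞) (f (0 : K)) (f (1 : K)) (f ∞) (f (0 : K)) (f c)
      (by simp) (by simp) (by simp) (by simp) (by simpa using hc.symm) (by simp)
    obtain ⟨c', hc'⟩ := hA a ⟨h1, h2⟩
    have := hc' 1
    rw [h4, f.apply_eq_iff_eq, coe_eq_coe, mul_one] at this
    exact ⟨a, ⟨h1, h2⟩, this ▸ hc'⟩
  refine ⟨K, inferInstance, inferInstance, hcard,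
    iso_PGL_of_coord hZ f hT' (fun a ha => ?_) hH' s 1 one_ne_zero hs1 hs2 fun x hx => ?_⟩
  · obtain ⟨c, hc⟩ := hA a ha
    refine ⟨c, ?_, hc⟩
    rintro rfl
    have h1 := hc 1
    rw [zero_mul, ← ha.2, smul_left_cancel_iff] at h1
    exact hio h1
  · obtain ⟨a, ha, ha'⟩ := hH' x hx
    have h1 : s * a = a⁻¹ * s := by rw [← hinv a ha]; simp
    rw [← mul_one x, ← ha', ← mul_smul, h1, mul_smul, hs3, inv_smul_eq_iff, ha']
    congr 2
    field_simp

theorem IsSharp3.iso_PGL_of_odd (h : IsSharp3 G Ω) [Finite Ω] (h3 : 3 ≤ Nat.card Ω)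
    (hodd : Odd (Nat.card Ω)) :
    ∃ (K : Type) (_ : Field K) (_ : Fintype K), Nat.card Ω = Fintype.card K + 1 ∧
      Nonempty (G ≃* Matrix.ProjGenLinGroup (Fin 2) K) := by
  have : Nontrivial Ω := Finite.one_lt_card_iff_nontrivial.mp (by omega)
  obtain ⟨o, w, ho⟩ := exists_pair_ne Ω
  obtain ⟨i, hiw, hio⟩ := exists_ne_ne h3 w o
  obtain ⟨s, hs1, hs2, hs3⟩ := h.trans3 w o i o w i ho.symm hio.symm hiw.symm ho hiw.symm hio.symm
  have hss : s * s = 1 := h.three _ w o i ho.symm hio.symm hiw.symm (by rw [mul_smul, hs1, hs2])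
    (by rw [mul_smul, hs2, hs1]) (by rw [mul_smul, hs3, hs3])
  exact h.iso_PGL_of_inverts ho hiw hio s hs1 hs2 hs3
    ((h.isZ h3).inverts_of_odd hodd ho.symm s hss hs1 hs2)

/-- A two-point stabiliser of a sharply 3-transitive group has at most two elements of order 3. -/
theorem IsSharp3.card_order_three_le (h : IsSharp3 G Ω) [Finite Ω] {a b : Ω} (hab : a ≠ b)
    (h3 : 3 ≤ Nat.card Ω) : Nat.card {g : G // g ∈ stab2 G a b ∧ orderOf g = 3} ≤ 2 := by
  classical
  have hZ := h.isZ h3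
  have := hZ.finite
  have := Fintype.ofFinite G
  have := Fintype.ofFinite Ω
  set m := Nat.card {g : G // g ∈ stab2 G a b ∧ orderOf g = 3} with hm
  set N := Nat.card Ω with hN
  let I : Finset G := Finset.univ.filter fun s => orderOf s = 3 ∧ Nat.card (fixedBy Ω s) = 2
  let P : Finset (Ω × Ω) := Finset.univ.offDiag
  have hP : P.card = N * N - N := by
    rw [Finset.offDiag_card, Finset.card_univ, hN, Nat.card_eq_fintype_card]
  have hPpos : 0 < P.card := by
    rw [hP]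
    have : N * 2 ≤ N * N := Nat.mul_le_mul_left _ (by omega)
    omega
  have c1 := Finset.sum_card_bipartiteAbove_eq_sum_card_bipartiteBelow
    (fun (s : G) (x : Ω × Ω) => s • x.1 = x.1 ∧ s • x.2 = x.2) (s := I) (t := P)
  have hfix : ∀ s ∈ I, (Finset.univ.filter fun x : Ω => s • x = x).card = 2 := by
    intro s hs
    rw [← (Finset.mem_filter.mp hs).2.2, Nat.card_eq_fintype_card, Fintype.card_subtype]
    rfl
  have c1l : ∀ s ∈ I, (Finset.bipartiteAbove
      (fun (s : G) (x : Ω × Ω) => s • x.1 = x.1 ∧ s • x.2 = x.2) P s).card = 2 := by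
    intro s hs
    have : Finset.bipartiteAbove (fun (s : G) (x : Ω × Ω) => s • x.1 = x.1 ∧ s • x.2 = x.2) P s =
        (Finset.univ.filter fun x : Ω => s • x = x).offDiag := by
      ext x
      simp [P, and_comm, and_left_comm]
    rw [this, Finset.offDiag_card, hfix s hs]
  have c1r : ∀ x ∈ P, m ≤ (Finset.bipartiteBelow
      (fun (s : G) (x : Ω × Ω) => s • x.1 = x.1 ∧ s • x.2 = x.2) I x).card := by
    intro x hx
    have hx' : x.1 ≠ x.2 := (Finset.mem_offDiag.mp hx).2.2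
    obtain ⟨t, ht1, ht2⟩ := hZ.trans a b x.1 x.2 hab hx'
    rw [hm, Nat.card_eq_fintype_card, Fintype.card_subtype]
    refine Finset.card_le_card_of_injOn (fun g => t * g * t⁻¹) ?_ ?_
    · intro g hg
      obtain ⟨hg1, hg2⟩ := (Finset.mem_filter.mp hg).2
      have hg3 : g ≠ 1 := by rintro rfl; simp at hg2
      rw [Finset.mem_coe, Finset.mem_bipartiteBelow]
      refine ⟨Finset.mem_filter.mpr ⟨Finset.mem_univ _, ?_, ?_⟩, ?_, ?_⟩
      · rw [← hg2]; exact (MulAut.conj t).orderOf_eq g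
      · rw [card_fixedBy_conj, hZ.card_fixedBy_of_mem_stab2 hab hg1 hg3]
      · rw [mul_smul, mul_smul, inv_smul_eq_iff.mpr ht1.symm, hg1.1, ht1]
      · rw [mul_smul, mul_smul, inv_smul_eq_iff.mpr ht2.symm, hg1.2, ht2]
    · intro g _ k _ hgk
      simpa using hgk
  have hI : P.card * m ≤ I.card * 2 := by
    rw [Finset.sum_congr rfl c1l, Finset.sum_const, smul_eq_mul] at c1
    rw [c1]
    simpa using Finset.sum_le_sum c1r
  -- second count
  have c2 := Finset.sum_card_bipartiteAbove_eq_sum_card_bipartiteBelow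
    (fun (s : G) (x : Ω × Ω) => s • x.1 = x.2) (s := I) (t := P)
  have c2l : ∀ s ∈ I, (Finset.bipartiteAbove
      (fun (s : G) (x : Ω × Ω) => s • x.1 = x.2) P s).card = N - 2 := by
    intro s hs
    have h4 : (Finset.univ.filter fun x : Ω => ¬ s • x = x).card = N - 2 := by
      have := Finset.card_filter_add_card_filter_not (s := Finset.univ) (fun x : Ω => s • x = x)
      rw [hfix s hs, Finset.card_univ, ← Nat.card_eq_fintype_card] at this
      omega
    rw [← h4]
    symm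
    refine Finset.card_bij (fun x _ => (x, s • x)) ?_ ?_ ?_
    · intro x hx
      simp only [Finset.mem_filter, Finset.mem_univ, true_and] at hx
      simp [P, Ne.symm hx]
    · intro x _ y _ hxy
      exact congrArg Prod.fst hxy
    · rintro ⟨x, y⟩ hxy
      simp only [Finset.mem_bipartiteAbove, P, Finset.mem_offDiag, Finset.mem_univ, true_and] at hxy
      obtain ⟨h5, rfl⟩ := hxy
      exact ⟨x, by simpa using Ne.symm h5, rfl⟩
  have c2r : ∀ x ∈ P, (Finset.bipartiteBelow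
      (fun (s : G) (x : Ω × Ω) => s • x.1 = x.2) I x).card ≤ N - 2 := by
    intro x hx
    have hx' : x.1 ≠ x.2 := (Finset.mem_offDiag.mp hx).2.2
    rw [hN, ← natCard_ne_ne hx', Nat.card_eq_fintype_card, Fintype.card_subtype]
    have hcube : ∀ s ∈ Finset.bipartiteBelow (fun (s : G) (x : Ω × Ω) => s • x.1 = x.2) I x,
        s • x.1 = x.2 ∧ s • s • x.2 = x.1 ∧ s • x.2 ≠ x.1 ∧ s • x.2 ≠ x.2 := by
      intro s hs
      rw [Finset.mem_bipartiteBelow] at hs
      have h5 : s ^ 3 = 1 := by rw [← (Finset.mem_filter.mp hs.1).2.1, pow_orderOf_eq_one]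
      have h6 : s • s • x.2 = x.1 := by
        rw [← hs.2, ← mul_smul, ← mul_smul, ← pow_two, ← pow_succ, h5, one_smul]
      refine ⟨hs.2, h6, fun e => hx' ?_, fun e => hx' ?_⟩
      · rw [e, hs.2] at h6; exact h6.symm
      · rw [e, e] at h6; exact h6.symm
    refine Finset.card_le_card_of_injOn (fun s => s • x.2) ?_ ?_
    · intro s hs
      simpa using (hcube s hs).2.2
    · intro s hs t ht hst
      obtain ⟨s1, s2, s3, s4⟩ := hcube s hs
      obtain ⟨t1, t2, -, -⟩ := hcube t ht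
      have hst' : s • x.2 = t • x.2 := hst
      exact hZ.eq_of_smul_eq hx' s4.symm s3.symm (s1.trans t1.symm) hst'
        (by rw [s2, hst', t2])
  rw [Finset.sum_congr rfl c2l, Finset.sum_const, smul_eq_mul] at c2
  have hsum := Finset.sum_le_sum c2r
  rw [Finset.sum_const, smul_eq_mul, ← c2] at hsum
  have h7 : I.card ≤ P.card := Nat.le_of_mul_le_mul_right hsum (by omega)
  refine Nat.le_of_mul_le_mul_left ?_ hPpos
  omega

theorem IsSharp3.eq_of_card_three (h : IsSharp3 G Ω) [Finite Ω] {a b : Ω} (hab : a ≠ b)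
    (h3 : 3 ≤ Nat.card Ω) (A B : Subgroup G) (hA : A ≤ stab2 G a b) (hB : B ≤ stab2 G a b)
    (hA3 : Nat.card A = 3) (hB3 : Nat.card B = 3) : A = B := by
  have := (h.isZ h3).finite
  have key : ∀ C : Subgroup G, C ≤ stab2 G a b → Nat.card C = 3 →
      {g : G | g ∈ C ∧ g ≠ 1} = {g : G | g ∈ stab2 G a b ∧ orderOf g = 3} := by
    intro C hC hC3
    refine Set.eq_of_subset_of_ncard_le ?_ ?_ (Set.toFinite _)
    · rintro g ⟨hg, hg1⟩
      refine ⟨hC hg, ?_⟩
      have := Fact.mk Nat.prime_three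
      refine orderOf_eq_prime ?_ hg1
      have := pow_card_eq_one' (x := (⟨g, hg⟩ : C))
      rw [hC3] at this
      exact congrArg Subtype.val this
    · have h1 : {g : G | g ∈ C ∧ g ≠ 1}.ncard = 2 := by
        have := natCard_subgroup_ne_one C
        rw [hC3] at this
        exact this
      rw [h1]
      exact h.card_order_three_le hab h3
  have h1 := (key A hA hA3).trans (key B hB hB3).symm
  ext g
  by_cases hg : g = 1
  · simp [hg]
  · have := Set.ext_iff.mp h1 g
    simpa [hg] using this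

end

end Cfsg.Agent.H61
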