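import Mathlib
import Cfsg.Agent.H61.Sharp3
import Cfsg.Agent.H61.ZassOdd
import Cfsg.Agent.H61.NoIndexTwo

/-!
Sharply triply transitive groups of even degree: the two-point stabiliser has an inverted
subgroup of index two, coordinates, and the subgroup of index two acting as `PSL(2,K)`.
-/

set_option autoImplicit false

namespace Cfsg.Agent.H61

open MulAction OnePoint

variable {G Ω : Type*} [Group G] [MulAction G Ω]

theorem IsZ.card_fixed_swapAut_le (h : IsZ G Ω) [Finite Ω] {a b c : Ω} (hab : a ≠ b)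
    (hca : c ≠ a) (hcb : c ≠ b) (s : G) (hs1 : s • a = b) (hs2 : s • b = a) (hs3 : s • c = c) :
    Nat.card {g : stab2 G a b // swapAut s hs1 hs2 g = g} ≤ 2 := by
  have hs : s ≠ 1 := by rintro rfl; exact hab (by simpa using hs1)
  refine le_trans (Nat.card_le_card_of_injective
    (fun g : {g : stab2 G a b // swapAut s hs1 hs2 g = g} => (⟨g.1.1 • c, ?_⟩ : fixedBy Ω s)) ?_)
    (h.card_fixedBy_le hs)
  · have e : s * g.1.1 * s⁻¹ = g.1.1 := congrArg Subtype.val g.2
    change s • g.1.1 • c = g.1.1 • c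
    rw [← mul_smul, mul_inv_eq_iff_eq_mul.mp e, mul_smul, hs3]
  · intro g k hgk
    exact Subtype.ext (Subtype.ext (h.eq_of_smul_eq hab hcb.symm hca.symm
      (g.1.2.1.trans k.1.2.1.symm) (g.1.2.2.trans k.1.2.2.symm) (congrArg Subtype.val hgk)))

theorem IsSharp3.exists_index_two (h : IsSharp3 G Ω) [Finite Ω] (heven : Even (Nat.card Ω))
    {a b c : Ω} (hab : a ≠ b) (hca : c ≠ a) (hcb : c ≠ b) (s : G) (hs1 : s • a = b)
    (hs2 : s • b = a) (hs3 : s • c = c) :
    ∃ A : Subgroup G, A ≤ stab2 G a b ∧ (A.subgroupOf (stab2 G a b)).index = 2 ∧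
      ∀ x ∈ A, s * x * s⁻¹ = x⁻¹ := by
  have h3 : 3 ≤ Nat.card Ω := by
    simpa using Nat.card_le_card_of_injective _ (emb3 hab hcb.symm hca.symm).injective
  have hZ := h.isZ h3
  have := hZ.finite
  have hss : s * s = 1 := h.three _ a b c hab hcb.symm hca.symm (by rw [mul_smul, hs1, hs2])
    (by rw [mul_smul, hs2, hs1]) (by rw [mul_smul, hs3, hs3])
  obtain ⟨F, hF⟩ := h.exists_isKer h3 a
  have hd := h.card_stab2 h3 hab
  obtain ⟨hcomm, -⟩ := hF.elementary_of_big hZ hab.symm h3 le_rfl (by rw [hd]; omega)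
  have hFc := hF.card_eq hab.symm
  let _ := H5.conjAction (stab2 G a b) F (hF.le_normalizer b)
  let _ : CommGroup F := { (inferInstance : Group F) with
    mul_comm := fun x y => Subtype.ext (hcomm _ x.2 _ y.2) }
  have : Nontrivial F := Finite.one_lt_card_iff_nontrivial.mp (by omega)
  have hγ := swapAut_involutive s hs1 hs2 hss
  have h2 := hZ.card_fixed_swapAut_le hab hca hcb s hs1 hs2 hs3
  obtain ⟨M, hM⟩ := exists_index_two_of_regular (K := F) (hF.semireg hZ hab.symm)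
    (by rw [hd, hFc]; omega) (by rw [hd]; obtain ⟨k, hk⟩ := heven; omega) _ hγ h2
    (fun A B hA hB => Subgroup.map_injective (stab2 G a b).subtype_injective
      (h.eq_of_card_three hab h3 _ _ (Subgroup.map_subtype_le _) (Subgroup.map_subtype_le _)
        (by rw [Subgroup.card_subtype, hA]) (by rw [Subgroup.card_subtype, hB])))
  obtain ⟨A, hA, hAi⟩ := exists_invariant_index_two _ hγ M hM
  refine ⟨A.map (stab2 G a b).subtype, Subgroup.map_subtype_le _, ?_, ?_⟩
  · rw [Subgroup.subgroupOf, Subgroup.comap_map_eq_self_of_injective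
      (stab2 G a b).subtype_injective, hA]
  · rintro _ ⟨x, hx, rfl⟩
    exact congrArg Subtype.val (inverts_of_invariant_index_two _ hγ h2 A hA hAi x hx)

/-- Coordinates for a sharply triply transitive group of even degree. -/
theorem IsSharp3.exists_coord_even (h : IsSharp3 G Ω) [Finite Ω] (heven : Even (Nat.card Ω))
    {w o i : Ω} (ho : o ≠ w) (hiw : i ≠ w) (hio : i ≠ o) :
    ∃ (K : Type) (_ : Field K) (_ : Fintype K) (f : OnePoint K ≃ Ω),
      f ∞ = w ∧ f (0 : K) = o ∧ f (1 : K) = i ∧ ringChar K ≠ 2 ∧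
      (∀ b : K, ∃ u : G, u • f ∞ = f ∞ ∧ ∀ x : K, u • f x = f (x + b : K)) ∧
      (∃ A : Subgroup G, A ≤ stab2 G w o ∧ 2 * Nat.card A = Nat.card Ω - 2 ∧
        (∀ a ∈ A, ∃ c : K, c ≠ 0 ∧ ∀ x : K, a • f x = f (c ^ 2 * x : K)) ∧
        ∀ c : K, c ≠ 0 → ∃ a ∈ A, ∀ x : K, a • f x = f (c ^ 2 * x : K)) ∧
      (∀ g ∈ stab2 G w o, ∃ (c : K) (τ : K ≃+* K), c ≠ 0 ∧ (∀ x, τ (τ x) = x) ∧
        ∀ x : K, g • f x = f (c * τ x : K)) ∧
      (∃ z ∈ stab2 G w o, ∀ x : K, z • f x = f (-x : K)) ∧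
      ∃ s : G, s • w = o ∧ s • o = w ∧ ∀ x : K, x ≠ 0 → s • f x = f (x⁻¹ : K) := by
  have h3 : 3 ≤ Nat.card Ω := by
    simpa using Nat.card_le_card_of_injective _ (emb3 ho.symm hio.symm hiw.symm).injective
  have hZ := h.isZ h3
  have := hZ.finite
  obtain ⟨s, hs1, hs2, hs3⟩ := h.trans3 w o i o w i ho.symm hio.symm hiw.symm ho hiw.symm hio.symm
  obtain ⟨A, hAH, hA2, hinv⟩ := h.exists_index_two heven ho.symm hiw hio s hs1 hs2 hs3
  have hd := h.card_stab2 h3 ho.symm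
  have hAc : 2 * Nat.card A = Nat.card Ω - 2 := by
    have := (A.subgroupOf (stab2 G w o)).index_mul_card
    rwa [hA2, Nat.card_congr (Subgroup.subgroupOfEquivOfLe hAH).toEquiv, hd] at this
  obtain ⟨F, hF⟩ := h.exists_isKer h3 w
  obtain ⟨hcomm, -⟩ := hF.elementary_of_big hZ ho h3 hAH hAc.ge
  obtain ⟨K, _, _, f, rfl, rfl, rfl, -, hT, hψ, hA, hirr⟩ := hF.exists_coord hcomm ho hiw hio
    A (fun _ ha => hAH ha) (comm_of_inverted hinv) (hF.eq_of_invariant hZ ho hAH hAc.ge)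
  have hT' : ∀ b : K, ∃ u : G, u • f ∞ = f ∞ ∧ ∀ x : K, u • f x = f (x + b : K) := fun b => by
    obtain ⟨u, hu, hu'⟩ := hT b
    exact ⟨u, hF.fix u hu, hu'⟩
  have hcard : Nat.card Ω = Fintype.card K + 1 := by rw [← Nat.card_congr f, card_onePoint]
  obtain ⟨hchar, hH, hH'⟩ := scalars_eq_squares hZ f A hAH hA (by omega)
  have hAn : (A.subgroupOf (stab2 G (f ∞) (f (0 : K)))).Normal :=
    Subgroup.normal_of_index_eq_two hA2
  -- involutions of the two-point stabiliser act as `-1`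
  have hneg : ∀ z ∈ stab2 G (f ∞) (f (0 : K)), z ≠ 1 → z * z = 1 →
      ∀ x : K, z • f x = f (-x : K) := by
    intro z hz hz1 hzz x
    obtain ⟨ψ, hψ⟩ := hψ z hz
    have h1 : ψ (ψ x) = x := by
      have := hψ (ψ x)
      rw [← hψ x, ← mul_smul, hzz, one_smul, f.apply_eq_iff_eq, coe_eq_coe] at this
      exact this.symm
    have h2 : x + ψ x = 0 := by
      by_contra h0
      refine hz1 (h.three z (f ∞) (f (0 : K)) (f (x + ψ x : K)) (by simp)
        (by simpa using Ne.symm h0) (by simp) hz.1 hz.2 ?_)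
      rw [hψ, map_add, h1, add_comm]
    rw [hψ, eq_neg_of_add_eq_zero_right h2]
  obtain ⟨⟨z, hz⟩, hz1, hzz⟩ := exists_involution_of_even (H := stab2 G (f ∞) (f (0 : K)))
    (by rw [hd]; obtain ⟨k, hk⟩ := heven; exact ⟨k - 1, by omega⟩)
  replace hz1 : z ≠ 1 := fun e => hz1 (Subtype.ext e)
  replace hzz : z * z = 1 := congrArg Subtype.val hzz
  refine ⟨K, inferInstance, inferInstance, f, rfl, rfl, rfl, hchar, hT',
    ⟨A, hAH, hAc, hH, hH'⟩, fun g hg => ?_, ⟨z, hz, hneg z hz hz1 hzz⟩, s, hs1, hs2, ?_⟩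
  · obtain ⟨ψ, hψ⟩ := hψ g hg
    obtain ⟨τ, hτ⟩ := exists_ringEquiv_of_normalizes _ hirr ψ (by
      rintro c ⟨a, ha, hc⟩
      obtain ⟨c', hc'⟩ := hA (g * a * g⁻¹) (hAn.conj_mem ⟨a, hAH ha⟩ ha ⟨g, hg⟩)
      refine ⟨c', fun x => ?_⟩
      have := hc' (ψ x)
      rw [← hψ, ← mul_smul, inv_mul_cancel_right, mul_smul, hc, hψ, f.apply_eq_iff_eq,
        coe_eq_coe] at this
      exact this)
    have hc : ψ 1 ≠ 0 := by simp
    refine ⟨ψ 1, τ, hc, fun x => ?_, fun x => by rw [hψ, hτ]⟩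
    obtain ⟨c', hc'⟩ := hA (g * g) (Subgroup.mul_self_mem_of_index_two hA2 ⟨g, hg⟩)
    have key : ∀ y : K, ψ 1 * τ (ψ 1) * τ (τ y) = c' * y := fun y => by
      have := hc' y
      rw [mul_smul, hψ, hψ, f.apply_eq_iff_eq, coe_eq_coe, hτ, hτ y, map_mul] at this
      rw [← this, mul_assoc]
    have k1 := key 1
    rw [map_one τ, map_one τ, mul_one, mul_one] at k1
    have k2 := key x
    rw [← k1] at k2
    exact mul_left_cancel₀ (mul_ne_zero hc ((map_ne_zero τ).mpr hc)) k2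
  · obtain ⟨u, hu1, hu2⟩ := hT' 1
    refine swap_eq_inv hchar hZ f s hs1 hs2 hs3 (fun c hc => ?_) (u * z)
      (by rw [mul_smul, hz.1, hu1]) (fun x => by
        rw [mul_smul, hneg z hz hz1 hzz, hu2]; congr 2; ring) (Or.inr ?_)
    · obtain ⟨a, ha, ha'⟩ := hH' c hc
      exact ⟨a, ha', by rw [← hinv a ha]; simp⟩
    · have := hneg (s * z * s⁻¹) (swapAut s hs1 hs2 ⟨z, hz⟩).2
        (fun e => hz1 (by simpa using e)) (by
          calc s * z * s⁻¹ * (s * z * s⁻¹) = s * (z * z) * s⁻¹ := by group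
            _ = 1 := by rw [hzz]; simp) 1
      rwa [mul_smul, mul_smul, inv_smul_eq_iff.mpr hs3.symm, hneg z hz hz1 hzz] at this

theorem ringEquiv_eq_of_odd {K : Type*} [Field K] [Fintype K] {p f : ℕ} (hp : p.Prime)
    (hf : Odd f) (hK : Fintype.card K = p ^ f) (τ : K ≃+* K) (hτ : ∀ x, τ (τ x) = x) (x : K) :
    τ x = x := by
  have : Fact p.Prime := ⟨hp⟩
  have : CharP K p := charP_of_card_eq_prime_pow hK
  let _ := ZMod.algebra K p
  let σ : K ≃ₐ[ZMod p] K := AlgEquiv.ofRingEquiv (f := τ) fun c => by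
    exact RingHom.congr_fun (Subsingleton.elim (τ.toRingHom.comp (algebraMap (ZMod p) K))
      (algebraMap (ZMod p) K)) c
  have h1 : σ ^ 2 = 1 := AlgEquiv.ext fun y => hτ y
  have h2 : Module.finrank (ZMod p) K = f := by
    have := Module.card_eq_pow_finrank (K := ZMod p) (V := K)
    rw [hK, ZMod.card] at this
    exact (Nat.pow_right_injective hp.two_le this).symm
  have h3 : orderOf σ ∣ f := by
    rw [← h2, ← IsGalois.card_aut_eq_finrank]
    exact orderOf_dvd_natCard σ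
  have h4 : orderOf σ = 1 := Nat.eq_one_of_dvd_coprimes (Nat.coprime_two_left.mpr hf)
    (orderOf_dvd_of_pow_eq_one h1) h3
  exact AlgEquiv.congr_fun (orderOf_eq_one_iff.mp h4) x

theorem IsSharp3.iso_PGL_of_odd_exponent (h : IsSharp3 G Ω) [Finite Ω] {p f : ℕ} (hp : p.Prime)
    (hp2 : p ≠ 2) (hf : Odd f) (hc : Nat.card Ω = p ^ f + 1) :
    ∃ (K : Type) (_ : Field K) (_ : Fintype K), Fintype.card K = p ^ f ∧
      Nonempty (G ≃* Matrix.ProjGenLinGroup (Fin 2) K) := by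
  have h3 : 3 ≤ Nat.card Ω := by
    have := Nat.one_lt_pow hf.pos.ne' hp.one_lt
    omega
  have : Nontrivial Ω := Finite.one_lt_card_iff_nontrivial.mp (by omega)
  obtain ⟨o, w, ho⟩ := exists_pair_ne Ω
  obtain ⟨i, hiw, hio⟩ := exists_ne_ne h3 w o
  obtain ⟨K, _, _, e, rfl, rfl, rfl, -, hT, -, hH, -, s, hs1, hs2, hs⟩ := h.exists_coord_even
    (hc ▸ ((hp.odd_of_ne_two hp2).pow).add_one) ho hiw hio
  have hcard : Fintype.card K = p ^ f := by
    rw [← Nat.card_congr e, card_onePoint] at hc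
    omega
  have hH1 : ∀ a ∈ stab2 G (e ∞) (e (0 : K)), ∃ c : K, c ≠ 0 ∧
      ∀ x : K, a • e x = e (c * x : K) := fun a ha => by
    obtain ⟨c, τ, hc, hτ, ha'⟩ := hH a ha
    exact ⟨c, hc, fun x => by rw [ha', ringEquiv_eq_of_odd hp hf hcard τ hτ]⟩
  refine ⟨K, inferInstance, inferInstance, hcard, iso_PGL_of_coord (h.isZ h3) e hT hH1
    (fun c hc => ?_) s 1 one_ne_zero hs1 hs2 fun x hx => by rw [hs x hx, one_div]⟩
  obtain ⟨a, h1, h2, h4⟩ := h.trans3 (e ∞) (e (0 : K)) (e (1 : K)) (e ∞) (e (0 : K)) (e c)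
    (by simp) (by simp) (by simp) (by simp) (by simpa using hc.symm) (by simp)
  obtain ⟨c', -, hc'⟩ := hH1 a ⟨h1, h2⟩
  have := hc' 1
  rw [h4, e.apply_eq_iff_eq, coe_eq_coe, mul_one] at this
  exact ⟨a, ⟨h1, h2⟩, this ▸ hc'⟩

/-- A sharply triply transitive group of even degree at least four has a subgroup of index two. -/
theorem IsSharp3.exists_subgroup_index_two (h : IsSharp3 G Ω) [Finite Ω] (h3 : 3 ≤ Nat.card Ω)
    (heven : Even (Nat.card Ω)) : ∃ N : Subgroup G, N.index = 2 := by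
  classical
  have : Nontrivial Ω := Finite.one_lt_card_iff_nontrivial.mp (by omega)
  have hZ := h.isZ h3
  have := hZ.finite
  obtain ⟨o, w, ho⟩ := exists_pair_ne Ω
  obtain ⟨i, hiw, hio⟩ := exists_ne_ne h3 w o
  obtain ⟨K, _, _, f, rfl, rfl, rfl, hchar, hT, ⟨B, hBH, hBc, hB1, hB2⟩, -, ⟨z, hz, hz'⟩,
    s, hs1, hs2, hs⟩ := h.exists_coord_even heven ho hiw hio
  let N : Subgroup G :=
    { carrier := {g | ∃ M : GL (Fin 2) K, IsSquare M.1.det ∧ ∀ x, g • f x = f (M • x)}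
      one_mem' := ⟨1, by simp, fun x => by simp⟩
      mul_mem' := by
        rintro a b ⟨M, hM, ha⟩ ⟨M', hM', hb⟩
        refine ⟨M * M', ?_, fun x => by rw [mul_smul, hb, ha, mul_smul]⟩
        rw [Units.val_mul, Matrix.det_mul]
        exact hM.mul hM'
      inv_mem' := by
        rintro a ⟨M, hM, ha⟩
        refine ⟨M⁻¹, ?_, fun x => by rw [inv_smul_eq_iff, ha, smul_inv_smul]⟩
        rw [Matrix.coe_units_inv, Matrix.det_nonsing_inv, Ring.inverse_eq_inv']
        exact hM.inv }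
  have haff : ∀ (g : G) (a b : K), a ≠ 0 → g • f ∞ = f ∞ →
      (∀ x : K, g • f x = f (a ^ 2 * x + b : K)) → g ∈ N := by
    intro g a b ha h1 h2
    refine ⟨glOf (a ^ 2) b 0 1 (by simpa using ha), ?_, fun x => ?_⟩
    · change IsSquare (Matrix.det !![a ^ 2, b; 0, 1])
      rw [Matrix.det_fin_two_of]
      exact ⟨a, by ring⟩
    · cases x with
      | infty => rw [glOf_smul_infty, h1]; simp
      | coe x => rw [glOf_smul_coe, h2]; simp
  have ht : z * s ∈ N := by
    refine ⟨glOf 0 (-1) 1 0 (by simp), ?_, fun x => ?_⟩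
    · change IsSquare (Matrix.det !![(0 : K), -1; 1, 0])
      rw [Matrix.det_fin_two_of]
      simp
    · cases x with
      | infty => rw [glOf_smul_infty, mul_smul, hs1, hz.2]; simp
      | coe x =>
        rw [glOf_smul_coe, mul_smul]
        by_cases hx : x = 0
        · subst hx; rw [hs2, hz.1]; simp
        · rw [hs x hx, hz']; simp [hx, neg_div]
  have htr : ∀ y z : Ω, y ≠ f ∞ → z ≠ f ∞ → ∃ u ∈ N, u • f ∞ = f ∞ ∧ u • y = z := by
    intro y z hy hz
    obtain ⟨y, rfl⟩ := f.surjective y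
    obtain ⟨z, rfl⟩ := f.surjective z
    cases y with
    | infty => exact absurd rfl hy
    | coe y =>
    cases z with
    | infty => exact absurd rfl hz
    | coe z =>
      obtain ⟨u, hu1, hu2⟩ := hT (z - y)
      exact ⟨u, haff u 1 (z - y) one_ne_zero hu1 (by simpa using hu2), hu1, by
        rw [hu2]; simp⟩
  have hto : ∀ y : Ω, ∃ n ∈ N, n • y = f ∞ := by
    intro y
    by_cases hy : y = f ∞
    · exact ⟨1, N.one_mem, by rw [hy, one_smul]⟩
    · obtain ⟨u, hu, -, hu'⟩ := htr y (f (0 : K)) hy (by simp)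
      exact ⟨z * s * u, N.mul_mem ht hu, by rw [mul_smul, hu', mul_smul, hs2, hz.1]⟩
  have hN : IsZ N Ω :=
    { trans := fun a b c d hab hcd => by
        obtain ⟨n, hn, hn'⟩ := hto a
        obtain ⟨m, hm, hm'⟩ := hto c
        obtain ⟨u, hu, hu1, hu2⟩ := htr (n • b) (m • d)
          (fun e => hab (smul_left_cancel n (hn'.trans e.symm)))
          (fun e => hcd (smul_left_cancel m (hm'.trans e.symm)))
        refine ⟨⟨m⁻¹ * u * n, N.mul_mem (N.mul_mem (N.inv_mem hm) hu) hn⟩, ?_, ?_⟩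
        · change (m⁻¹ * u * n) • a = c
          rw [mul_smul, mul_smul, hn', hu1, inv_smul_eq_iff, hm']
        · change (m⁻¹ * u * n) • b = d
          rw [mul_smul, mul_smul, hu2, inv_smul_smul]
      three := fun g a b c h1 h2 h4 ha hb hc => Subtype.ext (h.three g.1 a b c h1 h2 h4 ha hb hc)
      faithful := fun g hg => Subtype.ext (hZ.faithful g.1 hg) }
  let A := (stab2 N (f ∞) (f (0 : K))).map N.subtype
  have hAH : A ≤ stab2 G (f ∞) (f (0 : K)) := by
    rintro _ ⟨g, hg, rfl⟩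
    exact hg
  have hsq : ∀ a ∈ A, ∃ c : K, c ≠ 0 ∧ ∀ x : K, a • f x = f (c ^ 2 * x : K) := by
    rintro _ ⟨⟨g, M, ⟨r, hM⟩, hg⟩, ⟨h1, h2⟩, rfl⟩
    change g • f ∞ = f ∞ at h1
    change g • f (0 : K) = f (0 : K) at h2
    rw [hg, f.apply_eq_iff_eq] at h1 h2
    have h10 : M 1 0 = 0 := smul_infty_eq_self_iff.mp h1
    have hdet := M.det_ne_zero
    have hr : r ≠ 0 := by
      rintro rfl
      exact hdet (by simpa using hM)
    rw [Matrix.det_fin_two, h10, mul_zero, sub_zero] at hdet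
    rw [Matrix.det_fin_two] at hM
    change M 0 0 * M 1 1 - M 0 1 * M 1 0 = r * r at hM
    have h11 : M 1 1 ≠ 0 := right_ne_zero_of_mul hdet
    rw [smul_some_eq_ite] at h2
    simp only [h10, mul_zero, zero_add, h11, if_false, coe_eq_coe, div_eq_zero_iff,
      or_false] at h2
    refine ⟨r / M 1 1, div_ne_zero hr h11, fun x => ?_⟩
    change g • f x = _
    rw [hg, smul_some_eq_ite]
    simp only [h10, zero_mul, zero_add, h11, if_false, h2, add_zero]
    congr 2
    rw [h10, mul_zero, sub_zero] at hM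
    field_simp
    linear_combination x * hM
  have hAB : A = B := by
    ext a
    constructor
    · intro ha
      obtain ⟨c, hc, h1⟩ := hsq a ha
      obtain ⟨b, hb, h2⟩ := hB2 c hc
      rwa [hZ.eq_of_smul_eq (g := a) (k := b) (a := f ∞) (b := f (0 : K)) (c := f (1 : K))
        (by simp) (by simp) (by simp) ((hAH ha).1.trans (hBH hb).1.symm)
        ((hAH ha).2.trans (hBH hb).2.symm) (by rw [h1, h2])]
    · intro ha
      obtain ⟨c, hc, h1⟩ := hB1 a ha
      exact ⟨⟨a, haff a c 0 hc (hBH ha).1 (by simpa using h1)⟩, hBH ha, rfl⟩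
  refine ⟨N, ?_⟩
  have e1 := hN.card_eq (a := f ∞) (b := f (0 : K)) (by simp)
  have e2 := hZ.card_eq (a := f ∞) (b := f (0 : K)) (by simp)
  have e3 := h.card_stab2 h3 (a := f ∞) (b := f (0 : K)) (by simp)
  have e4 := N.index_mul_card
  rw [← hAB, Subgroup.card_subtype] at hBc
  refine Nat.eq_of_mul_eq_mul_right (Nat.card_pos (α := N)) ?_
  rw [e4, e2, e3, e1, ← hBc]
  ring

end Cfsg.Agent.H61
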