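import Mathlib
import Cfsg.Agent.H92.Ito
import Cfsg.Agent.H92.Isol

/-! Class sizes with an isolated value; the order of the central quotient. -/

set_option autoImplicit false

open Cfsg Cfsg.Agent.H92 Subgroup
open scoped commutatorElement

namespace Cfsg.Agent.H61.CS

variable {G : Type*} [Group G] [Finite G]

/-- the order of the centraliser modulo the centre -/
noncomputable def cb (x : G) : ℕ := (center G).relIndex (Ce[x])

omit [Finite G] in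
theorem cb_mul_cs (x : G) : cb x * cs[x] = (center G).index :=
  relIndex_mul_index (center_le_C x)

theorem index_center_ne_zero : (center G).index ≠ 0 := index_ne_zero_of_finite

theorem mul_not_mem_center {x y : G} (h : Commute x y) (hc : (orderOf x).Coprime (orderOf y))
    (hx : x ∉ center G) : x * y ∉ center G := fun h1 =>
  hx ((zpowers_le.2 h1) (mem_zpowers_mul_of_coprime h hc))

/-- the class size of `w` is isolated in the divisibility order -/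
def Iso (w : G) : Prop :=
  w ∉ center G ∧ ∀ y : G, y ∉ center G → (cs[y] ∣ cs[w] ∨ cs[w] ∣ cs[y]) → cs[y] = cs[w]

theorem Iso.eq_of_le {w y : G} (hw : Iso w) (hy : y ∉ center G) (h : Ce[w] ≤ Ce[y]) :
    Ce[y] = Ce[w] :=
  (eq_of_le_of_index_eq h (hw.2 y hy (Or.inl (cs_dvd_of_le h))).symm).symm

theorem Iso.eq_of_ge {w y : G} (hw : Iso w) (hy : y ∉ center G) (h : Ce[y] ≤ Ce[w]) :
    Ce[y] = Ce[w] :=
  eq_of_le_of_index_eq h (hw.2 y hy (Or.inr (cs_dvd_of_le h)))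

theorem Iso.step {w u y : G} (hw : Iso w) (hu : u ∉ center G) (huw : Ce[u] = Ce[w])
    (hy : y ∈ Ce[w]) (hc : (orderOf u).Coprime (orderOf y)) : Ce[w] ≤ Ce[y] := by
  have h1 : Commute u y := mem_C'.1 (huw ▸ hy)
  have h2 := C_mul_of_coprime h1 hc
  have h3 := hw.eq_of_ge (mul_not_mem_center h1 hc hu) (by rw [h2, huw]; exact inf_le_left)
  rw [← h3, h2]
  exact inf_le_right

theorem Iso.le_of_two {w : G} (hw : Iso w) {r s : ℕ} (hr : r.Prime) (hs : s.Prime) (hrs : r ≠ s)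
    (h1 : r ∣ cb w) (h2 : s ∣ cb w) {y : G} (hy : y ∈ Ce[w]) : Ce[w] ≤ Ce[y] := by
  obtain ⟨w', hw'1, t, ht, -, hw'2, hw'3⟩ := exists_primePow_not_mem hw.1
  have hw'4 : Ce[w'] = Ce[w] := hw.eq_of_le hw'3 (C_le_C_of_mem_zpowers hw'1)
  have key : ∃ r', r'.Prime ∧ r' ≠ t ∧ r' ∣ cb w := by
    by_cases h : r = t
    · exact ⟨s, hs, fun h' => hrs (h.trans h'.symm), h2⟩
    · exact ⟨r, hr, h, h1⟩
  obtain ⟨r', hr', hr't, hr'd⟩ := key
  obtain ⟨u, hu1, hu2, hu3⟩ := exists_not_mem_of_dvd_relIndex hr' hr'd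
  have hu4 : Ce[u] = Ce[w] := hw.eq_of_le hu3
    (hw.step hw'3 hw'4 hu1 (coprime_of_pow_of_pow ht hr' (Ne.symm hr't) hw'2 hu2))
  intro g hg
  rw [mem_C_comm]
  apply mem_of_forall_primePow
  intro v hv t' ht' _ hv2
  have hv1 : v ∈ Ce[w] := (zpowers_le.2 hy) hv
  rw [mem_C_comm]
  by_cases h : t' = t
  · subst h
    exact hw.step hu3 hu4 hv1 (coprime_of_pow_of_pow hr' ht' hr't hu2 hv2) hg
  · exact hw.step hw'3 hw'4 hv1 (coprime_of_pow_of_pow ht ht' (Ne.symm h) hw'2 hv2) hg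

theorem Iso.cs_eq {w : G} (hw : Iso w) {r s : ℕ} (hr : r.Prime) (hs : s.Prime) (hrs : r ≠ s)
    (h1 : r ∣ cb w) (h2 : s ∣ cb w) {x : G} (hx : x ∉ center G) (hrx : ¬ r ∣ cs[x]) :
    cs[x] = cs[w] := by
  have := Fact.mk hr
  obtain ⟨u, hu1, hu2, hu3⟩ := exists_not_mem_of_dvd_relIndex hr h1
  have hu4 : Ce[u] = Ce[w] := hw.eq_of_le hu3 (hw.le_of_two hr hs hrs h1 h2 hu1)
  have hp : IsPGroup r (zpowers u) := by
    obtain ⟨k, hk⟩ := hu2
    exact IsPGroup.of_card (by rw [Nat.card_zpowers, hk])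
  obtain ⟨P, hP⟩ := hp.exists_le_sylow
  obtain ⟨g, hg⟩ := (not_dvd_cs_iff_conj P).1 hrx
  have h3 : g * x * g⁻¹ ∈ Ce[w] := by
    rw [← hu4, mem_C]
    exact ((mem_centralizer_iff.1 hg) u (hP (mem_zpowers u))).symm
  have h4 : g * x * g⁻¹ ∉ center G := fun h => hx (by
    have := (inferInstance : (center G).Normal).conj_mem _ h g⁻¹
    simpa [mul_assoc] using this)
  rw [← cs_conj g x, hw.eq_of_le h4 (hw.le_of_two hr hs hrs h1 h2 h3)]

/-- The shape of the class sizes of `PSL₂(q)`. -/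
structure Tri (G : Type*) [Group G] (m₁ m₂ m₃ : ℕ) : Prop where
  c12 : m₁.Coprime m₂
  c13 : m₁.Coprime m₃
  c23 : m₂.Coprime m₃
  l1 : 1 < m₁
  l2 : 1 < m₂
  l3 : 1 < m₃
  cases : ∀ x : G, x ∉ center G → cs[x] = m₂ * m₃ ∨ cs[x] = m₁ * m₃ ∨
    ∃ d, d ∣ m₃ ∧ d < m₃ ∧ cs[x] = m₁ * m₂ * d
  ex1 : ∃ x : G, cs[x] = m₂ * m₃
  ex2 : ∃ x : G, cs[x] = m₁ * m₃
  ex3 : ∃ x : G, cs[x] = m₁ * m₂

omit [Finite G] in
theorem Tri.swap {m₁ m₂ m₃ : ℕ} (h : Tri G m₁ m₂ m₃) : Tri G m₂ m₁ m₃ where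
  c12 := h.c12.symm
  c13 := h.c23
  c23 := h.c13
  l1 := h.l2
  l2 := h.l1
  l3 := h.l3
  cases x hx := by
    rcases h.cases x hx with h1 | h1 | ⟨d, h1, h2, h3⟩
    · exact Or.inr (Or.inl h1)
    · exact Or.inl h1
    · exact Or.inr (Or.inr ⟨d, h1, h2, by rw [h3, mul_comm m₁]⟩)
  ex1 := h.ex2
  ex2 := h.ex1
  ex3 := by rw [mul_comm]; exact h.ex3

theorem not_dvd_of_coprime {a b : ℕ} (h : a.Coprime b) (ha : 1 < a) : ¬ a ∣ b := fun hd => by
  have := Nat.Coprime.eq_one_of_dvd h hd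
  omega

omit [Finite G] in
theorem Tri.iso {m₁ m₂ m₃ : ℕ} (h : Tri G m₁ m₂ m₃) {w : G} (hw : cs[w] = m₂ * m₃) : Iso w := by
  have l1 := h.l1
  have l2 := h.l2
  have l3 := h.l3
  refine ⟨fun h1 => ?_, fun y hy hd => ?_⟩
  · rw [cs_eq_one_iff.2 h1] at hw
    nlinarith
  · rw [hw] at hd ⊢
    rcases h.cases y hy with h1 | h1 | ⟨d, h1, h2, h3⟩
    · exact h1
    · rw [h1] at hd
      exfalso
      rcases hd with hd | hd
      · exact not_dvd_of_coprime h.c12 l1 (Nat.dvd_of_mul_dvd_mul_right (by omega) hd)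
      · exact not_dvd_of_coprime h.c12.symm l2 (Nat.dvd_of_mul_dvd_mul_right (by omega) hd)
    · rw [h3] at hd
      exfalso
      rcases hd with hd | hd
      · exact not_dvd_of_coprime (Nat.Coprime.mul_right h.c12 h.c13) l1
          (Dvd.dvd.trans ⟨m₂ * d, by ring⟩ hd)
      · have h4 : m₃ ∣ m₁ * m₂ * d := Dvd.dvd.trans ⟨m₂, by ring⟩ hd
        have h5 := (Nat.Coprime.mul_left h.c13 h.c23).symm.dvd_of_dvd_mul_left h4
        have h6 : d ≠ 0 := by rintro rfl; simp at h1; omega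
        have := Nat.le_of_dvd (by omega) h5
        omega

theorem Tri.index_center {m₁ m₂ m₃ : ℕ} (h : Tri G m₁ m₂ m₃) :
    (center G).index = m₁ * m₂ * m₃ := by
  have l1 := h.l1
  have l2 := h.l2
  have l3 := h.l3
  obtain ⟨x₁, hx₁⟩ := h.ex1
  obtain ⟨x₂, hx₂⟩ := h.ex2
  obtain ⟨x₃, hx₃⟩ := h.ex3
  have e1 := cb_mul_cs x₁
  have e2 := cb_mul_cs x₂
  have e3 := cb_mul_cs x₃
  rw [hx₁] at e1
  rw [hx₂] at e2
  have hd : m₁ * (m₂ * m₃) ∣ (center G).index := by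
    apply Nat.Coprime.mul_dvd_of_dvd_of_dvd (Nat.Coprime.mul_right h.c12 h.c13)
    · exact ⟨cb x₂ * m₃, by rw [← e2]; ring⟩
    · exact ⟨cb x₁, by rw [← e1]; ring⟩
  obtain ⟨k, hk⟩ := hd
  have f1 : cb x₁ = m₁ * k := by
    apply Nat.eq_of_mul_eq_mul_right (show 0 < m₂ * m₃ by positivity)
    rw [e1, hk]; ring
  have f2 : cb x₂ = m₂ * k := by
    apply Nat.eq_of_mul_eq_mul_right (show 0 < m₁ * m₃ by positivity)
    rw [e2, hk]; ring
  by_contra hne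
  have hk1 : k ≠ 1 := by
    rintro rfl
    exact hne (by rw [hk]; ring)
  obtain ⟨r, hr, hrk⟩ := Nat.exists_prime_and_dvd hk1
  obtain ⟨p₁, hp₁, hp₁d⟩ := Nat.exists_prime_and_dvd (show m₁ ≠ 1 by omega)
  obtain ⟨p₂, hp₂, hp₂d⟩ := Nat.exists_prime_and_dvd (show m₂ ≠ 1 by omega)
  have i1 := h.iso hx₁
  have i2 := h.swap.iso hx₂
  have nc : ∀ {a b : ℕ}, a.Coprime b → r ∣ a → ¬ r ∣ b := fun hab ha hb =>
    hr.one_lt.ne' (Nat.eq_one_of_dvd_coprimes hab ha hb)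
  have ne12 : m₂ * m₃ ≠ m₁ * m₃ := fun h1 => by
    have h2 := Nat.eq_of_mul_eq_mul_right (by omega) h1
    have := h.c12
    rw [h2, Nat.coprime_self] at this
    omega
  by_cases h2 : r ∣ m₂
  · have := i1.cs_eq hr hp₁ (fun h' => nc h.c12 (h' ▸ hp₁d) h2) (f1 ▸ hrk.mul_left _)
      (f1 ▸ hp₁d.mul_right _) i2.1 (by
        rw [hx₂, hr.dvd_mul]
        exact fun h' => h'.elim (nc h.c12.symm h2) (nc h.c23 h2))
    rw [hx₁, hx₂] at this
    exact ne12 this.symm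
  by_cases h3 : r ∣ m₃
  · have n3 : x₃ ∉ center G := fun h1 => by
      rw [cs_eq_one_iff.2 h1] at hx₃
      nlinarith
    have := i1.cs_eq hr hp₁ (fun h' => nc h.c13 (h' ▸ hp₁d) h3) (f1 ▸ hrk.mul_left _)
      (f1 ▸ hp₁d.mul_right _) n3 (by
        rw [hx₃, hr.dvd_mul]
        exact fun h' => h'.elim (nc h.c13.symm h3) h2)
    rw [hx₁, hx₃, mul_comm] at this
    have h4 := Nat.eq_of_mul_eq_mul_left (by omega) this
    have := h.c13
    rw [h4, Nat.coprime_self] at this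
    omega
  · have := i2.cs_eq hr hp₂ (fun h' => h2 (h' ▸ hp₂d)) (f2 ▸ hrk.mul_left _)
      (f2 ▸ hp₂d.mul_right _) i1.1 (by
        rw [hx₁, hr.dvd_mul]
        exact fun h' => h'.elim h2 h3)
    rw [hx₁, hx₂] at this
    exact ne12 this

/-! ### passing to the central quotient -/

local notation "Q" => G ⧸ center G

theorem orderOf_mk_dvd_cb {x u : G} (hu : u ∈ Ce[x]) : orderOf (u : Q) ∣ cb x := by
  have h1 : Nat.card ((Ce[x]).map (QuotientGroup.mk' (center G))) = cb x := by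
    rw [cb, ← relIndex_ker, QuotientGroup.ker_mk']
  rw [← h1]
  exact Subgroup.orderOf_dvd_natCard _ ⟨u, hu, rfl⟩

theorem not_dvd_card_C_mk {x : G} {r : ℕ} (hr : r.Prime) (h : ¬ r ∣ cb x) :
    ¬ r ∣ Nat.card (Ce[(x : Q)]) := by
  have := Fact.mk hr
  intro hd
  obtain ⟨⟨u', hu'⟩, hu⟩ := exists_prime_orderOf_dvd_card' r hd
  rw [Subgroup.orderOf_mk] at hu
  obtain ⟨u, rfl, hu2⟩ := exists_p_lift (QuotientGroup.mk'_surjective (center G)) hr
    (x := u') ⟨1, by rw [hu, pow_one]⟩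
  obtain ⟨x', hx', hx2⟩ := exists_pPrime_lift (QuotientGroup.mk'_surjective (center G)) hr
    (x := (x : Q)) (fun h1 => h (h1.trans (orderOf_mk_dvd_cb (self_mem_C x))))
  have h1 : ⁅u, x'⁆ ∈ center G := by
    rw [commutator_mem_center_iff]
    have := mem_C.1 hu'
    rw [← hx'] at this
    exact this
  have h2 := commute_of_coprime_of_commutator_mem_center h1 (coprime_of_pow_of_not_dvd hr hu2 hx2)
  have h3 : Ce[x] = Ce[x'] := by
    have h4 : x'⁻¹ * x ∈ center G := QuotientGroup.eq.1 hx'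
    rw [← C_mul_of_mem_center h4 (x := x'), mul_inv_cancel_left]
  have h5 := orderOf_mk_dvd_cb (x := x) (h3 ▸ mem_C.2 h2)
  exact h (hu ▸ h5)

theorem dvd_cs_mk {x : G} {m : ℕ} (hm : m ∣ (center G).index) (hc : m.Coprime (cb x)) :
    m ∣ cs[(x : Q)] := by
  have h1 : m.Coprime (Nat.card (Ce[(x : Q)])) := by
    apply Nat.Coprime.symm
    apply Nat.coprime_of_dvd
    intro r hr h2 h3
    exact not_dvd_card_C_mk hr (fun h4 => hr.one_lt.ne' (Nat.eq_one_of_dvd_coprimes hc h3 h4)) h2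
  apply h1.dvd_of_dvd_mul_right
  rw [cs_mul_card]
  exact hm

/-- equal class sizes: commuting modulo the centre is commuting -/
theorem commute_of_cs_mk_eq {x y : G} (h : cs[(x : Q)] = cs[x]) (hy : Commute (y : Q) (x : Q)) :
    Commute y x := by
  have h1 : Ce[x] ≤ (Ce[(x : Q)]).comap (QuotientGroup.mk' (center G)) := fun g hg =>
    mem_C.2 ((mem_C.1 hg).map (QuotientGroup.mk' (center G)))
  have h2 := eq_of_le_of_index_eq h1
    (by rw [index_comap_of_surjective _ (QuotientGroup.mk'_surjective _), h])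
  exact mem_C.1 (h2 ▸ mem_C.2 hy)

theorem Tri.cs_mk1 {m₁ m₂ m₃ : ℕ} (h : Tri G m₁ m₂ m₃) {x : G} (hx : cs[x] = m₂ * m₃) :
    cs[(x : Q)] = m₂ * m₃ := by
  have l2 := h.l2
  have l3 := h.l3
  refine Nat.dvd_antisymm (hx ▸ cs_mk_dvd _ x) (dvd_cs_mk ⟨m₁, by rw [h.index_center]; ring⟩ ?_)
  have e1 := cb_mul_cs x
  rw [hx, h.index_center, mul_assoc] at e1
  rw [Nat.eq_of_mul_eq_mul_right (by positivity) e1]
  exact (Nat.Coprime.mul_right h.c12 h.c13).symm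

theorem Tri.cs_mk3 {m₁ m₂ m₃ : ℕ} (h : Tri G m₁ m₂ m₃) {x : G} {d : ℕ}
    (hx : cs[x] = m₁ * m₂ * d) : ∃ e, e ∣ d ∧ cs[(x : Q)] = m₁ * m₂ * e := by
  have l1 := h.l1
  have l2 := h.l2
  have e1 := cb_mul_cs x
  rw [hx, h.index_center] at e1
  have e2 : cb x * d = m₃ := by
    apply Nat.eq_of_mul_eq_mul_left (show 0 < m₁ * m₂ by positivity)
    rw [← e1]; ring
  obtain ⟨e, he⟩ : m₁ * m₂ ∣ cs[(x : Q)] := dvd_cs_mk ⟨m₃, h.index_center⟩
    (Nat.Coprime.coprime_dvd_right ⟨d, e2.symm⟩ (Nat.Coprime.mul_left h.c13 h.c23))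
  refine ⟨e, ?_, he⟩
  have := cs_mk_dvd (center G) x
  rw [he, hx] at this
  exact Nat.dvd_of_mul_dvd_mul_left (by positivity) this

end Cfsg.Agent.H61.CS
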