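import Mathlib
import Cfsg.Agent.H61.CS1
import Cfsg.Agent.H72.TICount
import Cfsg.Agent.H15.BSW5
import Cfsg.Agent.H28.PSL2Small

/-! Groups with the centraliser orders of `PSL₂(q)`, `q` odd. -/

set_option autoImplicit false

open Cfsg Cfsg.Agent.H92 Subgroup Finset

namespace Cfsg.Agent.H61.CS

variable {H : Type*} [Group H]

/-- order of the centraliser -/
noncomputable abbrev cc (x : H) : ℕ := Nat.card (Ce[x])

theorem cc_conj [Finite H] (g x : H) : cc (g * x * g⁻¹) = cc x := card_C_eq_of_cs_eq (cs_conj g x)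

theorem orderOf_dvd_cc {x y : H} (h : y ∈ Ce[x]) : orderOf y ∣ cc x :=
  Subgroup.orderOf_dvd_natCard _ h

theorem mem_normalizer_C {g x : H} (h : Ce[g * x * g⁻¹] = Ce[x]) :
    g ∈ normalizer ((Ce[x] : Subgroup H) : Set H) := by
  rw [mem_normalizer_iff]
  intro y
  conv_rhs => rw [← h, mem_C_conj]
  simp [mul_assoc]

theorem dvd_card_filter [Fintype H] (p : H → Prop) [DecidablePred p] (m : ℕ)
    (hp : ∀ g x, p x → p (g * x * g⁻¹)) (hm : ∀ x, p x → m ∣ cs[x]) :
    m ∣ (univ.filter p).card := by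
  have := dvd_ncard_of_conj_invariant ⊤ m ((univ.filter p : Finset H) : Set H)
    (fun d _ s hs => by simpa using hp d s (by simpa using hs))
    (fun s hs => by rw [relIndex_top_right]; exact hm s (by simpa using hs))
  rwa [Set.ncard_coe_finset] at this

theorem arith_odd {a b q u v w : ℕ} (ha : 4 ≤ a) (hab : b = a + 1 ∨ a = b + 1) (hq : q = a + b)
    (h : 2 * a * b * q = 1 + 2 * a * b * u + 2 * a * q * v + q * b * w) :
    u = 2 ∧ 2 * v + 1 = b ∧ w + 1 = a := by
  have hb : 3 ≤ b := by omega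
  have hZ : (2 * a * b * q : ℤ) = 1 + 2 * a * b * u + 2 * a * q * v + q * b * w := by
    exact_mod_cast h
  have hqZ : (q : ℤ) = a + b := by exact_mod_cast hq
  have h4 : (4 * a * b + 1 : ℤ) = q ^ 2 := by
    rcases hab with h1 | h1
    · rw [hqZ, h1]; push_cast; ring
    · rw [hqZ, h1]; push_cast; ring
  have hu : u < q := by
    by_contra hc
    have : 2 * a * b * q ≤ 2 * a * b * u := Nat.mul_le_mul_left _ (by omega)
    omega
  have hv : v < b := by
    by_contra hc
    have : 2 * a * q * b ≤ 2 * a * q * v := Nat.mul_le_mul_left _ (by omega)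
    have h2 : 2 * a * q * b = 2 * a * b * q := by ring
    omega
  have hu2 : u = 2 := by
    have hd : (q : ℤ) ∣ (u : ℤ) - 2 :=
      ⟨q * u - 4 * a * b + 4 * a * v + 2 * b * w, by linear_combination 2 * hZ + u * h4⟩
    have := Int.eq_zero_of_abs_lt_dvd hd (by rw [abs_lt]; constructor <;> omega)
    omega
  have hv2 : 2 * v + 1 = b := by
    have hd : (b : ℤ) ∣ 2 * (v : ℤ) + 1 := by
      rcases hab with h1 | h1
      · have h1Z : (a : ℤ) = b - 1 := by rw [h1]; push_cast; ring
        refine ⟨2 * a * q - 2 * a * u - q * w - (4 * b - 6) * v, ?_⟩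
        rw [hqZ] at hZ ⊢
        rw [h1Z] at hZ ⊢
        linear_combination -hZ
      · have h1Z : (a : ℤ) = b + 1 := by rw [h1]; push_cast; ring
        refine ⟨2 * a * q - 2 * a * u - q * w - (4 * b + 6) * v, ?_⟩
        rw [hqZ] at hZ ⊢
        rw [h1Z] at hZ ⊢
        linear_combination -hZ
    have hd' : b ∣ 2 * v + 1 := by exact_mod_cast hd
    obtain ⟨m, hm⟩ := hd'
    have h1 : m < 2 := by
      by_contra hc
      have : b * 2 ≤ b * m := Nat.mul_le_mul_left _ (by omega)
      omega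
    interval_cases m <;> omega
  refine ⟨hu2, hv2, ?_⟩
  have hvZ : (b : ℤ) = 2 * v + 1 := by exact_mod_cast hv2.symm
  have h5 : (q * b * (w + 1) : ℤ) = q * b * a := by
    rw [hu2] at hZ
    push_cast at hZ
    linear_combination -hZ - h4 + (a * q) * hvZ - q * hqZ
  have h6 : (q * b : ℤ) ≠ 0 := by
    have : 0 < q := by omega
    positivity
  exact_mod_cast mul_left_cancel₀ h6 h5

theorem arith_pair {a b q μ ν XU XB nB S M : ℕ} (ha : 4 ≤ a) (hab : b = a + 1 ∨ a = b + 1)
    (hq : q = a + b) (hμν : μ + ν + 1 = a) (hμ : μ ≠ 0) (hB : nB + a * q = a * q * b)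
    (hXB : XB ≤ nB * b) (hXU : XU ≤ 4 * a * b * q) (hXU0 : a = b + 1 → XU = 0)
    (hS : S ≤ q * b * ν * a) (hM : q * b * ν ≤ M)
    (h : (q * b * μ) ^ 2 + q * b * μ * 2 + M ≤ q * b * μ + XU + XB + q * b * μ * (2 * a) + S) :
    μ = 1 ∧ q * b * ν * a + M ≤ S + q * b * ν := by
  have hb : 3 ≤ b := by omega
  have hb' : (a : ℤ) ≤ b + 1 := by omega
  have hXB' : (XB : ℤ) ≤ q * b * (a * b - a) := by
    have h1 : (nB : ℤ) = a * q * b - a * q := by
      have : (nB : ℤ) + a * q = a * q * b := by exact_mod_cast hB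
      linarith
    have h2 : (XB : ℤ) ≤ nB * b := by exact_mod_cast hXB
    rw [h1] at h2
    linarith
  zify at hq hμν hXU hS hM h ha hb
  have hpos : (0 : ℤ) < q * b := by
    have : (0 : ℤ) < q := by omega
    positivity
  have hμ1 : μ = 1 := by
    by_contra hc
    have h2 : (2 : ℤ) ≤ μ := by omega
    have h1 : (q * b : ℤ) * (μ ^ 2 * (q * b) + μ + ν) ≤
        q * b * (4 * a + (a * b - a) + 2 * a * μ + a * ν) := by linarith
    have h3 := le_of_mul_le_mul_left h1 hpos
    have h4 : (ν : ℤ) = a - 1 - μ := by linarith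
    rw [h4, hq] at h3
    have h5 : (2 * μ * ((a + b) * b) : ℤ) ≤ μ ^ 2 * ((a + b) * b) := by
      have : (0 : ℤ) ≤ (μ - 2) * μ * ((a + b) * b) := by
        have : (0 : ℤ) ≤ μ - 2 := by omega
        positivity
      linarith
    have h6 : (2 * ((a + b) * b) : ℤ) ≤ μ * ((a + b) * b) := by gcongr
    have h7 : (μ * (a * 3) : ℤ) ≤ μ * ((a + b) * b) := by gcongr; omega
    have h8 : (a * (a - 1) : ℤ) ≤ a * b := by gcongr; omega
    have h9 : (2 * a : ℤ) ≤ μ * a := by gcongr
    nlinarith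
  refine ⟨hμ1, ?_⟩
  subst hμ1
  have h4 : (ν : ℤ) = a - 2 := by push_cast at hμν; linarith
  zify
  rw [h4] at hS hM ⊢
  push_cast at h
  rcases hab with h1 | h1
  · have h1Z : (b : ℤ) = a + 1 := by exact_mod_cast h1
    have h5 : (q * b : ℤ) * (q * b) =
        q * b * (a * b + 5 * a - 1 + (a - 2) * (a - 1)) := by
      rw [hq, h1Z]; ring
    linarith
  · have h1Z : (a : ℤ) = b + 1 := by exact_mod_cast h1
    have h5 : (q * b : ℤ) * (q * b) =
        q * b * (a * b + a - 1 + (a - 2) * (a - 1)) := by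
      rw [hq, h1Z]; ring
    have h6 : (XU : ℤ) = 0 := by exact_mod_cast hXU0 h1
    linarith

/-- The centraliser orders of `PSL₂(q)` for odd `q`. -/
structure OC (H : Type*) [Group H] (a b q : ℕ) : Prop where
  ev : Even a
  ge : 4 ≤ a
  adj : b = a + 1 ∨ a = b + 1
  hq : q = a + b
  card : Nat.card H = 2 * a * b * q
  cases : ∀ x : H, x ≠ 1 → cc x = q ∨ cc x = b ∨ cc x = a ∨ cc x = 2 * a

namespace OC

variable {a b q : ℕ} (h : OC H a b q)
include h

theorem odd_b : Odd b := by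
  have := h.ev
  have := h.adj
  grind

theorem odd_q : Odd q := h.hq ▸ h.ev.add_odd h.odd_b

theorem cab : a.Coprime b := by
  rcases h.adj with h1 | h1 <;> rw [h1] <;> simp

theorem caq : a.Coprime q := by
  rw [h.hq]; simpa using h.cab

theorem cbq : b.Coprime q := by
  rw [h.hq]; simpa using h.cab.symm

theorem c2q : (2 * a).Coprime q :=
  Nat.Coprime.mul_left (Nat.coprime_two_left.2 h.odd_q) h.caq

theorem c2b : (2 * a).Coprime b :=
  Nat.Coprime.mul_left (Nat.coprime_two_left.2 h.odd_b) h.cab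

theorem cs_cc (x : H) : cs[x] * cc x = 2 * a * b * q := h.card ▸ cs_mul_card x

theorem cc_one : cc (1 : H) = 2 * a * b * q := by
  have := h.cs_cc 1
  rwa [cs_one, one_mul] at this

theorem cs_U {x : H} (hx : cc x = q) : cs[x] = 2 * a * b := by
  have := h.cs_cc x
  rw [hx] at this
  exact Nat.eq_of_mul_eq_mul_right h.odd_q.pos this

theorem cs_B {x : H} (hx : cc x = b) : cs[x] = 2 * a * q := by
  have := h.cs_cc x
  rw [hx, mul_right_comm] at this
  exact Nat.eq_of_mul_eq_mul_right h.odd_b.pos this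

theorem cs_A {x : H} (hx : cc x = a) : cs[x] = q * b * 2 := by
  have := h.cs_cc x
  have ha := h.ge
  rw [hx] at this
  apply Nat.eq_of_mul_eq_mul_right (show 0 < a by omega)
  rw [this]; ring

theorem cs_T {x : H} (hx : cc x = 2 * a) : cs[x] = q * b := by
  have := h.cs_cc x
  have ha := h.ge
  rw [hx] at this
  apply Nat.eq_of_mul_eq_mul_right (show 0 < 2 * a by omega)
  rw [this]; ring

theorem dvd_cs_P {x : H} (hx : cc x = a ∨ cc x = 2 * a) : q * b ∣ cs[x] := by
  rcases hx with hx | hx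
  · rw [h.cs_A hx]; exact dvd_mul_right _ _
  · rw [h.cs_T hx]

theorem cc_eq_q {x y : H} (hx : cc x = q) (hy : y ∈ Ce[x]) (hy1 : y ≠ 1) [Finite H] :
    cc y = q := by
  have h1 : orderOf y ∣ q := hx ▸ orderOf_dvd_cc hy
  have h2 : orderOf y ∣ cc y := orderOf_dvd_cc (self_mem_C y)
  have h3 : orderOf y ≠ 1 := by simpa using hy1
  rcases h.cases y hy1 with h4 | h4 | h4 | h4
  · exact h4
  · exact absurd (Nat.eq_one_of_dvd_coprimes h.cbq (h4 ▸ h2) h1) h3
  · exact absurd (Nat.eq_one_of_dvd_coprimes h.caq (h4 ▸ h2) h1) h3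
  · exact absurd (Nat.eq_one_of_dvd_coprimes h.c2q (h4 ▸ h2) h1) h3

theorem cc_P {y : H} (h1 : orderOf y ∣ 2 * a) (hy1 : y ≠ 1) : cc y = a ∨ cc y = 2 * a := by
  have h2 : orderOf y ∣ cc y := orderOf_dvd_cc (self_mem_C y)
  have h3 : orderOf y ≠ 1 := by simpa using hy1
  rcases h.cases y hy1 with h4 | h4 | h4 | h4
  · exact absurd (Nat.eq_one_of_dvd_coprimes h.c2q h1 (h4 ▸ h2)) h3
  · exact absurd (Nat.eq_one_of_dvd_coprimes h.c2b h1 (h4 ▸ h2)) h3
  · exact Or.inl h4
  · exact Or.inr h4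

theorem cc_I {t : H} (ht : orderOf t = 2) : cc t = a ∨ cc t = 2 * a :=
  h.cc_P (ht ▸ dvd_mul_right _ _) (H15.ne_one_of_orderOf_eq_two ht)

open Classical in
theorem sum_split [Fintype H] (f : H → ℕ) :
    ∑ x, f x = f 1 + ∑ x with cc x = q, f x + ∑ x with cc x = b, f x +
      ∑ x with orderOf x = 2, f x +
      ∑ x with (cc x = a ∨ cc x = 2 * a) ∧ orderOf x ≠ 2, f x := by
  have e1 : f 1 = ∑ x, if x = 1 then f x else 0 := by simp
  rw [e1]
  simp only [sum_filter, ← sum_add_distrib]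
  refine sum_congr rfl fun x _ => ?_
  have ha := h.ge
  have hadj := h.adj
  have hq := h.hq
  obtain ⟨k, hk⟩ := h.ev
  by_cases hx : x = 1
  · subst hx
    have h1 := h.cc_one
    have h2 : 2 * a * b * q ≥ 2 * a * 3 * q := by gcongr; omega
    have h3 : 2 * a * 3 * q ≥ 2 * 4 * 3 * q := by gcongr
    rw [if_pos rfl, if_neg (by omega), if_neg (by omega), if_neg (by simp), if_neg (by omega)]
    simp
  · have h5 : orderOf x = 2 → cc x = a ∨ cc x = 2 * a := h.cc_I
    rw [if_neg hx]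
    rcases h.cases x hx with h4 | h4 | h4 | h4
    · rw [if_pos h4, if_neg (by omega), if_neg (by omega), if_neg (by omega)]; simp
    · rw [if_neg (by omega), if_pos h4, if_neg (by omega), if_neg (by omega)]; simp
    · rw [if_neg (by omega), if_neg (by omega)]
      by_cases h6 : orderOf x = 2
      · rw [if_pos h6, if_neg (by omega)]; simp
      · rw [if_neg h6, if_pos ⟨Or.inl h4, h6⟩]; simp
    · rw [if_neg (by omega), if_neg (by omega)]
      by_cases h6 : orderOf x = 2
      · rw [if_pos h6, if_neg (by omega)]; simp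
      · rw [if_neg h6, if_pos ⟨Or.inr h4, h6⟩]; simp

open Classical in
theorem counts [Fintype H] :
    (univ.filter fun x : H => cc x = q).card = 4 * a * b ∧
    (univ.filter fun x : H => cc x = b).card + a * q = a * q * b ∧
    ∃ μ ν, μ + ν + 1 = a ∧ (univ.filter fun x : H => orderOf x = 2).card = q * b * μ ∧
      (univ.filter fun x : H => (cc x = a ∨ cc x = 2 * a) ∧ orderOf x ≠ 2).card = q * b * ν := by
  obtain ⟨u, hu⟩ := dvd_card_filter (fun x : H => cc x = q) (2 * a * b)
    (fun g x hx => by rw [cc_conj, hx]) (fun x hx => by rw [h.cs_U hx])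
  obtain ⟨v, hv⟩ := dvd_card_filter (fun x : H => cc x = b) (2 * a * q)
    (fun g x hx => by rw [cc_conj, hx]) (fun x hx => by rw [h.cs_B hx])
  obtain ⟨μ, hμ⟩ := dvd_card_filter (fun x : H => orderOf x = 2) (q * b)
    (fun g x hx => by rw [orderOf_conj, hx]) (fun x hx => h.dvd_cs_P (h.cc_I hx))
  obtain ⟨ν, hν⟩ := dvd_card_filter
    (fun x : H => (cc x = a ∨ cc x = 2 * a) ∧ orderOf x ≠ 2) (q * b)
    (fun g x hx => by rw [orderOf_conj, cc_conj]; exact hx) (fun x hx => h.dvd_cs_P hx.1)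
  have h1 := h.sum_split (fun _ => 1)
  simp only [sum_const, smul_eq_mul, mul_one, card_univ] at h1
  rw [hu, hv, hμ, hν, ← Nat.card_eq_fintype_card, h.card] at h1
  obtain ⟨e1, e2, e3⟩ := arith_odd (u := u) (v := v) (w := μ + ν) h.ge h.adj h.hq
    (by rw [h1]; ring)
  refine ⟨by rw [hu, e1]; ring, by rw [hv, ← e2]; ring, μ, ν, e3, hμ, hν⟩

/-- for `q ≡ 3 (mod 4)` no involution inverts an element with centraliser of order `q` -/
theorem pairCount_U [Finite H] (hab : a = b + 1) {w : H} (hw : cc w = q) :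
    H9.pairCount w = 0 := by
  classical
  have := Fintype.ofFinite H
  by_contra hne
  obtain ⟨s, hs, hsw⟩ := H15.exists_inverting_of_pairCount hne
  have hsN : s ∈ normalizer ((Ce[w] : Subgroup H) : Set H) := by
    exact mem_normalizer_C (by rw [hsw, C_inv])
  have hinv : ∀ y ∈ Ce[w], s * y * s⁻¹ = y⁻¹ := fun y hy =>
    H15.inverts_of_fpf (H15.mul_self_of_orderOf_eq_two hs) hsN (fun y hy hc => by
      by_contra hy1
      have h1 := orderOf_dvd_cc (x := y) (y := s) (mem_C.2 hc)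
      rw [hs, h.cc_eq_q hw hy hy1] at h1
      exact (Nat.not_even_iff_odd.2 h.odd_q) (even_iff_two_dvd.2 h1)) hy
  have hC : ∀ y ∈ Ce[w], y ≠ 1 → Ce[y] = Ce[w] := fun y hy hy1 =>
    (eq_of_le_of_card_ge (fun g hg => mem_C.2 (H15.comm_of_inverts hinv hg hy))
      (by change cc y ≤ cc w; rw [h.cc_eq_q hw hy hy1, hw])).symm
  have hTI : IsTISubset ((Ce[w] : Subgroup H) : Set H) := by
    intro g hg x hx hx2
    by_contra hx1
    apply hg
    rw [← hC x hx hx1]
    exact mem_normalizer_C (by rw [hC _ hx2 (by simpa using hx1), hC x hx hx1])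
  have h1 := H72.ncard_classSupport_of_isTI _ hTI
  have hq1 : q ≠ 1 := by have := h.hq; have := h.ge; omega
  obtain ⟨r, hr, hrq⟩ := Nat.exists_prime_and_dvd hq1
  have := Fact.mk hr
  have hnd : ∀ x : H, cc x = q → ¬ r ∣ cs[x] := fun x hx hd => by
    rw [h.cs_U hx] at hd
    exact hr.one_lt.ne' (Nat.eq_one_of_dvd_coprimes (Nat.Coprime.mul_left h.c2q h.cbq) hd hrq)
  obtain ⟨R, hR⟩ := not_dvd_cs_iff.1 (hnd w hw)
  obtain ⟨y, hyR, hy1⟩ : ∃ y ∈ (R : Subgroup H), y ≠ 1 := by
    by_contra hc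
    push Not at hc
    have hb : (R : Subgroup H) = ⊥ := (eq_bot_iff_forall _).2 hc
    have := R.not_dvd_index
    rw [hb, index_bot, h.card] at this
    exact this (hrq.mul_left _)
  have h2 : H63.classSupport (((Ce[w] : Subgroup H) : Set H) \ {1}) ⊤ =
      ((univ.filter fun x : H => cc x = q : Finset H) : Set H) := by
    ext x
    simp only [coe_filter, mem_univ, true_and, Set.mem_ofPred_eq]
    constructor
    · rintro ⟨y, ⟨hy, hy1⟩, m, -, rfl⟩
      rw [cc_conj]
      exact h.cc_eq_q hw hy hy1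
    · intro hx
      obtain ⟨g, hg⟩ := (not_dvd_cs_iff_conj R).1 (hnd x hx)
      refine ⟨g * x * g⁻¹, ⟨?_, ?_⟩, g⁻¹, mem_top _, by group⟩
      · rw [← hC y (hR hyR) hy1]
        exact mem_C.2 ((mem_centralizer_iff.1 hg) y hyR).symm
      · intro h3
        have h4 := cc_conj g x
        rw [Set.mem_singleton_iff.1 h3, h.cc_one, hx] at h4
        have h5 : 2 * a * b * q = 1 * q := by omega
        have h6 := Nat.eq_of_mul_eq_mul_right h.odd_q.pos h5
        rw [mul_assoc] at h6
        omega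
  rw [h2, Set.ncard_coe_finset, h.counts.1] at h1
  change _ = _ * (cc w - 1) at h1
  have h3 : cc w - 1 = 2 * b := by have := h.hq; omega
  rw [h3] at h1
  have h4 : (normalizer ((Ce[w] : Subgroup H) : Set H)).index = 2 * a := by
    apply Nat.eq_of_mul_eq_mul_right (show 0 < 2 * b by have := h.odd_b.pos; omega)
    rw [← h1]; ring
  have h5 := (normalizer ((Ce[w] : Subgroup H) : Set H)).index_mul_card
  rw [h4, h.card, mul_assoc (2 * a)] at h5
  have h6 := Nat.eq_of_mul_eq_mul_left (show 0 < 2 * a by have := h.ge; omega) h5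
  have h7 := H9.even_card_of_mem_involution hs hsN
  rw [h6] at h7
  exact (Nat.not_even_iff_odd.2 (h.odd_b.mul h.odd_q)) h7

theorem pairCount_P [Finite H] {w : H} (hw : cc w = a ∨ cc w = 2 * a) (h2 : orderOf w ≠ 2) :
    H9.pairCount w ≤ a ∧ (H9.pairCount w ≠ 0 → cc w = a) := by
  have key : H9.pairCount w ≠ 0 → cc w = a := by
    intro hne
    refine hw.resolve_right fun hw2 => ?_
    have h1 : IsConj w w⁻¹ := by
      by_contra hc
      exact hne (H9.pairCount_eq_zero hc)
    have h3 : w ≠ w⁻¹ := fun h4 => by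
      have hw1 : w ≠ 1 := by
        rintro rfl
        have h5 := h.cc_one
        have h6 : 2 * a * (b * q) = 2 * a * 1 := by rw [← mul_assoc]; omega
        have h7 := Nat.eq_of_mul_eq_mul_left (show 0 < 2 * a by have := h.ge; omega) h6
        have h8 := Nat.eq_one_of_mul_eq_one_left h7
        have := h.hq
        have := h.ge
        omega
      exact h2 (H15.orderOf_eq_two_of_mul_self (by rw [mul_eq_one_iff_eq_inv]; exact h4) hw1)
    have h4 := H9.card_extCentralizer h3 h1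
    have h5 := (H9.extCentralizer w).card_subgroup_dvd_card
    change _ = 2 * cc w at h4
    rw [h4, hw2, h.card, mul_comm 2 (2 * a), mul_assoc (2 * a)] at h5
    have h6 := Nat.dvd_of_mul_dvd_mul_left (show 0 < 2 * a by have := h.ge; omega) h5
    exact (Nat.not_even_iff_odd.2 (h.odd_b.mul h.odd_q)) (even_iff_two_dvd.2 h6)
  refine ⟨?_, key⟩
  by_cases h0 : H9.pairCount w = 0
  · omega
  · exact (key h0) ▸ H9.pairCount_le w

open Classical in
theorem main [Finite H] : H9.invCount H = q * b ∧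
    (∃ w : H, (cc w = a ∨ cc w = 2 * a) ∧ orderOf w ≠ 2) ∧
    ∀ w : H, (cc w = a ∨ cc w = 2 * a) → orderOf w ≠ 2 →
      H9.pairCount w = a ∧ ∃ t, (orderOf t = 2 ∧ Commute t w) ∧
        ∀ u, orderOf u = 2 → Commute u w → u = t := by
  have := Fintype.ofFinite H
  obtain ⟨hU, hB, μ, ν, hμν, hI, hP⟩ := h.counts
  set I := univ.filter fun x : H => orderOf x = 2 with hIdef
  set P := univ.filter fun x : H => (cc x = a ∨ cc x = 2 * a) ∧ orderOf x ≠ 2 with hPdef
  have hinv : H9.invCount H = q * b * μ := by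
    rw [← hI, hIdef, ← Fintype.card_subtype, ← Nat.card_eq_fintype_card]
  let m : H → ℕ := fun v => ∑ t ∈ I, if Commute t v then 1 else 0
  have hm : ∀ v ∈ P, 1 ≤ m v := by
    intro v hv
    have hv' := (mem_filter.1 hv).2.1
    have he : Even (cc v) := by
      rcases hv' with h1 | h1
      · rw [h1]; exact h.ev
      · rw [h1]; exact even_two_mul a
    obtain ⟨⟨t, ht⟩, ht2⟩ := H9.exists_involution he
    rw [Subgroup.orderOf_mk] at ht2
    have := single_le_sum (f := fun t => if Commute t v then 1 else 0) (s := I)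
      (fun _ _ => Nat.zero_le _) (a := t) (mem_filter.2 ⟨mem_univ _, ht2⟩)
    rwa [if_pos (mem_C.1 ht)] at this
  have hT : ∀ t ∈ I, H9.pairCount t + 2 + ∑ v ∈ P, (if Commute t v then 1 else 0) ≤ 2 * a := by
    intro t ht
    have ht2 := (mem_filter.1 ht).2
    have h1 := h.sum_split (fun x => if Commute t x then 1 else 0)
    have h2 : cc t = ∑ x, if Commute t x then 1 else 0 := by
      rw [← H9.card_subtype_eq_sum_ite]
      exact Nat.card_congr (Equiv.subtypeEquivRight fun x => mem_C')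
    have h3 : H9.pairCount t + 1 = ∑ x ∈ I, if Commute t x then 1 else 0 := by
      rw [H9.pairCount_involution ht2, H9.card_subtype_eq_sum_ite, hIdef, sum_filter]
      refine sum_congr rfl fun x _ => ?_
      by_cases h4 : orderOf x = 2 <;> by_cases h5 : Commute t x <;>
        simp [h4, h5, Commute.symm_iff (a := x)]
    have h4 := h.cc_I ht2
    rw [if_pos (Commute.one_right t), ← h2, ← hIdef, ← hPdef, ← h3] at h1
    omega
  have hT2 := sum_le_sum hT
  rw [sum_add_distrib, sum_add_distrib, sum_comm] at hT2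
  simp only [sum_const, smul_eq_mul, hI] at hT2
  have h1 := h.sum_split H9.pairCount
  rw [H9.sum_pairCount, H9.pairCount_one, hinv, ← hIdef, ← hPdef] at h1
  have hμ : μ ≠ 0 := by
    rintro rfl
    obtain ⟨t, ht⟩ := H9.exists_involution (G := H)
      (by rw [h.card, mul_assoc, mul_assoc]; exact even_two_mul _)
    have : t ∈ I := mem_filter.2 ⟨mem_univ _, ht⟩
    rw [mul_zero, card_eq_zero] at hI
    rw [hI] at this
    simp at this
  obtain ⟨hμ1, hfin⟩ := arith_pair (S := ∑ v ∈ P, H9.pairCount v) (M := ∑ v ∈ P, m v)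
    (XU := ∑ x with cc x = q, H9.pairCount x) (XB := ∑ x with cc x = b, H9.pairCount x)
    h.ge h.adj h.hq hμν hμ hB
    (sum_le_card_nsmul _ _ _ fun x hx => (mem_filter.1 hx).2 ▸ H9.pairCount_le x)
    (hU ▸ sum_le_card_nsmul _ _ _ fun x hx => (mem_filter.1 hx).2 ▸ H9.pairCount_le x)
    (fun hab => sum_eq_zero fun x hx => h.pairCount_U hab (mem_filter.1 hx).2)
    (hP ▸ sum_le_card_nsmul _ _ _ fun x hx =>
      (h.pairCount_P (mem_filter.1 hx).2.1 (mem_filter.1 hx).2.2).1)
    (by have := card_nsmul_le_sum _ _ _ hm; rwa [hP, smul_eq_mul, mul_one] at this)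
    (by change _ + _ + ∑ v ∈ P, m v ≤ _ at hT2; omega)
  subst hμ1
  refine ⟨by rw [hinv, mul_one], ?_, fun w hw hw2 => ?_⟩
  · have : 0 < P.card := by
      have h2 := h.odd_q.pos
      have h3 := h.odd_b.pos
      have h4 : 0 < ν := by have := h.ge; omega
      rw [hP]; positivity
    obtain ⟨w, hw⟩ := card_pos.1 this
    exact ⟨w, (mem_filter.1 hw).2⟩
  have hle : ∀ v ∈ P, H9.pairCount v + 1 ≤ a + m v := fun v hv => by
    have h2 := (h.pairCount_P (mem_filter.1 hv).2.1 (mem_filter.1 hv).2.2).1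
    have h3 := hm v hv
    omega
  have heq : ∑ v ∈ P, (H9.pairCount v + 1) = ∑ v ∈ P, (a + m v) := by
    refine le_antisymm (sum_le_sum hle) ?_
    rw [sum_add_distrib, sum_add_distrib]
    simp only [sum_const, smul_eq_mul, hP, mul_one]
    exact hfin
  have hwP : w ∈ P := mem_filter.2 ⟨mem_univ _, hw, hw2⟩
  have h2 := (sum_eq_sum_iff_of_le hle).1 heq w hwP
  have h3 := (h.pairCount_P hw hw2).1
  have h4 := hm w hwP
  refine ⟨by omega, ?_⟩
  have h5 : (I.filter fun t => Commute t w).card = 1 := by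
    rw [card_filter]
    change m w = 1
    omega
  obtain ⟨t, ht⟩ := card_eq_one.1 h5
  have ht2 : t ∈ I.filter fun t => Commute t w := ht ▸ mem_singleton_self t
  refine ⟨t, ⟨(mem_filter.1 (mem_filter.1 ht2).1).2, (mem_filter.1 ht2).2⟩, fun u hu hc => ?_⟩
  have : u ∈ I.filter fun t => Commute t w := mem_filter.2 ⟨mem_filter.2 ⟨mem_univ _, hu⟩, hc⟩
  rwa [ht, mem_singleton] at this

theorem isConj_inv [Finite H] {x y : H} (hx : orderOf x = 2) (hy : orderOf y = 2) :
    IsConj x y ∧ cc x = 2 * a := by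
  have h1 := h.main.1
  have h2 := card_isConj x
  have h3 : ∀ z, IsConj x z → orderOf z = 2 := fun z hz => by
    obtain ⟨g, rfl⟩ := isConj_iff.1 hz
    rw [orderOf_conj, hx]
  have h4 := H9.card_subtype_le_of_imp h3
  change _ ≤ H9.invCount H at h4
  have hpos : 0 < q * b := Nat.mul_pos h.odd_q.pos h.odd_b.pos
  have h5 : cc x = 2 * a := (h.cc_I hx).resolve_left fun h6 => by
    rw [h2, h.cs_A h6, h1] at h4
    omega
  refine ⟨?_, h5⟩
  have h6 : {z | IsConj x z} = {z | orderOf z = 2} := by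
    apply Set.eq_of_subset_of_ncard_le h3
    change H9.invCount H ≤ Nat.card {z // IsConj x z}
    rw [h1, h2, h.cs_T h5]
  have : y ∈ {z | orderOf z = 2} := hy
  rwa [← h6] at this

theorem exists_BSW [Finite H] :
    ∃ (t : H) (K : Subgroup H) (s : H), H15.BSW t K s ∧ Nat.card K = a := by
  obtain ⟨-, ⟨w, hw, hw2⟩, hmain⟩ := h.main
  obtain ⟨hpc, t, ⟨ht, htw⟩, huniq⟩ := hmain w hw hw2
  have ha := h.ge
  have hne : H9.pairCount w ≠ 0 := by omega
  have hcw := (h.pairCount_P hw hw2).2 hne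
  obtain ⟨s, hs, hsw⟩ := H15.exists_inverting_of_pairCount hne
  have hall : ∀ g : H, g * w * g⁻¹ = w⁻¹ → orderOf g = 2 := by
    have h1 : {g : H | orderOf g = 2 ∧ g * w * g⁻¹ = w⁻¹} = {g : H | g * w * g⁻¹ = w⁻¹} := by
      apply Set.eq_of_subset_of_ncard_le (fun g hg => hg.2)
      change Nat.card {g : H // g * w * g⁻¹ = w⁻¹} ≤
        Nat.card {g : H // orderOf g = 2 ∧ g * w * g⁻¹ = w⁻¹}
      rw [H9.card_conjugators (isConj_iff.2 ⟨s, hsw⟩), ← H9.pairCount_of_not_involution hw2, hpc]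
      exact hcw.le
    intro g hg
    have : g ∈ {g : H | g * w * g⁻¹ = w⁻¹} := hg
    rw [← h1] at this
    exact this.1
  have hinv : ∀ x ∈ Ce[w], s * x * s⁻¹ = x⁻¹ := by
    intro x hx
    have h1 := hall (s * x) (by
      rw [mul_inv_rev, ← hsw, mul_assoc s x w, (mem_C.1 hx).eq]; group)
    have h2 := H15.mul_self_of_orderOf_eq_two h1
    rw [H15.inv_eq_of_orderOf_eq_two hs, eq_inv_iff_mul_eq_one, ← h2, mul_assoc (s * x)]
  have hcomm : ∀ x ∈ Ce[w], ∀ y ∈ Ce[w], x * y = y * x := fun x hx y hy =>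
    H15.comm_of_inverts hinv hx hy
  have htK : t ∈ Ce[w] := mem_C.2 htw
  have hw1 : w ≠ 1 := by
    rintro rfl
    have h5 := h.cc_one
    have h6 : a * (2 * b * q) = a * 1 := by rw [mul_one]; nth_rw 2 [← hcw]; rw [h5]; ring
    have h7 := Nat.eq_of_mul_eq_mul_left (by omega) h6
    rw [mul_assoc] at h7
    omega
  have hsK : s ∉ Ce[w] := fun hc => by
    rw [(mem_C.1 hc).eq, mul_inv_cancel_right] at hsw
    exact hw2 (H15.orderOf_eq_two_of_mul_self (by rw [mul_eq_one_iff_eq_inv]; exact hsw) hw1)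
  have hsq : ∀ x ∈ Ce[w], x * x = 1 → x = 1 ∨ x = t := fun x hx h1 => by
    by_cases h2 : x = 1
    · exact Or.inl h2
    · exact Or.inr (huniq x (H15.orderOf_eq_two_of_mul_self h1 h2) (mem_C.1 hx))
  refine ⟨t, Ce[w], s, ⟨ht, hcomm, htK, hs, hsK, ?_, ?_, hinv, ?_,
    fun x y hx hy => (h.isConj_inv hx hy).1⟩, hcw⟩
  · have h1 : Ce[w] ⊔ zpowers s ≤ Ce[t] := by
      refine sup_le (fun x hx => mem_C.2 (hcomm x hx t htK)) (zpowers_le.2 (mem_C.2 ?_))
      have := hinv t htK
      rw [H15.inv_eq_of_orderOf_eq_two ht, mul_inv_eq_iff_eq_mul] at this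
      exact this
    apply eq_of_le_of_card_ge h1
    have h2 : Ce[w] < Ce[w] ⊔ zpowers s :=
      lt_of_le_of_ne le_sup_left fun h3 => hsK (h3 ▸ mem_sup_right (mem_zpowers s))
    obtain ⟨k, hk⟩ := card_dvd_of_le h2.le
    have h3 : k ≠ 1 := by
      rintro rfl
      exact h2.ne (eq_of_le_of_card_ge h2.le (by rw [hk, mul_one]))
    have h4 : k ≠ 0 := by
      rintro rfl
      exact Nat.card_pos.ne' hk
    change cc t ≤ _
    change _ = cc w * k at hk
    rw [hk, hcw, (h.isConj_inv ht ht).2, mul_comm]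
    exact Nat.mul_le_mul_left _ (by omega)
  · intro x hx hc
    apply hsq x hx
    have := hinv x hx
    rw [hc, mul_inv_cancel_right] at this
    rw [mul_eq_one_iff_eq_inv]
    exact this
  · intro g x hx hx1 hg
    rw [← mul_inv_eq_iff_eq_mul]
    have hgt : orderOf (g * t * g⁻¹) = 2 := by rw [orderOf_conj, ht]
    by_cases hx2 : orderOf x = 2
    · have h1 := huniq x hx2 (mem_C.1 hx)
      subst h1
      exact huniq _ hgt (mem_C.1 hg)
    · have h1 : orderOf x ∣ 2 * a := (hcw ▸ orderOf_dvd_cc hx).mul_left 2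
      obtain ⟨-, u, -, hu⟩ := hmain (g * x * g⁻¹)
        (by rw [cc_conj]; exact h.cc_P h1 hx1) (by rwa [orderOf_conj])
      rw [hu _ hgt, hu t ht (hcomm _ htK _ hg)]
      have := (show Commute t x from hcomm _ htK _ hx).map (MulAut.conj g)
      simpa using this

theorem iso [Finite H] : ∃ (F : Type) (_ : Field F) (_ : Fintype F), Fintype.card F = q ∧
    Nonempty (H ≃* Matrix.ProjectiveSpecialLinearGroup (Fin 2) F) := by
  obtain ⟨t, K, s, hB, hK⟩ := h.exists_BSW
  obtain ⟨F, _, _, hF, ⟨e⟩⟩ := hB.iso_PSL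
  refine ⟨F, inferInstance, inferInstance, ?_, ⟨e⟩⟩
  have h1 := H28.card_PSL2 (F := F) rfl
  rw [← Nat.card_congr e.toEquiv, h.card] at h1
  rw [hK] at hF
  have ha := h.ge
  have hq := h.hq
  set n := Fintype.card F
  have h2 : Nat.gcd 2 (n - 1) = 2 := Nat.gcd_eq_left (by omega)
  rw [h2] at h1
  have h3 : 2 * (2 * a * b * q) + n = n * n ^ 2 := by
    have : 1 ≤ n ^ 2 := Nat.one_le_pow _ _ (by omega)
    rw [h1]; zify [this]; ring
  rcases hF with hF | hF <;> rcases h.adj with h4 | h4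
  · omega
  · exfalso
    rw [hF, hq, h4] at h3
    nlinarith
  · exfalso
    obtain ⟨c, hc⟩ : ∃ c, a = c + 1 := ⟨a - 1, by omega⟩
    have h5 : n = 2 * c + 1 := by omega
    rw [h5, hq, h4, hc] at h3
    nlinarith
  · omega

end OC

end Cfsg.Agent.H61.CS
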