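import Cfsg.Agent.H17.KnDefs

/-! Project KN, piece MOD1: orders and normal forms. -/

set_option autoImplicit false
set_option maxRecDepth 100000
set_option synthInstance.maxSize 2000

namespace Cfsg.Agent.H61.KnMod1

open Equiv Finset Cfsg.Agent.H11.A16 Cfsg.Agent.H17.Kn
open Cfsg.Agent.H89.Rec (Syl)

theorem card_par {G ι : Type*} [Group G] [Fintype ι] {Y X : Subgroup G} (g : ι → G)
    (inj : Function.Injective g) (mem : ∀ i, g i ∈ Y) (sur : ∀ u ∈ Y, ∃ i, u = g i)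
    (q : G → Prop) [DecidablePred q] (h : ∀ u, u ∈ X ↔ u ∈ Y ∧ q u) :
    Nat.card X = #{i | q (g i)} := by
  rw [← Fintype.card_subtype, ← Nat.card_eq_fintype_card]
  refine (Nat.card_eq_of_bijective (fun i : {i // q (g i)} => (⟨g i, (h _).2 ⟨mem _, i.2⟩⟩ : X))
    ⟨fun a b e => Subtype.ext (inj (congrArg Subtype.val e)), fun u => ?_⟩).symm
  obtain ⟨a, b⟩ := (h u).1 u.2
  obtain ⟨i, e⟩ := sur u a
  exact ⟨⟨i, e ▸ b⟩, Subtype.ext e.symm⟩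

theorem sur_of {G ι : Type*} [Group G] [Finite G] [Fintype ι] {Y : Subgroup G} (g : ι → G)
    (inj : Function.Injective g) (mem : ∀ i, g i ∈ Y) (c : Nat.card Y ≤ Fintype.card ι) :
    ∀ u ∈ Y, ∃ i, u = g i := fun u hu => by
  have h : Function.Injective fun i => (⟨g i, mem i⟩ : Y) := fun a b e =>
    inj (congrArg Subtype.val e)
  obtain ⟨i, e⟩ := (h.bijective_of_nat_card_le (by rwa [Nat.card_eq_fintype_card (α := ι)])).2 ⟨u, hu⟩
  exact ⟨i, (congrArg Subtype.val e).symm⟩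

theorem card_comap (X : Subgroup (Perm P)) : Nat.card (X.comap π2) = Nat.card X * 256 := by
  let e : X.comap π2 ≃ X × (P → ZMod 2) :=
    ⟨fun u => (⟨u.1.σ, u.2⟩, u.1.f), fun a => ⟨⟨a.1, a.2⟩, a.1.2⟩, fun _ => rfl, fun _ => rfl⟩
  rw [Nat.card_congr e, Nat.card_prod]
  simp

theorem card_comap_ev (X : Subgroup (Perm P)) :
    Nat.card (X.comap π2 ⊓ EV : Subgroup N2) = Nat.card X * 128 := by
  let e : (X.comap π2 ⊓ EV : Subgroup N2) ≃ X × {f : P → ZMod 2 // ∑ p, f p = 0} :=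
    ⟨fun u => (⟨u.1.σ, u.2.1⟩, ⟨u.1.f, u.2.2⟩), fun a => ⟨⟨a.1, a.2⟩, a.1.2, a.2.2⟩,
      fun _ => rfl, fun _ => rfl⟩
  rw [Nat.card_congr e, Nat.card_prod, Nat.card_eq_fintype_card (α := {f : P → ZMod 2 // _}),
    Fintype.card_subtype, show #{f : P → ZMod 2 | ∑ p, f p = 0} = 128 by decide +kernel]

theorem cN : Nat.card N2 = 2 ^ 15 * 315 := by
  let e : N2 ≃ Perm P × (P → ZMod 2) :=
    ⟨fun u => (u.σ, u.f), fun a => ⟨a.1, a.2⟩, fun _ => rfl, fun _ => rfl⟩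
  rw [Nat.card_congr e, Nat.card_prod, Nat.card_perm]
  simp [Nat.factorial]

/-! ### The Sylow subgroup of the symmetric group -/

/-- the elements of `T'` -/
def gT (i : P × Bool × Bool × Bool × Bool) : Perm P :=
  x i.1 * (bif i.2.1 then swap 2 3 else 1) * (bif i.2.2.1 then swap 4 6 * swap 5 7 else 1) *
    (bif i.2.2.2.1 then swap 4 5 else 1) * (bif i.2.2.2.2 then swap 6 7 else 1)

theorem gT_inj : Function.Injective gT :=
  Function.LeftInverse.injective (g := fun σ => (σ 0, decide (σ 2 ^^^ σ 0 = 3),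
    decide (6 ≤ σ 4 ^^^ σ 0), decide ((σ 4 ^^^ σ 0).1 % 2 = 1), decide ((σ 6 ^^^ σ 0).1 % 2 = 1)))
    (by decide +kernel)

theorem gT_mem : ∀ i, gT i ∈ T' := by decide +kernel

theorem cT8 : Nat.card T8 = 2 ^ 7 :=
  syl_card (m := 315) (Syl.sylow _) (by rw [Nat.card_perm]; simp [Nat.factorial]) (by decide)

theorem gT_sur8 : ∀ σ ∈ T8, ∃ i, σ = gT i :=
  sur_of gT gT_inj (fun i => exists_T8.choose_spec (gT_mem i)) (by rw [cT8]; simp)

theorem t8 : T8 = T' :=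
  le_antisymm (fun σ h => by obtain ⟨i, rfl⟩ := gT_sur8 σ h; exact gT_mem i) exists_T8.choose_spec

theorem gT_sur : ∀ σ ∈ T', ∃ i, σ = gT i := t8 ▸ gT_sur8

theorem cT' : Nat.card T' = 2 ^ 7 := t8 ▸ cT8

theorem PP_sq {u : N2} (h : u.σ = 1) : u * u = 1 :=
  N2.ext (by simp [h]) (funext fun p => by simp [h, z2add])

theorem syl : Syl S2 ⊤ := by
  have h : Syl T' ⊤ := t8 ▸ Syl.sylow _
  refine ⟨le_top, h.grp.comap_of_ker_isPGroup π2
    fun u => ⟨1, Subtype.ext (by simpa [pow_two] using PP_sq u.2)⟩, ?_⟩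
  rw [Subgroup.relIndex_top_right, S2,
    Subgroup.index_comap_of_surjective _ fun σ => ⟨sec2 σ, rfl⟩, ← Subgroup.relIndex_top_right]
  exact h.odd

theorem BL_le : BL ≤ T' := fun _ h => t8 ▸ B_le_S0 h

theorem cBL : Nat.card BL = 16 := by
  rw [card_par gT gT_inj gT_mem gT_sur (fun σ => ∀ p, σ p = p ∨ σ p = x 1 p)
    fun u => ⟨fun h => ⟨BL_le h, h⟩, fun h => h.2⟩]
  decide +kernel

/-- a weak form of being affine -/
def wk (σ : Perm P) : Prop :=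
  σ (0 ^^^ 1 ^^^ 2) = σ 0 ^^^ σ 1 ^^^ σ 2 ∧ σ (0 ^^^ 1 ^^^ 4) = σ 0 ^^^ σ 1 ^^^ σ 4 ∧
    σ (0 ^^^ 2 ^^^ 4) = σ 0 ^^^ σ 2 ^^^ σ 4 ∧ σ (1 ^^^ 2 ^^^ 4) = σ 1 ^^^ σ 2 ^^^ σ 4

instance decWk (σ : Perm P) : Decidable (wk σ) := inferInstanceAs (Decidable (_ ∧ _))

theorem wk_of {σ : Perm P} (h : σ ∈ AG) : wk σ := ⟨h _ _ _, h _ _ _, h _ _ _, h _ _ _⟩

theorem of_wk {σ : Perm P} (h : σ ∈ BL) (h' : wk σ) : σ ∈ AG := by
  obtain ⟨i, rfl⟩ := gT_sur σ (BL_le h)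
  exact (by decide +kernel : ∀ i, (∀ p, gT i p = p ∨ gT i p = x 1 p) → wk (gT i) → gT i ∈ AG) i h h'

theorem cAG : Nat.card (T' ⊓ AG : Subgroup (Perm P)) ≤ 64 := by
  choose r hr using fun u : (T' ⊓ AG : Subgroup (Perm P)) => gT_sur u u.2.1
  have := Nat.card_le_card_of_injective
    (fun u : (T' ⊓ AG : Subgroup (Perm P)) => (⟨r u, hr u ▸ wk_of u.2.2⟩ : {i // wk (gT i)}))
    fun u v e => Subtype.ext (by rw [hr u, hr v, show r u = r v from congrArg Subtype.val e])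
  rwa [Nat.card_eq_fintype_card (α := {i // wk (gT i)}), Fintype.card_subtype,
    show #{i | wk (gT i)} = 64 by decide +kernel] at this

/-! ### The unitriangular group -/

/-- ten bits -/
abbrev Z10 : Type :=
  (ZMod 2 × ZMod 2 × ZMod 2 × ZMod 2) × (ZMod 2 × ZMod 2 × ZMod 2) × (ZMod 2 × ZMod 2) × ZMod 2

/-- the elements of `T0` -/
def gU (c : Z10) : N2 :=
  xc c.1.1 0 4 * xc c.1.2.1 1 4 * xc c.1.2.2.1 2 4 * xc c.1.2.2.2 3 4 * xc c.2.1.1 0 3 *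
    xc c.2.1.2.1 1 3 * xc c.2.1.2.2 2 3 * xc c.2.2.1.1 0 2 * xc c.2.2.1.2 1 2 * xc c.2.2.2 0 1

/-- the entries above the diagonal -/
def up (c : Fin 5 → Fin 5 → ZMod 2) : Z10 :=
  ((c 0 4, c 1 4, c 2 4, c 3 4), (c 0 3, c 1 3, c 2 3), (c 0 2, c 1 2), c 0 1)

theorem ut_eq (c : Fin 5 → Fin 5 → ZMod 2) : ut c = gU (up c) := rfl

theorem up_en : ∀ c, up (en (gU c)) = c := by decide +kernel

theorem gU_inj : Function.Injective gU :=
  Function.LeftInverse.injective (g := fun u => up (en u)) up_en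

theorem xc_mem : ∀ (i j : Fin 5), i < j → ∀ c, xc c i j ∈ T0 := by decide +kernel

theorem gU_mem (c : Z10) : gU c ∈ T0 := by
  unfold gU
  repeat' apply mul_mem
  all_goals exact xc_mem _ _ (by decide) _

theorem aff_ext {f g : P → ZMod 2} (hf : ∀ p q r, f (p ^^^ q ^^^ r) = f p + f q + f r)
    (hg : ∀ p q r, g (p ^^^ q ^^^ r) = g p + g q + g r) (e1 : f 0 = g 0) (e2 : f 1 = g 1)
    (e3 : f 2 = g 2) (e4 : f 4 = g 4) : f = g := by
  funext p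
  rcases (by decide +kernel : ∀ p : P, p = 0 ∨ p = 1 ∨ p = 2 ∨ p = 4 ∨ p = 0 ^^^ 1 ^^^ 2 ∨
    p = 0 ^^^ 1 ^^^ 4 ∨ p = 0 ^^^ 2 ^^^ 4 ∨ p = 1 ^^^ 2 ^^^ 4) p with h | h | h | h | h | h | h | h
  all_goals rw [h]
  exacts [e1, e2, e3, e4, by rw [hf, hg, e1, e2, e3], by rw [hf, hg, e1, e2, e4],
    by rw [hf, hg, e1, e3, e4], by rw [hf, hg, e2, e3, e4]]

theorem cT0_le : Nat.card T0 ≤ 1024 := by
  have := Nat.card_le_card_of_injective
    (fun u : T0 => ((⟨u.1.σ, u.2.2, u.2.1.1⟩ : (T' ⊓ AG : Subgroup (Perm P))),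
      u.1.f 0, u.1.f 1, u.1.f 2, u.1.f 4)) (by
      intro u v e
      simp only [Prod.mk.injEq] at e
      obtain ⟨e0, e1, e2, e3, e4⟩ := e
      exact Subtype.ext (N2.ext (congrArg Subtype.val e0) (aff_ext u.2.1.2 v.2.1.2 e1 e2 e3 e4)))
  rw [Nat.card_prod, Nat.card_prod, Nat.card_prod, Nat.card_prod, Nat.card_zmod] at this
  have := cAG
  omega

theorem gU_sur : ∀ u ∈ T0, ∃ c, u = gU c := sur_of gU gU_inj gU_mem (by simpa using cT0_le)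

theorem cT0 : Nat.card T0 = 1024 := by
  rw [card_par gU gU_inj gU_mem gU_sur (fun _ => True) fun u => (and_iff_left trivial).symm]
  simp

theorem nf (u : N2) (h : u ∈ T0) : u = ut (en u) := by
  obtain ⟨c, rfl⟩ := gU_sur u h
  rw [ut_eq, up_en]

theorem enu (c : Fin 5 → Fin 5 → ZMod 2) (i j : Fin 5) (h : i < j) : en (ut c) i j = c i j := by
  have := up_en (up c)
  rw [← ut_eq] at this
  simp only [up, Prod.mk.injEq] at this
  obtain ⟨⟨a1, a2, a3, a4⟩, ⟨a5, a6, a7⟩, ⟨a8, a9⟩, a10⟩ := this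
  rcases (by decide +kernel : ∀ i j : Fin 5, i < j → (i = 0 ∧ j = 4) ∨ (i = 1 ∧ j = 4) ∨
    (i = 2 ∧ j = 4) ∨ (i = 3 ∧ j = 4) ∨ (i = 0 ∧ j = 3) ∨ (i = 1 ∧ j = 3) ∨ (i = 2 ∧ j = 3) ∨
    (i = 0 ∧ j = 2) ∨ (i = 1 ∧ j = 2) ∨ (i = 0 ∧ j = 1)) i j h with
    h | h | h | h | h | h | h | h | h | h
  all_goals rw [h.1, h.2]
  exacts [a1, a2, a3, a4, a5, a6, a7, a8, a9, a10]

theorem TR_le : TR ≤ T' := fun σ h => by
  rw [show σ = x (σ 0) from Equiv.ext h]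
  generalize σ 0 = m
  revert m
  decide +kernel

theorem cQQ : Nat.card QQ = 128 := by
  rw [card_par (X := QQ) gU gU_inj gU_mem gU_sur (fun u => u.σ ∈ TR)
    fun u => ⟨fun h => ⟨⟨h.2, TR_le h.1⟩, h.1⟩, fun h => ⟨h.2, h.1.1⟩⟩]
  decide +kernel

theorem cAA : Nat.card AA = 16 := by
  rw [card_par gU gU_inj gU_mem gU_sur (· ∈ AA) fun u => ⟨fun h => ⟨AA_le_T0 h, h⟩, fun h => h.2⟩]
  decide +kernel

theorem cAP : Nat.card AP = 16 := by
  rw [card_par (X := AP) gU gU_inj gU_mem gU_sur (fun u => ∀ p, u.σ p = p)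
    fun u => ⟨fun h => ⟨⟨h.1, show u.σ ∈ T' from (show u.σ = 1 from h.2) ▸ one_mem _⟩,
      fun p => by rw [show u.σ = 1 from h.2]; rfl⟩, fun h => ⟨h.1.1, Equiv.ext h.2⟩⟩]
  decide +kernel

theorem cU1 : Nat.card U1 = 64 := by
  rw [card_par gU gU_inj gU_mem gU_sur (· ∈ FF) fun u => Iff.rfl]
  decide +kernel

/-! ### The product of the four-groups -/

/-- the elements of `FF` -/
def gF (c : Fin 4 × Fin 4 × Fin 4 × Fin 4) : N2 :=
  wb 0 c.1 * wb 1 c.2.1 * wb 2 c.2.2.1 * wb 3 c.2.2.2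

/-- the component -/
def cp (u : N2) (i : Fin 4) : Fin 4 :=
  if u.σ (pa i) = pa i then (if u.f (pa i) = 0 then 3 else 0) else if u.f (pa i) = 0 then 1 else 2

theorem gF_inj : Function.Injective gF :=
  Function.LeftInverse.injective (g := fun u => (cp u 0, cp u 1, cp u 2, cp u 3))
    (by decide +kernel)

theorem wb_mem : ∀ i k, wb i k ∈ FF := by decide +kernel

theorem gF_mem (c : Fin 4 × Fin 4 × Fin 4 × Fin 4) : gF c ∈ FF :=
  mul_mem (mul_mem (mul_mem (wb_mem _ _) (wb_mem _ _)) (wb_mem _ _)) (wb_mem _ _)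

theorem nfF (u : N2) (h : u ∈ FF) : ∃ a b c e, u = wb 0 a * wb 1 b * wb 2 c * wb 3 e := by
  have s : ∑ p, u.f p = 0 := by
    have h1 : u.f 1 = u.f 0 := h.2.2 0
    have h3 : u.f 3 = u.f 2 := h.2.2 2
    have h5 : u.f 5 = u.f 4 := h.2.2 4
    have h7 : u.f 7 = u.f 6 := h.2.2 6
    rw [Fin.sum_univ_eight, h1, h3, h5, h7]
    generalize u.f 0 = a; generalize u.f 2 = b; generalize u.f 4 = c; generalize u.f 6 = d
    revert a b c d; decide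
  obtain ⟨a, b, c, e, k⟩ := F_eq (u := ⟨u.σ, u.f, s⟩) ⟨h.1, h.2.2⟩
  exact ⟨a, b, c, e, congrArg em k⟩

theorem gF_sur : ∀ u ∈ FF, ∃ c, u = gF c := fun u h =>
  let ⟨a, b, c, e, k⟩ := nfF u h
  ⟨(a, b, c, e), k⟩

theorem cFF : Nat.card FF = 256 := by
  rw [card_par gF gF_inj gF_mem gF_sur (fun _ => True) fun u => (and_iff_left trivial).symm]
  simp

theorem cF1 : Nat.card F1 = 128 := by
  rw [card_par (X := F1) gF gF_inj gF_mem gF_sur (fun u => wk u.σ ∧ u ∈ EV)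
    fun u => ⟨fun h => ⟨h.2, wk_of h.1.1.1, h.1.1.2⟩,
      fun h => ⟨⟨⟨of_wk h.1.1 h.2.1, h.2.2⟩, BL_le h.1.1⟩, h.1⟩⟩]
  decide +kernel

theorem cDP : Nat.card DP = 64 := by
  rw [card_par gF gF_inj gF_mem gF_sur (· ∈ FX 6) fun u => Iff.rfl]
  decide +kernel

theorem cE1 : Nat.card E1 = 16 := by
  rw [card_par (X := E1) gF gF_inj gF_mem gF_sur (fun u => (∀ p, u.σ p = p) ∧ u ∈ EV)
    fun u => ⟨fun h => ⟨h.2, fun p => by rw [show u.σ = 1 from h.1.1]; rfl, h.1.2⟩,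
      fun h => ⟨⟨Equiv.ext h.2.1, h.2.2⟩, h.1⟩⟩]
  decide +kernel

theorem mod1 : Mod1 where
  two := syl.grp
  syl := syl
  cN := cN
  cS2 := by rw [S2, card_comap, cT']; rfl
  cSE := by rw [SE, S2, card_comap_ev, cT']; rfl
  cJJ := by rw [JJ, card_comap, cBL]; rfl
  cT0 := cT0
  cPP := by rw [PP, ← MonoidHom.comap_bot, card_comap, Subgroup.card_bot]
  cFF := cFF
  cEE := by rw [EE, PP, ← MonoidHom.comap_bot, card_comap_ev, Subgroup.card_bot]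
  cF1 := cF1
  cQQ := cQQ
  cU1 := cU1
  cDP := cDP
  cAA := cAA
  cAP := cAP
  cE1 := cE1
  nf := nf
  utm c := gU_mem (up c)
  enu := enu
  nfF := nfF
  t8 := t8

end Cfsg.Agent.H61.KnMod1
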