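import Cfsg.Agent.H25.CUKit
import Cfsg.Agent.H14.C6Es

/-! Project C6U: uniqueness of the normalised extraspecial group (port of `H14.C6Es`). -/

set_option autoImplicit false

namespace Cfsg.Agent.H61.CuEs

open Matrix Cfsg.Geo Cfsg.Agent.H25

universe u

theorem es : CU.EsStmt.{u} := by
  intro F _ _ r n p _ ω fld G hG s R hR hN
  have hr : r.Prime := Fact.out
  obtain ⟨m, hm, e⟩ := hR.exists_dim (by rw [ZMod.card]; exact hr.two_le)
  rw [ZMod.card] at e
  have hs : s = r := (Nat.prime_dvd_prime_iff_eq hR.prime hr).1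
    (by rw [e]; exact dvd_pow_self s (by omega))
  subst hs
  have h7 := fld.r7
  refine H14.C6Es.main fld.ord ?_ ?_ hG hR hN
  · have h2 : ((2 : ℕ) : ZMod s) ≠ 0 := by
      rw [Ne, ZMod.natCast_eq_zero_iff, h7]
      decide
    exact_mod_cast h2
  · rw [h7]; decide

end Cfsg.Agent.H61.CuEs
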