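import Cfsg.Agent.H46.J2Defs

/-! Project S94, piece LineJ. -/

set_option autoImplicit false
set_option linter.unusedSectionVars false

open scoped Pointwise commutatorElement
open Subgroup

namespace Cfsg.Agent.H61.S94LineJ

open Cfsg.Agent.H46.S94

universe u

section

variable {X : Type*} [Group X]

theorem zp_even {a : X} (h : a * a = 1) {i : ℤ} (e : Even i) : a ^ i = 1 := by
  obtain ⟨k, rfl⟩ := e
  rw [zpow_add, ← (Commute.refl a).mul_zpow, h, one_zpow]

theorem zp_odd {a : X} (h : a * a = 1) {i : ℤ} (e : Odd i) : a ^ i = a := by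
  obtain ⟨k, rfl⟩ := e
  rw [zpow_add, zp_even h (even_two_mul k), one_mul, zpow_one]

theorem cloz {a b v : X} (ab : Commute a b) (hv : v ∈ closure ({a, b} : Set X)) :
    ∃ i j : ℤ, v = a ^ i * b ^ j := by
  induction hv using closure_induction with
  | mem x hx =>
    rcases hx with rfl | rfl
    exacts [⟨1, 0, by simp⟩, ⟨0, 1, by simp⟩]
  | one => exact ⟨0, 0, by simp⟩
  | mul x y _ _ hx hy =>
    obtain ⟨i, j, rfl⟩ := hx
    obtain ⟨i', j', rfl⟩ := hy
    exact ⟨i + i', j + j', by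
      rw [zpow_add, zpow_add, (ab.zpow_zpow i' j).symm.mul_mul_mul_comm]⟩
  | inv x _ hx =>
    obtain ⟨i, j, rfl⟩ := hx
    exact ⟨-i, -j, by rw [zpow_neg, zpow_neg, (ab.zpow_zpow i j).eq, mul_inv_rev]⟩

theorem clo2 {a b v : X} (ha : a * a = 1) (hb : b * b = 1) (ab : Commute a b)
    (hv : v ∈ closure ({a, b} : Set X)) : v = 1 ∨ v = a ∨ v = b ∨ v = a * b := by
  obtain ⟨i, j, rfl⟩ := cloz ab hv
  rcases Int.even_or_odd i with e | e <;> rcases Int.even_or_odd j with e' | e'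
  · simp [zp_even ha e, zp_even hb e']
  · simp [zp_even ha e, zp_odd hb e']
  · simp [zp_odd ha e, zp_even hb e']
  · simp [zp_odd ha e, zp_odd hb e']

theorem key1 {a b : X} (ha : a * a = 1) (hb : b * b = 1) (a1 : a ≠ 1) (b1 : b ≠ 1)
    (ab1 : a * b ≠ 1) {i j : ℤ} (h : a ^ i * b ^ j = 1) : Even i ∧ Even j := by
  rcases Int.even_or_odd i with e | e <;> rcases Int.even_or_odd j with e' | e'
  · exact ⟨e, e'⟩
  · rw [zp_even ha e, zp_odd hb e', one_mul] at h; exact absurd h b1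
  · rw [zp_odd ha e, zp_even hb e', mul_one] at h; exact absurd h a1
  · rw [zp_odd ha e, zp_odd hb e'] at h; exact absurd h ab1

theorem sqz {x y : X} (c : Commute x y) (i j : ℤ) :
    x ^ i * y ^ j * (x ^ i * y ^ j) = (x * x) ^ i * (y * y) ^ j := by
  rw [(c.zpow_zpow i j).symm.mul_mul_mul_comm, (Commute.refl x).mul_zpow,
    (Commute.refl y).mul_zpow]

theorem dbl (x : X) (k : ℤ) : x ^ (k + k) = (x * x) ^ k := by
  rw [zpow_add, (Commute.refl x).mul_zpow]

theorem card16 {x y a b : X} (c : Commute x y) (hx : x * x = a) (hy : y * y = b)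
    (ha : a * a = 1) (hb : b * b = 1) (a1 : a ≠ 1) (b1 : b ≠ 1) (ab1 : a * b ≠ 1) :
    Nat.card (closure ({x, y} : Set X)) = 16 := by
  have k2 : ∀ i j : ℤ, x ^ i * y ^ j = 1 → 4 ∣ i ∧ 4 ∣ j := by
    intro i j h
    have h1 := sqz c i j
    rw [h, one_mul, hx, hy] at h1
    obtain ⟨⟨i, rfl⟩, ⟨j, rfl⟩⟩ := key1 ha hb a1 b1 ab1 h1.symm
    rw [dbl, dbl, hx, hy] at h
    obtain ⟨⟨i, rfl⟩, ⟨j, rfl⟩⟩ := key1 ha hb a1 b1 ab1 h
    exact ⟨⟨i, by ring⟩, ⟨j, by ring⟩⟩
  have x4 : x ^ (4 : ℤ) = 1 := by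
    rw [show (4 : ℤ) = 2 + 2 from rfl, dbl, hx, zp_even ha even_two]
  have y4 : y ^ (4 : ℤ) = 1 := by
    rw [show (4 : ℤ) = 2 + 2 from rfl, dbl, hy, zp_even hb even_two]
  have mx : x ∈ closure ({x, y} : Set X) := subset_closure (by simp)
  have my : y ∈ closure ({x, y} : Set X) := subset_closure (by simp)
  have hb : Function.Bijective (fun p : Fin 4 × Fin 4 =>
      (⟨x ^ ((p.1 : ℕ) : ℤ) * y ^ ((p.2 : ℕ) : ℤ), mul_mem (zpow_mem mx _) (zpow_mem my _)⟩ :
        closure ({x, y} : Set X))) := by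
    constructor
    · rintro ⟨i, j⟩ ⟨k, l⟩ h
      have h : x ^ ((i : ℕ) : ℤ) * y ^ ((j : ℕ) : ℤ) = x ^ ((k : ℕ) : ℤ) * y ^ ((l : ℕ) : ℤ) :=
        congrArg Subtype.val h
      have h2 : x ^ (-((k : ℕ) : ℤ) + (i : ℕ)) * y ^ (((j : ℕ) : ℤ) + -((l : ℕ) : ℤ)) = 1 := by
        rw [zpow_add, zpow_add, mul_assoc, ← mul_assoc (x ^ ((i : ℕ) : ℤ)), h, zpow_neg, zpow_neg]
        group
      obtain ⟨d1, d2⟩ := k2 _ _ h2
      have := i.2; have := j.2; have := k.2; have := l.2
      exact Prod.ext (Fin.ext (by simp only; omega)) (Fin.ext (by simp only; omega))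
    · rintro ⟨v, hv⟩
      obtain ⟨i, j, rfl⟩ := cloz c hv
      refine ⟨(⟨(i % 4).toNat, by omega⟩, ⟨(j % 4).toNat, by omega⟩), Subtype.ext ?_⟩
      simp only
      rw [Int.toNat_of_nonneg (by omega), Int.toNat_of_nonneg (by omega),
        ← zpow_eq_zpow_emod i x4, ← zpow_eq_zpow_emod j y4]
  rw [← Nat.card_eq_of_bijective _ hb]
  simp

end

variable {Γ : Type} [Group Γ] {G : Type u} [Group G] {φ : Γ →* G} {t : G} {O : Subgroup G}
  {z : Γ} {f : Γ → G}

theorem fc (h : Lf φ t z f) {r l : Γ} (i : IsConj z r) (c : Commute l r) : Commute (φ l) (f r) := by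
  have := h.eq l r i
  rw [c.eq, mul_inv_cancel_right, eq_mul_inv_iff_mul_eq] at this
  exact this.symm

theorem finv (h : Lf φ t z f) {r : Γ} (i : IsConj z r) : (f r)⁻¹ = f r :=
  inv_eq_of_mul_eq_one_right (h.sq r i)

theorem ffx (h : Lf φ t z f) {r : Γ} (i : IsConj z r) (x : G) : f r * (f r * x) = x := by
  rw [← mul_assoc, h.sq r i, one_mul]

theorem ft (h : Lf φ t z f) {r : Γ} (i : IsConj z r) : f r * t = t * φ r * f r := by
  rw [← h.br r i, mul_assoc, h.sq r i, mul_one]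

theorem tr_mul {x x' : G} {r r' : Γ} (h : x * t = t * φ r * x) (h' : x' * t = t * φ r' * x')
    (c : Commute (φ r') x) : x * x' * t = t * φ (r * r') * (x * x') := by
  rw [mul_assoc, h', ← mul_assoc, ← mul_assoc, h, map_mul, mul_assoc _ x, ← c.eq]
  simp only [mul_assoc]

theorem decomp (h : Cx φ t O) {c : G} (hc : c * t = t * φ 1 * c) {K : Γ → Prop} {S : Subgroup Γ}
    (cen : ∀ α : MulAut Γ, (∀ l, K l → α l = l) → ∃ v ∈ S, α = MulAut.conj v)
    (hK : ∀ l, K l → Commute (φ l) c) : ∃ v ∈ S, ∃ o ∈ O, c = φ v * o ∨ c = φ v * t * o := by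
  rw [map_one, mul_one] at hc
  obtain ⟨α, hα⟩ := h.aut hc
  obtain ⟨v, hv, e⟩ := cen α fun l hl => h.inj (by rw [hα, ← (hK l hl).eq, mul_inv_cancel_right])
  exact ⟨v, hv, h.split' hc hα e⟩

theorem cj_t (hl : Lf φ t z f) (lo : LO O z f) {r v : Γ} (i : IsConj z r) (c : Commute v r) {o : G}
    (ho : o ∈ O) (h : Cx φ t O) :
    f r * (φ v * o) * f r = φ v * o ∧ f r * (φ v * t * o) * f r = φ v * t * o * φ r := by
  constructor
  · rw [mul_assoc, mul_assoc, ← lo r i o ho, ← mul_assoc (φ v), (fc hl i c).eq, mul_assoc,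
      ffx hl i]
  · calc _ = (f r * φ v) * t * (o * f r) := by simp only [mul_assoc]
      _ = φ v * (f r * t * f r) * o := by rw [← (fc hl i c).eq, ← lo r i o ho]; simp only [mul_assoc]
      _ = _ := by rw [hl.br r i, mul_assoc, mul_assoc, h.oA ho]; simp only [mul_assoc]

theorem nA (h : Cx φ t O) (a : Γ) (x : G) : t * (φ a * x) = φ a * (t * x) := by
  rw [← mul_assoc, ← h.AC, mul_assoc]

theorem nO (h : Cx φ t O) {o : G} (ho : o ∈ O) (a : Γ) (x : G) : o * (φ a * x) = φ a * (o * x) := by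
  rw [← mul_assoc, ← h.oA ho, mul_assoc]

theorem nT (h : Cx φ t O) {o : G} (ho : o ∈ O) (x : G) : o * (t * x) = t * (o * x) := by
  rw [← mul_assoc, h.Ot o ho, mul_assoc]

theorem ttx (h : Cx φ t O) (x : G) : t * (t * x) = x := by rw [← mul_assoc, h.tt, one_mul]

theorem zsq (hl : Lf φ t z f) {r : Γ} (i : IsConj z r) : f r * t * (f r * t) = φ r := by
  rw [← mul_assoc, hl.br r i, ← hl.AC, mul_assoc, hl.tt, mul_one]

theorem rr (hl : Lf φ t z f) {r : Γ} (i : IsConj z r) : r * r = 1 := by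
  apply hl.inj
  have e := hl.br r i
  have : f r * t * f r * (f r * t * f r) = 1 := by
    simp only [mul_assoc, ffx hl i]
    rw [← mul_assoc t, hl.tt, one_mul, hl.sq r i]
  rw [e, mul_assoc, ← mul_assoc (φ r), hl.AC, ← mul_assoc, ← mul_assoc, hl.tt, one_mul] at this
  rw [map_mul, this, map_one]

/-- the first half: the line is exact or `NE` holds -/
theorem half {y σ : Γ} (hb : Base Γ) (ln : LN z y σ) (h : Cx φ t O) (hl : Lf φ t z f)
    (lo : LO O z f) : f z * f y = f (z * y) ∨ NE φ t f z y := by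
  have zy : Commute z y := ln.zy
  have iz : IsConj z z := IsConj.refl z
  have iy : IsConj z y := isConj_iff.2 ⟨σ, ln.s1⟩
  have iw : IsConj z (z * y) := iy.trans (isConj_iff.2 ⟨σ, ln.s2⟩)
  have zz := rr hl iz
  have yy := rr hl iy
  have ww := rr hl iw
  have n1 : ∀ r, IsConj z r → r ≠ 1 := fun r i e => ln.z1 (isConj_one_left.1 (e ▸ i))
  have yz : y ≠ z := fun e => n1 _ iw (by rw [e, zz])
  have zw : Commute z (z * y) := (Commute.refl z).mul_right zy
  have yw : Commute y (z * y) := zy.symm.mul_right (Commute.refl y)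
  have yyx : ∀ x, y * (y * x) = x := fun x => by rw [← mul_assoc, yy, one_mul]
  have cw : σ * (z * y) * σ⁻¹ = z := by rw [← conj_mul, ln.s1, ln.s2, zy.eq, yyx]
  have cv : ∀ v ∈ closure ({z, y} : Set Γ), v * v = 1 ∧ Commute v z ∧ Commute v y := by
    intro v hv
    rcases clo2 zz yy zy hv with rfl | rfl | rfl | rfl
    · simp
    · exact ⟨zz, Commute.refl _, zy⟩
    · exact ⟨yy, zy.symm, Commute.refl _⟩
    · exact ⟨ww, zw.symm, yw.symm⟩
  have t2 := tr_mul (ft hl iz) (ft hl iy) (fc hl iz zy.symm)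
  obtain ⟨v1, e1⟩ : ∃ v, f z * f y * (f z * f y) = φ v := by
    have t4 := tr_mul t2 t2 ((fc hl iz zw.symm).mul_right (fc hl iy yw.symm))
    rw [ww] at t4
    obtain ⟨v, hv, o, ho, e⟩ := decomp h t4 (K := fun l => l * z = z * l ∧ l * y = y * l)
      (fun α hα => ln.cen α fun l a b => hα l ⟨a, b⟩) fun l hl' =>
        have := (fc hl iz hl'.1).mul_right (fc hl iy hl'.2)
        this.mul_right this
    obtain ⟨vv, vz, vy⟩ := cv v hv
    have inv : f z * (f z * f y * (f z * f y)) * f z * (f z * f y * (f z * f y)) = 1 := by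
      simp only [mul_assoc, ffx hl iz, ffx hl iy, hl.sq y iy]
    refine ⟨v, ?_⟩
    rcases e with e | e
    · rw [e, (cj_t hl lo iz vz ho h).1, mul_assoc, ← mul_assoc o, ← h.oA ho, ← mul_assoc,
        ← mul_assoc, ← map_mul, vv, map_one, one_mul] at inv
      rw [e, h.o_sq ho inv, mul_one]
    · rw [e, (cj_t hl lo iz vz ho h).2] at inv
      have : φ (v * z * v) * (o * o) = 1 := by
        rw [← inv, map_mul, map_mul]
        simp only [mul_assoc, nA h, nO h ho, nT h ho, ttx h]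
      have := (h.o_of_mul hb (mul_mem ho ho) this).1
      rw [vz.eq, mul_assoc, vv, mul_one] at this
      exact absurd this ln.z1
  have t3 := tr_mul t2 (ft hl iw) ((fc hl iz zw.symm).mul_right (fc hl iy yw.symm))
  rw [ww] at t3
  obtain ⟨v, hv, o, ho, e⟩ := decomp h t3 (K := fun l => l * z = z * l ∧ l * y = y * l)
    (fun α hα => ln.cen α fun l a b => hα l ⟨a, b⟩) fun l hl' =>
      ((fc hl iz hl'.1).mul_right (fc hl iy hl'.2)).mul_right
        (fc hl iw (Commute.mul_right hl'.1 hl'.2))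
  obtain ⟨vv, vz, vy⟩ := cv v hv
  have vw : Commute v (z * y) := vz.mul_right vy
  have u2 : f z * f y * (f z * f y) =
      f z * f y * f (z * y) * (f (z * y) * (f z * f y * f (z * y)) * f (z * y)) := by
    simp only [mul_assoc, ffx hl iw, hl.sq _ iw, mul_one]
  have d2 : φ σ * (f z * f y * f (z * y)) * (φ σ)⁻¹ = f z * (f z * f y * f (z * y)) * f z := by
    rw [← conj_mul, ← conj_mul, ← hl.eq σ _ iz, ← hl.eq σ _ iy, ← hl.eq σ _ iw, ln.s1, ln.s2, cw]
    simp only [mul_assoc, ffx hl iz]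
  rcases e with e | e
  · left
    have o1 : o = 1 := by
      rw [e1, e, (cj_t hl lo iw vw ho h).1, mul_assoc, nO h ho, ← mul_assoc, ← map_mul, vv,
        map_one, one_mul] at u2
      refine h.o_sq ho (h.o_of_mul hb (a := v1⁻¹) (mul_mem ho ho) ?_).2
      rw [map_inv, u2, inv_mul_cancel]
    rw [e, (cj_t hl lo iz vz ho h).1, o1, mul_one, ← map_inv, ← map_mul, ← map_mul] at d2
    have d2 := h.inj d2
    have v0 : v = 1 := by
      rcases clo2 zz yy zy hv with e | e | e | e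
      · exact e
      · rw [e, ln.s1] at d2; exact absurd d2 yz
      · rw [e, ln.s2, mul_eq_right] at d2; exact absurd d2 ln.z1
      · rw [e, cw, eq_comm, mul_eq_left] at d2; exact absurd d2 (n1 y iy)
    rw [o1, v0, map_one, mul_one, mul_eq_one_iff_eq_inv, finv hl iw] at e
    exact e
  · right
    have o1 : o = 1 := by
      rw [e1, e, (cj_t hl lo iw vw ho h).2] at u2
      refine h.o_sq ho (h.o_of_mul hb (a := v1⁻¹ * (v * v * (z * y))) (mul_mem ho ho) ?_).2
      rw [map_mul, map_inv, u2, mul_assoc, inv_mul_eq_one, map_mul _ (v * v), map_mul _ v,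
        mul_assoc (φ v * t) o (φ (z * y)), ← h.oA ho]
      simp only [mul_assoc, nA h, nO h ho, nT h ho, ttx h]
    rw [e, (cj_t hl lo iz vz ho h).2, o1, mul_one, mul_assoc (φ v), ← h.AC, ← mul_assoc,
      ← map_mul, ← map_inv, ← mul_assoc, mul_assoc _ t, ← h.AC, ← mul_assoc, ← map_mul, ← map_mul,
      mul_left_inj] at d2
    have d2 := h.inj d2
    have v0 : v = y := by
      rcases clo2 zz yy zy hv with e | e | e | e
      · rw [e, mul_one, mul_inv_cancel, one_mul] at d2; exact absurd d2.symm ln.z1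
      · rw [e, ln.s1, zz] at d2; exact absurd d2 (n1 y iy)
      · exact e
      · rw [e, cw, mul_assoc, ← zy.eq, ← mul_assoc, zz, one_mul] at d2; exact absurd d2.symm yz
    rw [o1, v0, mul_one] at e
    exact e

theorem second [Finite G] {y σ : Γ} (ln : LN z y σ) (h : Cx φ t O) (hl : Lf φ t z f)
    (lo : LO O z f) (ne : NE φ t f z y) : DS φ t O f z y σ (closure {f z * t, f y * t}) := by
  have zy : Commute z y := ln.zy
  have iz : IsConj z z := IsConj.refl z
  have iy : IsConj z y := isConj_iff.2 ⟨σ, ln.s1⟩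
  have iw : IsConj z (z * y) := iy.trans (isConj_iff.2 ⟨σ, ln.s2⟩)
  have zz := rr hl iz
  have yy := rr hl iy
  have ww := rr hl iw
  have n1 : ∀ r, IsConj z r → φ r ≠ 1 := fun r i e =>
    ln.z1 (isConj_one_left.1 ((h.inj (e.trans (map_one φ).symm)) ▸ i))
  have sq : ∀ r, r * r = 1 → φ r * φ r = 1 := fun r e => by rw [← map_mul, e, map_one]
  have e1 : f z * t * (f y * t) = (f (z * y) * t)⁻¹ := by
    have a : f z * f y = φ y * t * f (z * y) := by
      rw [← ne, mul_assoc _ (f _), hl.sq _ iw, mul_one]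
    rw [mul_inv_rev, h.tinv, finv hl iw, ft hl iy, mul_assoc, mul_assoc t, ttx h,
      ← (fc hl iz zy.symm).left_comm, a, mul_assoc, ← mul_assoc, sq y yy, one_mul]
  have c : Commute (f z * t) (f y * t) := by
    have a : f z * t * (f y * t) * (f z * t * (f y * t)) =
        f z * t * (f z * t) * (f y * t * (f y * t)) := by
      rw [e1, ← mul_inv_rev, zsq hl iw, zsq hl iz, zsq hl iy, ← map_mul]
      exact inv_eq_of_mul_eq_one_right (sq _ ww)
    generalize f z * t = x at a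
    generalize f y * t = x' at a
    simp only [mul_assoc, mul_right_inj] at a
    rw [← mul_assoc, ← mul_assoc, mul_left_inj] at a
    exact a.symm
  have mx : f z * t ∈ closure ({f z * t, f y * t} : Set G) := subset_closure (by simp)
  have my : f y * t ∈ closure ({f z * t, f y * t} : Set G) := subset_closure (by simp)
  have mz : z ∈ Z2 z y := subset_closure (by simp)
  have my' : y ∈ Z2 z y := subset_closure (by simp)
  have cen : ∀ g : G, Commute g (f z * t) → Commute g (f y * t) →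
      g ∈ centralizer (closure ({f z * t, f y * t} : Set G) : Set G) := by
    intro g a b
    rw [mem_centralizer_iff]
    intro d hd
    obtain ⟨i, j, rfl⟩ := cloz c hd
    exact ((a.zpow_right i).mul_right (b.zpow_right j)).eq.symm
  have ti : ∀ r, IsConj z r → t * (f r * t) * t⁻¹ = (f r * t)⁻¹ := fun r i => by
    rw [mul_inv_rev, finv hl i, ← mul_assoc, mul_inv_cancel_right, h.tinv]
  have cs : ∀ r, IsConj z r → φ σ * (f r * t) * (φ σ)⁻¹ = f (σ * r * σ⁻¹) * t := fun r i => by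
    rw [← conj_mul, hl.eq σ r i, h.AC σ, mul_inv_cancel_right]
  refine ⟨⟨?_, ?_, ?_, ?_, ?_, ?_⟩, mx, ?_, ?_, ?_, ?_⟩
  · intro d hd d' hd'
    obtain ⟨i, j, rfl⟩ := cloz c hd
    exact (cen _ (((Commute.refl _).zpow_left i).mul_left (c.symm.zpow_left j))
      ((c.zpow_left i).mul_left ((Commute.refl _).zpow_left j)) d' hd').symm
  · exact card16 c (zsq hl iz) (zsq hl iy) (sq z zz) (sq y yy) (n1 z iz) (n1 y iy)
      (by rw [← map_mul]; exact n1 _ iw)
  · rw [map_le_iff_le_comap, closure_le]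
    rintro x (rfl | rfl)
    · change φ x ∈ Subgroup.closure _
      rw [← zsq hl iz]; exact mul_mem mx mx
    · change φ x ∈ Subgroup.closure _
      rw [← zsq hl iy]; exact mul_mem my my
  · intro d hd
    obtain ⟨i, j, rfl⟩ := cloz c hd
    nth_rewrite 4 [← h.tinv]
    rw [← conj_mul, ← conj_zpow, ← conj_zpow, ti z iz, ti y iy, inv_zpow, inv_zpow,
      (c.zpow_zpow i j).eq, mul_inv_rev]
  · apply mem_normalizer_fintype
    intro d hd
    obtain ⟨i, j, rfl⟩ := cloz c hd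
    rw [← conj_mul, ← conj_zpow, ← conj_zpow, cs z iz, cs y iy, ln.s1, ln.s2,
      ← inv_inv (f (z * y) * t), ← e1]
    exact mul_mem (zpow_mem my _) (zpow_mem (inv_mem (mul_mem mx my)) _)
  · refine ⟨_, mx, ?_⟩
    have : Fact (Nat.Prime 2) := ⟨Nat.prime_two⟩
    refine orderOf_eq_prime_pow (p := 2) (n := 1) ?_ ?_
    · rw [pow_one, pow_two, zsq hl iz]; exact n1 z iz
    · rw [show 2 ^ (1 + 1) = 2 * 2 from rfl, pow_mul, pow_two, pow_two, zsq hl iz, sq z zz]
  · intro l a b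
    exact cen _ ((fc hl iz a).mul_right (h.AC l)) ((fc hl iy b).mul_right (h.AC l))
  · intro o ho
    exact cen _ (Commute.mul_right (lo z iz o ho).symm (h.Ot o ho))
      (Commute.mul_right (lo y iy o ho).symm (h.Ot o ho))
  · intro d hd e
    obtain ⟨i, j, rfl⟩ := cloz c hd
    rw [sqz c, zsq hl iz, zsq hl iy] at e
    obtain ⟨⟨i, rfl⟩, ⟨j, rfl⟩⟩ := key1 (sq z zz) (sq y yy) (n1 z iz) (n1 y iy)
      (by rw [← map_mul]; exact n1 _ iw) e
    rw [dbl, dbl, zsq hl iz, zsq hl iy, ← map_zpow, ← map_zpow, ← map_mul]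
    exact mem_map_of_mem φ (mul_mem (zpow_mem mz _) (zpow_mem my' _))
  · rintro _ ⟨v, hv, rfl⟩
    obtain ⟨i, j, rfl⟩ := cloz zy hv
    refine ⟨_, mul_mem (zpow_mem mx i) (zpow_mem my j), ?_⟩
    rw [sqz c, zsq hl iz, zsq hl iy, map_mul, map_zpow, map_zpow]

theorem lineJ : LineJStmt.{u} := by
  intro Γ _ G _ _ φ t O f z y σ hb ln h hl lo
  exact (half hb ln h hl lo).imp_right fun ne => ⟨ne, _, second ln h hl lo ne⟩

end Cfsg.Agent.H61.S94LineJ
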