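import Mathlib
import Cfsg.Agent.H91.ThreeOrbits

/-! Linear algebra over a prime field: bounds on the order of an elementary abelian group acted
on by automorphisms of prime order. -/

set_option autoImplicit false

open Polynomial Module

namespace Cfsg.Agent.H61.TR

section lin
variable {K V : Type*} [Field K] [AddCommGroup V] [Module K V] [FiniteDimensional K V]

theorem finrank_range_pow_add (N : Module.End K V) (k : ℕ) :
    finrank K V ≤ finrank K (LinearMap.range (N ^ k)) + k * finrank K (LinearMap.ker N) := by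
  induction k with
  | zero => rw [pow_zero, Module.End.one_eq_id, LinearMap.range_id]; simp
  | succ k ih =>
    have h1 := LinearMap.finrank_range_add_finrank_ker (N.domRestrict (LinearMap.range (N ^ k)))
    have h2 : LinearMap.range (N.domRestrict (LinearMap.range (N ^ k))) =
        LinearMap.range (N ^ (k + 1)) := by
      rw [LinearMap.range_domRestrict, pow_succ', Module.End.mul_eq_comp, LinearMap.range_comp]
    have h3 : finrank K (LinearMap.ker (N.domRestrict (LinearMap.range (N ^ k)))) ≤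
        finrank K (LinearMap.ker N) := by
      rw [LinearMap.ker_domRestrict]
      exact (Submodule.finrank_map_subtype_eq _ _).symm.le.trans
        (Submodule.finrank_mono (Submodule.map_comap_le _ _))
    rw [h2] at h1
    rw [add_mul, one_mul]
    omega

theorem finrank_le_of_pow_eq_zero {N : Module.End K V} {k : ℕ} (h : N ^ k = 0)
    (h1 : finrank K (LinearMap.ker N) ≤ 1) : finrank K V ≤ k := by
  have h2 := finrank_range_pow_add N k
  rw [h, LinearMap.range_zero, finrank_bot, zero_add] at h2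
  exact h2.trans (by simpa using Nat.mul_le_mul_left k h1)

/-- an operator of prime order `r` without fixed vectors, similar to all its nontrivial powers,
lives in dimension at least `r - 1`. -/
theorem le_finrank_of_similar [Nontrivial V] {r : ℕ} (hr : r.Prime) {T : Module.End K V}
    (hT : T ^ r = 1) (hf : ∀ v, T v = v → v = 0)
    (hs : ∀ i, 0 < i → i < r → aeval (T ^ i) (minpoly K T) = 0) : r - 1 ≤ finrank K V := by
  classical
  have hint : IsIntegral K T := Algebra.IsIntegral.isIntegral T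
  set m := minpoly K T with hm
  have hm0 : m ≠ 0 := minpoly.ne_zero hint
  have hdeg : m.degree ≠ 0 := (minpoly.degree_pos hint).ne'
  let L := AlgebraicClosure K
  obtain ⟨ζ, hζ⟩ := IsAlgClosed.exists_aeval_eq_zero L m hdeg
  have hroot : ∀ g : K[X], aeval T g = 0 → aeval ζ g = 0 := fun g hg => by
    obtain ⟨c, rfl⟩ := minpoly.dvd K T hg
    rw [map_mul, ← hm, hζ, zero_mul]
  have h1 : ζ ^ r = 1 := by
    have := hroot (X ^ r - 1) (by simp [hT])
    simpa [sub_eq_zero] using this
  have h2 : ζ ≠ 1 := by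
    rintro rfl
    have h3 : m.IsRoot 1 := by
      have : algebraMap K L (m.eval 1) = 0 := by
        rw [← hζ, ← Polynomial.aeval_algebraMap_apply_eq_algebraMap_eval, map_one]
      exact (algebraMap K L).injective (by rw [this, map_zero])
    obtain ⟨v, hv⟩ := (Module.End.hasEigenvalue_of_isRoot h3).exists_hasEigenvector
    exact hv.2 (hf v (by simpa using hv.apply_eq_smul))
  have := Fact.mk hr
  have h3 : IsPrimitiveRoot ζ r := by
    rw [← orderOf_eq_prime h1 h2]
    exact IsPrimitiveRoot.orderOf ζ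
  have h4 : ∀ i ∈ Finset.Ioo 0 r, ζ ^ i ∈ (m.aroots L).toFinset := by
    intro i hi
    rw [Finset.mem_Ioo] at hi
    rw [Multiset.mem_toFinset, mem_aroots]
    refine ⟨hm0, ?_⟩
    have := hroot (m.comp (X ^ i)) (by rw [aeval_comp]; simpa using hs i hi.1 hi.2)
    rw [aeval_comp] at this
    simpa using this
  have h5 : (Finset.Ioo 0 r).card ≤ (m.aroots L).toFinset.card :=
    Finset.card_le_card_of_injOn (fun i => ζ ^ i) h4 fun i hi j hj hij =>
      h3.pow_inj (Finset.mem_Ioo.1 hi).2 (Finset.mem_Ioo.1 hj).2 hij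
  have h6 : (m.aroots L).toFinset.card ≤ m.natDegree :=
    (Multiset.toFinset_card_le _).trans ((card_roots' _).trans natDegree_map_le)
  have h7 : m.natDegree ≤ finrank K V := by
    rw [← LinearMap.charpoly_natDegree T]
    exact natDegree_le_of_dvd (LinearMap.minpoly_dvd_charpoly T) T.charpoly_monic.ne_zero
  rw [Nat.card_Ioo] at h5
  omega

omit [FiniteDimensional K V] in
theorem geom_eq_zero {r : ℕ} {T : Module.End K V} (hT : T ^ r = 1)
    (hf : ∀ v, T v = v → v = 0) : ∑ i ∈ Finset.range r, T ^ i = 0 := by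
  have h := mul_geom_sum T r
  rw [hT, sub_self] at h
  ext v
  refine hf _ ?_
  have := congrArg (fun f => f v) h
  simpa [sub_eq_zero] using this

omit [FiniteDimensional K V] in
/-- a rank two elementary abelian group does not act fixed-point-freely -/
theorem cast_eq_zero_of_fpf {r : ℕ} (hr : r.Prime) {a b : Module.End K V} (hab : Commute a b)
    (ha : a ^ r = 1) (hb : b ^ r = 1) (h1 : ∀ j, ∀ v, (a * b ^ j) v = v → v = 0)
    (h2 : ∀ k, 0 < k → k < r → ∀ v, (b ^ k) v = v → v = 0) : (r : Module.End K V) = 0 := by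
  have h3 : ∀ j ∈ Finset.range r, ∑ k ∈ Finset.range r, a ^ k * (b ^ k) ^ j = 0 := by
    intro j _
    rw [← geom_eq_zero (T := a * b ^ j) (r := r) (by
      rw [(hab.pow_right j).mul_pow, ha, one_mul, ← pow_mul, mul_comm, pow_mul, hb, one_pow])
      (h1 j)]
    refine Finset.sum_congr rfl fun k _ => ?_
    rw [(hab.pow_right j).mul_pow, ← pow_mul, ← pow_mul, mul_comm k j]
  have h4 := Finset.sum_eq_zero h3
  rw [Finset.sum_comm, Finset.sum_eq_single_of_mem 0 (Finset.mem_range.2 hr.pos)] at h4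
  · simpa using h4
  · intro k hk hk0
    rw [← Finset.mul_sum, geom_eq_zero (T := b ^ k)
      (by rw [← pow_mul, mul_comm, pow_mul, hb, one_pow])
      (h2 k (Nat.pos_of_ne_zero hk0) (Finset.mem_range.1 hk)), mul_zero]

end lin

section aut
open H91
variable {s : ℕ} [hs : Fact s.Prime] {W : Type*} [CommGroup W] [Finite W]
  [Module (ZMod s) (Additive W)]

theorem card_eq_pow : Nat.card W = s ^ finrank (ZMod s) (Additive W) := by
  have h := Module.natCard_eq_pow_finrank (K := ZMod s) (V := Additive W)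
  rw [Nat.card_zmod] at h
  exact h

theorem card_le_aut' (ξ : MulAut W) (hξ : ξ ^ s = 1) (y : W) (hy : ∀ w, ξ w = w → w ∈ Subgroup.zpowers y) :
    Nat.card W ≤ s ^ s := by
  rw [card_eq_pow (s := s)]
  refine Nat.pow_le_pow_right hs.out.pos ?_
  refine finrank_le_of_pow_eq_zero (N := mulAutToEnd s W ξ - 1) ?_ ?_
  · rcases subsingleton_or_nontrivial (Module.End (ZMod s) (Additive W)) with h | h
    · exact Subsingleton.elim _ _
    have : CharP (Module.End (ZMod s) (Additive W)) s :=
      charP_of_injective_algebraMap (algebraMap (ZMod s) _).injective s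
    rw [sub_pow_char_of_commute _ (Commute.one_right _), ← map_pow, hξ, map_one, one_pow, sub_self]
  · refine (Submodule.finrank_mono (t := Submodule.span (ZMod s) {Additive.ofMul y}) ?_).trans
      (finrank_span_le_card _ |>.trans (by simp))
    intro v hv
    obtain ⟨k, hk⟩ := hy v.toMul (by
      have := LinearMap.mem_ker.1 hv
      rw [LinearMap.sub_apply, sub_eq_zero] at this
      exact this)
    have : v = k • Additive.ofMul y := by
      rw [← ofMul_zpow]; exact congrArg Additive.ofMul hk.symm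
    rw [this]
    exact Submodule.smul_of_tower_mem _ _ (Submodule.mem_span_singleton_self _)

theorem le_card_aut' [Nontrivial W] {r : ℕ} (hr : r.Prime) (ξ : MulAut W) (hξ : ξ ^ r = 1)
    (hf : ∀ w, ξ w = w → w = 1) (hc : ∀ i, 0 < i → i < r → ∃ τ : MulAut W, τ * ξ = ξ ^ i * τ) :
    s ^ (r - 1) ≤ Nat.card W := by
  rw [card_eq_pow (s := s)]
  refine Nat.pow_le_pow_right hs.out.pos ?_
  refine le_finrank_of_similar hr (T := mulAutToEnd s W ξ) (by rw [← map_pow, hξ, map_one])
    (fun v hv => hf v.toMul hv) fun i h1 h2 => ?_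
  obtain ⟨τ, hτ⟩ := hc i h1 h2
  ext u
  have h3 := addEquiv_aeval (X := mulAutToEnd s W ξ) (Y := mulAutToEnd s W ξ ^ i)
    (MulEquiv.toAdditive τ) (fun u => by
      rw [← map_pow]; exact congrArg (fun f : MulAut W => f u.toMul) hτ)
    (minpoly (ZMod s) (mulAutToEnd s W ξ)) ((MulEquiv.toAdditive τ).symm u)
  rw [minpoly.aeval, AddEquiv.apply_symm_apply] at h3
  simpa using h3.symm

omit [Finite W] in
theorem not_fpf_aut' [Nontrivial W] {r : ℕ} (hr : r.Prime) (hrs : r ≠ s) {a b : MulAut W}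
    (hab : Commute a b) (ha : a ^ r = 1) (hb : b ^ r = 1)
    (h1 : ∀ j, ∀ v, (a * b ^ j) v = v → v = 1)
    (h2 : ∀ k, 0 < k → k < r → ∀ v, (b ^ k) v = v → v = 1) : False := by
  have h3 := cast_eq_zero_of_fpf (K := ZMod s) hr (hab.map (mulAutToEnd s W))
    (by rw [← map_pow, ha, map_one]) (by rw [← map_pow, hb, map_one])
    (fun j v hv => h1 j v.toMul (by rw [← map_pow, ← map_mul] at hv; exact hv))
    (fun k hk hk' v hv => h2 k hk hk' v.toMul (by rw [← map_pow] at hv; exact hv))
  have : CharP (Module.End (ZMod s) (Additive W)) s :=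
    charP_of_injective_algebraMap (algebraMap (ZMod s) _).injective s
  exact hrs ((Nat.prime_dvd_prime_iff_eq hs.out hr).1 ((CharP.cast_eq_zero_iff _ s r).1 h3)).symm

end aut

section grp
variable {H : Type*} [Group H] [Finite H] {E : Subgroup H} {s : ℕ}

/-- an elementary abelian subgroup of exponent `s` -/
structure El (s : ℕ) (E : Subgroup H) : Prop where
  prime : s.Prime
  comm : ∀ a ∈ E, ∀ b ∈ E, a * b = b * a
  pow : ∀ a ∈ E, a ^ s = 1

omit [Finite H] in
theorem aut_apply (g : Subgroup.normalizer (E : Set H)) (v : E) :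
    ((E.normalizerMonoidHom g v : E) : H) = g * v * g⁻¹ := rfl

omit [Finite H] in
theorem aut_fix_iff (g : Subgroup.normalizer (E : Set H)) (v : E) :
    E.normalizerMonoidHom g v = v ↔ Commute (g : H) v := by
  rw [Subtype.ext_iff, aut_apply, Subgroup.coe_inv, mul_inv_eq_iff_eq_mul]; rfl

omit [Finite H] in
theorem aut_eq_one {g : Subgroup.normalizer (E : Set H)} (h : ∀ v ∈ E, Commute (g : H) v) :
    E.normalizerMonoidHom g = 1 :=
  MulEquiv.ext fun v => (aut_fix_iff g v).2 (h v v.2)

theorem El.card_le (hE : El s E) {g : H} (hg : g ∈ Subgroup.normalizer (E : Set H))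
    (hgs : ∀ v ∈ E, Commute (g ^ s) v) {y : H} (hyE : y ∈ E)
    (hy : ∀ v ∈ E, Commute g v → v ∈ Subgroup.zpowers y) : Nat.card E ≤ s ^ s :=
  haveI := Fact.mk hE.prime
  let i : CommGroup E := { mul_comm := fun a b => Subtype.ext (hE.comm a a.2 b b.2) }
  @card_le_aut' s _ E i _
    (AddCommGroup.zmodModule (n := s) (G := Additive E)
      (fun w => Subtype.ext (hE.pow w.toMul w.toMul.2)))
    (E.normalizerMonoidHom ⟨g, hg⟩) (by rw [← map_pow]; exact aut_eq_one hgs) ⟨y, hyE⟩
    fun w hw => by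
      obtain ⟨k, hk⟩ := hy w w.2 ((aut_fix_iff _ _).1 hw)
      exact ⟨k, Subtype.ext (by simpa using hk)⟩

theorem El.le_card (hE : El s E) (hE1 : E ≠ ⊥) {r : ℕ} (hr : r.Prime) {g : H}
    (hg : g ∈ Subgroup.normalizer (E : Set H)) (hgs : ∀ v ∈ E, Commute (g ^ r) v)
    (hf : ∀ v ∈ E, Commute g v → v = 1)
    (hc : ∀ i, 0 < i → i < r → ∃ τ ∈ Subgroup.normalizer (E : Set H),
      ∀ v ∈ E, Commute ((g ^ i)⁻¹ * (τ * g * τ⁻¹)) v) : s ^ (r - 1) ≤ Nat.card E :=
  haveI := Fact.mk hE.prime
  haveI := (Subgroup.nontrivial_iff_ne_bot E).2 hE1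
  let i : CommGroup E := { mul_comm := fun a b => Subtype.ext (hE.comm a a.2 b b.2) }
  @le_card_aut' s _ E i _
    (AddCommGroup.zmodModule (n := s) (G := Additive E)
      (fun w => Subtype.ext (hE.pow w.toMul w.toMul.2))) _ r hr
    (E.normalizerMonoidHom ⟨g, hg⟩) (by rw [← map_pow]; exact aut_eq_one hgs)
    (fun w hw => Subtype.ext (hf w w.2 ((aut_fix_iff _ _).1 hw)))
    fun i h1 h2 => by
      obtain ⟨τ, hτ, h3⟩ := hc i h1 h2
      refine ⟨E.normalizerMonoidHom ⟨τ, hτ⟩, ?_⟩
      have h4 : E.normalizerMonoidHom ((⟨g, hg⟩ ^ i)⁻¹ * (⟨τ, hτ⟩ * ⟨g, hg⟩ * ⟨τ, hτ⟩⁻¹)) = 1 :=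
        aut_eq_one h3
      rw [map_mul, map_inv, inv_mul_eq_one, map_mul, map_mul, map_inv, map_pow,
        eq_mul_inv_iff_mul_eq] at h4
      exact h4.symm

omit [Finite H] in
theorem El.not_fpf (hE : El s E) (hE1 : E ≠ ⊥) {r : ℕ} (hr : r.Prime) (hrs : r ≠ s) {a b : H}
    (ha : a ∈ Subgroup.normalizer (E : Set H)) (hb : b ∈ Subgroup.normalizer (E : Set H))
    (hab : ∀ v ∈ E, Commute ((b * a)⁻¹ * (a * b)) v) (har : ∀ v ∈ E, Commute (a ^ r) v)
    (hbr : ∀ v ∈ E, Commute (b ^ r) v) (h1 : ∀ j : ℕ, ∀ v ∈ E, Commute (a * b ^ j) v → v = 1)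
    (h2 : ∀ k, 0 < k → k < r → ∀ v ∈ E, Commute (b ^ k) v → v = 1) : False :=
  haveI := Fact.mk hE.prime
  haveI := (Subgroup.nontrivial_iff_ne_bot E).2 hE1
  let i : CommGroup E := { mul_comm := fun a b => Subtype.ext (hE.comm a a.2 b b.2) }
  @not_fpf_aut' s _ E i
    (AddCommGroup.zmodModule (n := s) (G := Additive E)
      (fun w => Subtype.ext (hE.pow w.toMul w.toMul.2))) _ r hr hrs
    (E.normalizerMonoidHom ⟨a, ha⟩) (E.normalizerMonoidHom ⟨b, hb⟩)
    (by
      have h4 : E.normalizerMonoidHom ((⟨b, hb⟩ * ⟨a, ha⟩)⁻¹ * (⟨a, ha⟩ * ⟨b, hb⟩)) = 1 :=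
        aut_eq_one hab
      rw [map_mul, map_inv, inv_mul_eq_one, map_mul, map_mul] at h4
      exact h4.symm)
    (by rw [← map_pow]; exact aut_eq_one har) (by rw [← map_pow]; exact aut_eq_one hbr)
    (fun j w hw => by
      rw [← map_pow, ← map_mul] at hw
      exact Subtype.ext (h1 j w w.2 ((aut_fix_iff _ _).1 hw)))
    (fun k hk hk' w hw => by
      rw [← map_pow] at hw
      exact Subtype.ext (h2 k hk hk' w w.2 ((aut_fix_iff _ _).1 hw)))

/-- a fixed-point-free automorphism of prime order `r` forces `|E| ≡ 1 (mod r)`. -/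
theorem lt_card_of_fpf (hE1 : E ≠ ⊥) {r : ℕ} (hr : r.Prime) {g : H}
    (hg : g ∈ Subgroup.normalizer (E : Set H)) (hgs : ∀ v ∈ E, Commute (g ^ r) v)
    (hf : ∀ v ∈ E, Commute g v → v = 1) : r < Nat.card E := by
  classical
  have := Fact.mk hr
  have := Fintype.ofFinite E
  have h0 : E.normalizerMonoidHom ⟨g, hg⟩ ^ r = 1 := by rw [← map_pow]; exact aut_eq_one hgs
  let f : Function.End E := fun v => E.normalizerMonoidHom ⟨g, hg⟩ v
  have h1 := Equiv.Perm.card_fixedPoints_modEq (p := r) (n := 1) (f := f) (by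
      rw [pow_one]
      have : ∀ n : ℕ, f ^ n = fun v => (E.normalizerMonoidHom ⟨g, hg⟩ ^ n) v := by
        intro n
        induction n with
        | zero => rfl
        | succ n ih => rw [pow_succ, pow_succ, ih]; rfl
      rw [this, h0]; rfl)
  have h2 : Fintype.card (Function.fixedPoints f) = 1 := by
    rw [Fintype.card_eq_one_iff]
    refine ⟨⟨1, map_one (E.normalizerMonoidHom ⟨g, hg⟩)⟩, fun w => Subtype.ext ?_⟩
    exact Subtype.ext (hf w.1 w.1.2 ((aut_fix_iff _ _).1 w.2))
  rw [h2, ← Nat.card_eq_fintype_card] at h1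
  have h3 := (Subgroup.one_lt_card_iff_ne_bot E).2 hE1
  have h4 := Nat.le_of_dvd (by omega) ((Nat.modEq_iff_dvd' h3.le).1 h1.symm)
  omega

end grp

end Cfsg.Agent.H61.TR
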