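import Mathlib
import Cfsg.Agent.H61.TwoReg1
import Cfsg.Agent.H61.CS1
import Cfsg.Agent.H5.EssSmall

/-! Groups whose noncentral `p`-regular classes have sizes with a common `p'`-part: local
analysis. -/

set_option autoImplicit false

open Cfsg Cfsg.Agent.H92 Subgroup
open scoped commutatorElement

namespace Cfsg.Agent.H61.TR

variable {G : Type*} [Group G]

/-- `r`-elements -/
abbrev PE (r : ℕ) (y : G) : Prop := ∃ k, orderOf y = r ^ k

/-- noncentral `p`-regular elements -/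
def Rg (p : ℕ) (x : G) : Prop := ¬ p ∣ orderOf x ∧ x ∉ center G

/-- The hypothesis shown to be contradictory. -/
structure HP (p μ : ℕ) (G : Type*) [Group G] : Prop where
  pp : p.Prime
  ne : μ ≠ 1
  nd : ¬ p ∣ μ
  cs_eq : ∀ x : G, Rg p x → ∃ i, cs[x] = p ^ i * μ
  cen : ∀ x y c : G, Rg p x → ¬ p ∣ orderOf y → Commute x y → Commute x c → Commute y c
  two : ∀ r : ℕ, r.Prime → ∃ s : ℕ, s.Prime ∧ s ≠ p ∧ s ≠ r ∧ s ∣ (center G).index

/-- the `r`-elements of the centre of the centraliser -/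
def B (r : ℕ) (x : G) : Subgroup G where
  carrier := {y | (∀ c, Commute x c → Commute y c) ∧ ∃ k, y ^ r ^ k = 1}
  one_mem' := ⟨fun c _ => Commute.one_left c, 0, by simp⟩
  mul_mem' := by
    rintro a b ⟨ha, k, hk⟩ ⟨hb, l, hl⟩
    refine ⟨fun c hc => (ha c hc).mul_left (hb c hc), k + l, ?_⟩
    rw [(ha b (hb x (Commute.refl x)).symm).mul_pow, pow_add, pow_mul, hk, one_pow, one_mul,
      mul_comm, pow_mul, hl, one_pow]
  inv_mem' := by
    rintro a ⟨ha, k, hk⟩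
    exact ⟨fun c hc => (ha c hc).inv_left, k, by rw [inv_pow, hk, inv_one]⟩

/-- the normaliser of the centraliser -/
abbrev M (x : G) : Subgroup G := normalizer ((Ce[x] : Subgroup G) : Set G)

theorem B_isPGroup (r : ℕ) (x : G) : IsPGroup r (B r x) := fun y => by
  obtain ⟨k, hk⟩ := y.2.2
  exact ⟨k, Subtype.ext (by simpa using hk)⟩

theorem B_comm {r : ℕ} {x y c : G} (hy : y ∈ B r x) (hc : c ∈ Ce[x]) : Commute y c :=
  hy.1 c (mem_C'.1 hc)

theorem B_le_C {r : ℕ} {x : G} : B r x ≤ Ce[x] := fun _ hy => mem_C.2 (B_comm hy (self_mem_C x))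

theorem B_eq {r : ℕ} {x y : G} (h : Ce[x] = Ce[y]) : B r x = B r y := by
  have : ∀ c, Commute x c ↔ Commute y c := fun c => by rw [← mem_C', ← mem_C', h]
  ext a
  change _ ∧ _ ↔ _ ∧ _
  simp only [this]

theorem M_eq {x y : G} (h : Ce[x] = Ce[y]) : M x = M y := by rw [M, M, h]

theorem pe_of_mem_B {r : ℕ} (hr : r.Prime) {x y : G} (hy : y ∈ B r x) : PE r y :=
  have := Fact.mk hr
  orderOf_eq_pow_of_mem (B_isPGroup r x) hy

theorem pow_eq_one_of_pe {r : ℕ} {y : G} (hy : PE r y) : ∃ k, y ^ r ^ k = 1 := by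
  obtain ⟨k, hk⟩ := hy
  exact ⟨k, hk ▸ pow_orderOf_eq_one y⟩

theorem mem_B_of_center {r : ℕ} {x y : G} (hy : y ∈ center G) (h : PE r y) : y ∈ B r x :=
  ⟨fun c _ => (mem_center_iff.1 hy c).symm, pow_eq_one_of_pe h⟩

theorem mem_M_of_conj {g x : G} (h : Ce[g * x * g⁻¹] = Ce[x]) : g ∈ M x := by
  rw [M, mem_normalizer_iff'']
  intro y
  rw [← mem_C_conj, h]

theorem mem_M_of_comm {g x : G} (h : ⁅g, x⁆ ∈ center G) : g ∈ M x := by
  refine mem_M_of_conj ?_
  rw [show g * x * g⁻¹ = ⁅g, x⁆ * x by simp [commutatorElement_def], C_mul_of_mem_center' h]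

theorem C_le_M (x : G) : Ce[x] ≤ M x := le_normalizer

theorem conj_mem_B {r : ℕ} {x g y : G} (hg : g ∈ M x) (hy : y ∈ B r x) : g * y * g⁻¹ ∈ B r x := by
  refine ⟨fun c hc => ?_, ?_⟩
  · have h1 : g⁻¹ * c * g ∈ Ce[x] := (mem_normalizer_iff''.1 hg c).1 (mem_C'.2 hc)
    exact mem_C'.1 (mem_C_conj.2 (mem_C'.2 (B_comm hy h1)))
  · obtain ⟨k, hk⟩ := hy.2
    exact ⟨k, by rw [conj_pow, hk]; simp⟩

theorem M_le_N (r : ℕ) (x : G) : M x ≤ normalizer ((B r x : Subgroup G) : Set G) := by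
  intro g hg
  rw [mem_normalizer_iff]
  refine fun y => ⟨conj_mem_B hg, fun hy => ?_⟩
  have := conj_mem_B (inv_mem hg) hy
  simpa [mul_assoc] using this

theorem comm_mem_center_symm {a b : G} (h : ⁅a, b⁆ ∈ center G) : ⁅b, a⁆ ∈ center G := by
  rw [← commutatorElement_inv]; exact inv_mem h

theorem not_mem_center_of_not_mem_C {g x : G} (h : g ∉ Ce[x]) : g ∉ center G :=
  fun h' => h (center_le_C x h')

theorem conj_not_mem_center {g x : G} (h : x ∉ center G) : g * x * g⁻¹ ∉ center G := fun h' =>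
  h (by have := (inferInstance : (center G).Normal).conj_mem _ h' g⁻¹; simpa [mul_assoc] using this)

variable [Finite G]

theorem le_normalizer_of_relIndex_dvd {r : ℕ} (hr : r.Prime) {K R : Subgroup G}
    (hR : IsPGroup r R) (hK : K ≤ R) (h : K.relIndex R ∣ r) : R ≤ normalizer (K : Set G) := by
  have := Fact.mk hr
  rw [← normal_subgroupOf_iff_le_normalizer hK]
  rcases (Nat.dvd_prime hr).1 h with h | h
  · exact normal_of_index_eq_one h
  · refine normal_of_index_eq_minFac_card ?_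
    obtain ⟨n, hn⟩ := IsPGroup.iff_card.1 hR
    have h1 : r ∣ Nat.card R := h ▸ index_dvd_card _
    rcases n with _ | n
    · rw [hn, pow_zero] at h1
      exact absurd (Nat.dvd_one.1 h1) hr.ne_one
    · rw [hn, hr.pow_minFac (by omega)]; exact h

omit [Finite G] in
/-- a subgroup of prime index: elements are powers of an outside element modulo it -/
theorem exists_zpow_mul {r : ℕ} (hr : r.Prime) {K R : Subgroup G} (hK : K ≤ R)
    (hn : R ≤ normalizer (K : Set G)) (h : K.relIndex R ∣ r) {y : G} (hy : y ∈ R) (hyK : y ∉ K)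
    {a : G} (ha : a ∈ R) : ∃ k : ℤ, (y ^ k)⁻¹ * a ∈ K := by
  have h1 : zpowers y ⊔ K ≤ R := sup_le (zpowers_le.2 hy) hK
  have h2 := relIndex_mul_relIndex K (zpowers y ⊔ K) R le_sup_right h1
  have h3 : K.relIndex (zpowers y ⊔ K) ≠ 1 := fun e =>
    hyK (relIndex_eq_one.1 e (le_sup_left (a := zpowers y) (mem_zpowers y)))
  have h4 : (zpowers y ⊔ K).relIndex R = 1 := by
    have h5 : K.relIndex (zpowers y ⊔ K) = r :=
      ((Nat.dvd_prime hr).1 ((Dvd.intro _ h2).trans h)).resolve_left h3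
    rw [← h2, h5] at h
    exact Nat.dvd_one.1 (Nat.dvd_of_mul_dvd_mul_left hr.pos (by rwa [mul_one]))
  have h5 : a ∈ ((zpowers y ⊔ K : Subgroup G) : Set G) := relIndex_eq_one.1 h4 ha
  rw [coe_mul_of_left_le_normalizer_right _ _ ((zpowers_le.2 hy).trans hn)] at h5
  obtain ⟨_, ⟨k, rfl⟩, b, hb, rfl⟩ := h5
  exact ⟨k, by simpa using hb⟩

omit [Finite G] in
theorem pow_mem_of_relIndex_dvd {r : ℕ} {K R : Subgroup G} (hK : K ≤ R)
    (hn : R ≤ normalizer (K : Set G)) (h : K.relIndex R ∣ r) {y : G} (hy : y ∈ R) : y ^ r ∈ K := by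
  have := (normal_subgroupOf_iff_le_normalizer hK).2 hn
  obtain ⟨c, rfl⟩ := h
  have h1 := pow_index_mem (H := K.subgroupOf R) ⟨y, hy⟩
  rw [pow_mul]
  exact pow_mem h1 c

/-- the image of the exponent `s` part of `B s x` in the central quotient -/
def V (s : ℕ) (x : G) : Subgroup (G ⧸ center G) where
  carrier := {v | v ∈ (B s x).map (QuotientGroup.mk' (center G)) ∧ v ^ s = 1}
  one_mem' := ⟨one_mem _, one_pow _⟩
  mul_mem' := by
    rintro _ _ ⟨⟨a, ha, rfl⟩, h1⟩ ⟨⟨b, hb, rfl⟩, h2⟩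
    refine ⟨⟨a * b, mul_mem ha hb, map_mul _ _ _⟩, ?_⟩
    rw [((B_comm ha (B_le_C hb)).map _).mul_pow, h1, h2, one_mul]
  inv_mem' := by
    rintro a ⟨ha, h1⟩
    exact ⟨inv_mem ha, by rw [inv_pow, h1, inv_one]⟩

omit [Finite G] in
theorem mem_V {s : ℕ} {x : G} {v : G ⧸ center G} :
    v ∈ V s x ↔ ∃ a ∈ B s x, a ^ s ∈ center G ∧ (a : G ⧸ center G) = v := by
  constructor
  · rintro ⟨⟨a, ha, rfl⟩, h⟩
    exact ⟨a, ha, (QuotientGroup.eq_one_iff _).1 h, rfl⟩
  · rintro ⟨a, ha, h, rfl⟩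
    exact ⟨⟨a, ha, rfl⟩, (QuotientGroup.eq_one_iff (a ^ s)).2 h⟩

omit [Finite G] in
theorem V_el {s : ℕ} (hs : s.Prime) (x : G) : El s (V s x) where
  prime := hs
  comm := by
    rintro _ ⟨⟨a, ha, rfl⟩, -⟩ _ ⟨⟨b, hb, rfl⟩, -⟩
    exact (B_comm ha (B_le_C hb)).map _
  pow := fun _ h => h.2

omit [Finite G] in
theorem conj_mem_V {s : ℕ} {x g : G} (hg : g ∈ M x) {v : G ⧸ center G} (hv : v ∈ V s x) :
    (g : G ⧸ center G) * v * (g : G ⧸ center G)⁻¹ ∈ V s x := by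
  obtain ⟨⟨a, ha, rfl⟩, h⟩ := hv
  exact ⟨⟨g * a * g⁻¹, conj_mem_B hg ha, rfl⟩, by rw [conj_pow, h]; simp⟩

omit [Finite G] in
theorem mk_mem_N {s : ℕ} {x g : G} (hg : g ∈ M x) :
    (g : G ⧸ center G) ∈ normalizer ((V s x : Subgroup _) : Set (G ⧸ center G)) := by
  rw [mem_normalizer_iff]
  refine fun y => ⟨conj_mem_V hg, fun hy => ?_⟩
  have := conj_mem_V (inv_mem hg) hy
  simpa [mul_assoc] using this

omit [Finite G] in
theorem V_comm {s : ℕ} {x c : G} (hc : c ∈ Ce[x]) :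
    ∀ v ∈ V s x, Commute (c : G ⧸ center G) v := by
  rintro _ ⟨⟨a, ha, rfl⟩, -⟩
  exact (B_comm ha hc).symm.map (QuotientGroup.mk' (center G))

theorem V_ne_bot {s : ℕ} (hs : s.Prime) {x : G} (h : ¬ B s x ≤ center G) : V s x ≠ ⊥ := by
  have := Fact.mk hs
  obtain ⟨a, ha, h1, h2, -⟩ := H5.exists_central_mod' (B_isPGroup s x) le_rfl
    (A := center G) (by rw [normalizer_eq_top]; exact le_top) le_normalizer h
  intro e
  have : (a : G ⧸ center G) ∈ V s x := mem_V.2 ⟨a, ha, h2, rfl⟩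
  rw [e, mem_bot, QuotientGroup.eq_one_iff] at this
  exact h1 this

namespace HP
variable {p μ : ℕ} (h : HP p μ G)
include h

omit [Finite G] in
theorem C_eq {x y : G} (hx : Rg p x) (hy : Rg p y) (hxy : Commute x y) : Ce[x] = Ce[y] := by
  ext c
  rw [mem_C', mem_C']
  exact ⟨h.cen x y c hx hy.1 hxy, h.cen y x c hy hx.1 hxy.symm⟩

omit [Finite G] in
theorem rg {r : ℕ} (hr : r.Prime) (hrp : r ≠ p) {y : G} (hy : PE r y) (hz : y ∉ center G) :
    Rg p y := ⟨not_dvd_of_eq_pow h.pp hr hrp.symm hy, hz⟩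

omit [Finite G] in
theorem mem_B {r : ℕ} (hr : r.Prime) (hrp : r ≠ p) {x y : G} (hx : Rg p x) (hy : PE r y)
    (hxy : y ∈ Ce[x]) : y ∈ B r x :=
  ⟨fun c hc => h.cen x y c hx (not_dvd_of_eq_pow h.pp hr hrp.symm hy) (mem_C'.1 hxy) hc,
    pow_eq_one_of_pe hy⟩

omit [Finite G] in
theorem C_eq_B {r : ℕ} (hr : r.Prime) (hrp : r ≠ p) {x a : G} (hx : Rg p x) (ha : a ∈ B r x)
    (hz : a ∉ center G) : Ce[a] = Ce[x] :=
  h.C_eq (h.rg hr hrp (pe_of_mem_B hr ha) hz) hx (mem_C.1 (B_le_C ha))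

omit [Finite G] in
/-- an element of `B r x` commuting with an element outside `C(x)` is central -/
theorem mem_center {r : ℕ} (hr : r.Prime) (hrp : r ≠ p) {x a g : G} (hx : Rg p x)
    (ha : a ∈ B r x) (hg : g ∉ Ce[x]) (hc : Commute g a) : a ∈ center G := by
  by_contra hz
  exact hg (h.C_eq_B hr hrp hx ha hz ▸ mem_C.2 hc)

theorem not_dvd_relIndex {r : ℕ} (hr : r.Prime) (hrp : r ≠ p) {x : G} (hx : Rg p x) :
    ¬ r ∣ (B r x).relIndex Ce[x] := fun hd => by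
  obtain ⟨y, h1, h2, h3⟩ := exists_not_mem_of_dvd_relIndex hr hd
  exact h3 (h.mem_B hr hrp hx h2 h1)

theorem card_B_dvd {r : ℕ} (hr : r.Prime) (hrp : r ≠ p) {x y : G} (hx : Rg p x) (hy : Rg p y) :
    Nat.card (B r x) ∣ Nat.card (B r y) := by
  have := Fact.mk hr
  have key : ∀ z : G, Nat.card (B r z) * (B r z).relIndex Ce[z] * cs[z] = Nat.card G := fun z => by
    rw [mul_assoc, relIndex_mul_index B_le_C, mul_comm, index_mul_card]
  obtain ⟨i, hi⟩ := h.cs_eq x hx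
  obtain ⟨j, hj⟩ := h.cs_eq y hy
  have h1 := key x
  rw [← key y, hi, hj, ← mul_assoc, ← mul_assoc] at h1
  have hμ : 0 < μ := Nat.pos_of_ne_zero fun e => cs_ne_zero x (by rw [hi, e, mul_zero])
  have h2 := Nat.eq_of_mul_eq_mul_right hμ h1
  obtain ⟨n, hn⟩ := IsPGroup.iff_card.1 (B_isPGroup r x)
  have h3 : (Nat.card (B r x)).Coprime ((B r y).relIndex Ce[y] * p ^ j) := by
    rw [hn]
    exact Nat.Coprime.pow_left _ (Nat.Coprime.mul_right
      ((Nat.Prime.coprime_iff_not_dvd hr).2 (h.not_dvd_relIndex hr hrp hy))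
      (Nat.Coprime.pow_right _ ((Nat.coprime_primes hr h.pp).2 hrp)))
  refine h3.dvd_of_dvd_mul_right ?_
  rw [← mul_assoc, ← h2, mul_assoc]
  exact Dvd.intro _ rfl

theorem card_B_eq {r : ℕ} (hr : r.Prime) (hrp : r ≠ p) {x y : G} (hx : Rg p x) (hy : Rg p y) :
    Nat.card (B r x) = Nat.card (B r y) :=
  Nat.dvd_antisymm (h.card_B_dvd hr hrp hx hy) (h.card_B_dvd hr hrp hy hx)

theorem not_le_center {r : ℕ} (hr : r.Prime) (hrp : r ≠ p) (hd : r ∣ (center G).index) {x : G}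
    (hx : Rg p x) : ¬ B r x ≤ center G := fun hle => by
  obtain ⟨y, h1, h2⟩ := exists_not_mem_of_dvd_index hr hd
  have hy := h.rg hr hrp h1 h2
  have h3 : B r x ≤ B r y := fun a ha => mem_B_of_center (hle ha) (pe_of_mem_B hr ha)
  have h4 := eq_of_le_of_card_ge h3 (h.card_B_eq hr hrp hy hx).le
  exact h2 (hle (h4 ▸ h.mem_B hr hrp hy h1 (self_mem_C y)))

theorem relIndex_B_eq {r : ℕ} (hr : r.Prime) (hrp : r ≠ p) {x y : G} (hx : Rg p x)
    (hy : Rg p y) : (center G).relIndex (B r x) = (center G).relIndex (B r y) := by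
  have h1 : center G ⊓ B r x = center G ⊓ B r y :=
    le_antisymm (fun a ha => ⟨ha.1, mem_B_of_center ha.1 (pe_of_mem_B hr ha.2)⟩)
      (fun a ha => ⟨ha.1, mem_B_of_center ha.1 (pe_of_mem_B hr ha.2)⟩)
  have h2 := H3.card_inf_mul_relIndex (center G) (B r x)
  rw [h1, h.card_B_eq hr hrp hx hy, ← H3.card_inf_mul_relIndex (center G) (B r y)] at h2
  exact Nat.eq_of_mul_eq_mul_left Nat.card_pos h2

omit [Finite G] in
theorem V_fpf {s : ℕ} (hs : s.Prime) (hsp : s ≠ p) {x g : G} (hx : Rg p x) (hg : g ∉ Ce[x])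
    (hc : ¬ s ∣ orderOf g) : ∀ v ∈ V s x, Commute (g : G ⧸ center G) v → v = 1 := by
  intro v hv hgv
  obtain ⟨a, ha, -, rfl⟩ := mem_V.1 hv
  refine (QuotientGroup.eq_one_iff _).2 (h.mem_center hs hsp hx ha hg ?_)
  exact commute_of_coprime_of_commutator_mem_center (commutator_mem_center_iff.2 hgv)
    (coprime_of_pow_of_not_dvd hs (pe_of_mem_B hs ha) hc).symm

/-- the index of `B r x` in a Sylow subgroup, for a well chosen `x` -/
theorem relIndex_dvd_aux {r : ℕ} [hr : Fact r.Prime] (hrp : r ≠ p) (Q : Sylow r G)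
    (hQ : ¬ (Q : Subgroup G) ≤ center G) :
    ∃ x : G, Rg p x ∧ B r x ≤ Q ∧ (B r x).relIndex (Q : Subgroup G) ∣ r := by
  obtain ⟨x, hxQ, hxZ, hxr, hx⟩ := H5.exists_central_mod' Q.isPGroup' le_rfl
    (A := center G) (by rw [normalizer_eq_top]; exact le_top) le_normalizer hQ
  have hc : ∀ g ∈ (Q : Subgroup G), ⁅g, x⁆ ∈ center G := fun g hg => by
    have := (inferInstance : (center G).Normal).conj_mem _ (hx g hg) x
    simpa [commutatorElement_def, mul_assoc] using this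
  have hrg := h.rg hr.out hrp (orderOf_eq_pow_of_mem Q.isPGroup' hxQ) hxZ
  have hM : (Q : Subgroup G) ≤ M x := fun g hg => mem_M_of_comm (hc g hg)
  have hN := hM.trans (M_le_N r x)
  have hB : B r x ≤ Q := by
    have := Q.is_maximal' (Q.isPGroup'.to_sup_of_normal_right' (B_isPGroup r x) hN) le_sup_left
    exact le_sup_right.trans this.le
  have hiff : ∀ g ∈ (Q : Subgroup G), g ∈ Ce[x] → g ∈ B r x := fun g hg hgx =>
    h.mem_B hr.out hrp hrg (orderOf_eq_pow_of_mem Q.isPGroup' hg) hgx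
  have hpow : ∀ g ∈ (Q : Subgroup G), g ^ r ∈ Ce[x] := fun g hg => by
    rw [mem_C', ← commutatorElement_eq_one_iff_commute,
      commutatorElement_pow_right_of_central (comm_mem_center_symm (hc g hg)),
      ← commutatorElement_inv, inv_pow, ← commutatorElement_pow_right_of_central (hc g hg),
      inv_eq_one, commutatorElement_eq_one_iff_commute]
    exact mem_center_iff.1 hxr g
  refine ⟨x, hrg, hB, ?_⟩
  by_contra hnd
  have hne : ¬ (Q : Subgroup G) ≤ B r x := fun e => hnd (by rw [relIndex_eq_one.2 e]; exact one_dvd _)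
  obtain ⟨b, hbQ, hbB⟩ := SetLike.not_le_iff_exists.1 hne
  have hex : ∃ a ∈ (Q : Subgroup G), ∀ j : ℕ, a * b ^ j ∉ Ce[x] := by
    by_contra hall
    push Not at hall
    apply hnd
    have := (normal_subgroupOf_iff_le_normalizer hB).2 hN
    have h1 : zpowers (QuotientGroup.mk' ((B r x).subgroupOf Q) ⟨b, hbQ⟩) = ⊤ := by
      rw [eq_top_iff]
      rintro ⟨a⟩ -
      obtain ⟨j, hj⟩ := hall a a.2
      refine ⟨-(j : ℤ), ?_⟩
      have h2 : QuotientGroup.mk' ((B r x).subgroupOf Q) (a * ⟨b, hbQ⟩ ^ j) = 1 :=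
        (QuotientGroup.eq_one_iff _).2 (hiff _ (mul_mem a.2 (pow_mem hbQ j)) hj)
      rw [map_mul, map_pow, mul_eq_one_iff_eq_inv] at h2
      simp only [zpow_neg, zpow_natCast]
      exact h2.symm
    have h2 : (B r x).relIndex (Q : Subgroup G) = orderOf (QuotientGroup.mk' ((B r x).subgroupOf Q) ⟨b, hbQ⟩) := by
      rw [← Nat.card_zpowers, h1, card_top]; rfl
    rw [h2, orderOf_dvd_iff_pow_eq_one, ← map_pow]
    exact (QuotientGroup.eq_one_iff _).2 (hiff _ (pow_mem hbQ r) (hpow b hbQ))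
  obtain ⟨a, haQ, ha⟩ := hex
  obtain ⟨s, hs, hsp, hsr, hsd⟩ := h.two r hr.out
  have hns : ∀ g ∈ (Q : Subgroup G), ¬ s ∣ orderOf g := fun g hg =>
    not_dvd_of_eq_pow hs hr.out hsr (orderOf_eq_pow_of_mem Q.isPGroup' hg)
  refine (V_el hs x).not_fpf (V_ne_bot hs (h.not_le_center hs hsp hsd hrg)) hr.out hsr.symm
    (mk_mem_N (hM haQ)) (mk_mem_N (hM hbQ)) (V_comm (c := (b * a)⁻¹ * (a * b)) ?_)
    (V_comm (hpow a haQ)) (V_comm (hpow b hbQ))
    (fun j => h.V_fpf hs hsp hrg (ha j) (hns _ (mul_mem haQ (pow_mem hbQ j))))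
    (fun k hk hk' => h.V_fpf hs hsp hrg (g := b ^ k) (fun e => hbB (hiff b hbQ ?_))
      (hns _ (pow_mem hbQ k)))
  · have ea : a * x = ⁅a, x⁆ * x * a := by simp [commutatorElement_def]
    have eb : b * x = ⁅b, x⁆ * x * b := by simp [commutatorElement_def]
    have za := mem_center_iff.1 (hc a haQ)
    have zb := mem_center_iff.1 (hc b hbQ)
    have e1 : a * b * x = ⁅a, x⁆ * ⁅b, x⁆ * x * (a * b) := by
      rw [mul_assoc a, eb, ← mul_assoc, ← mul_assoc, zb a, mul_assoc _ a x, ea, ← mul_assoc,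
        ← mul_assoc, za ⁅b, x⁆, mul_assoc _ a b]
    have e2 : b * a * x = ⁅a, x⁆ * ⁅b, x⁆ * x * (b * a) := by
      rw [mul_assoc b, ea, ← mul_assoc, ← mul_assoc, za b, mul_assoc _ b x, eb, ← mul_assoc,
        ← mul_assoc, mul_assoc _ b a]
    rw [mem_C, commute_iff_eq, mul_assoc, e1, ← mul_inv_eq_iff_eq_mul.2 e2]
    group
  · obtain ⟨n, hn⟩ := orderOf_eq_pow_of_mem Q.isPGroup' hbQ
    refine zpowers_le.2 e (mem_zpowers_pow_iff.2 ?_)
    rw [hn]
    exact Nat.Coprime.pow_right _ (Nat.coprime_of_lt_prime hk.ne' hk' hr.out).symm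

theorem relIndex_dvd {r : ℕ} (hr : r.Prime) (hrp : r ≠ p) {x : G} (hx : Rg p x) {R : Subgroup G}
    (hR : IsPGroup r R) (hB : B r x ≤ R) : (B r x).relIndex R ∣ r := by
  have := Fact.mk hr
  obtain ⟨S, hS⟩ := hR.exists_le_sylow
  by_cases hSZ : (S : Subgroup G) ≤ center G
  · rw [relIndex_eq_one.2 fun a ha =>
      mem_B_of_center (hSZ (hS ha)) (orderOf_eq_pow_of_mem hR ha)]
    exact one_dvd _
  obtain ⟨y, hy, h1, h2⟩ := h.relIndex_dvd_aux hrp S hSZ
  refine (Dvd.intro _ (relIndex_mul_relIndex _ _ _ hB hS)).trans (dvd_of_eq ?_ |>.trans h2)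
  have h3 := H3.card_inf_mul_relIndex (B r x) S
  have h4 := H3.card_inf_mul_relIndex (B r y) S
  rw [inf_eq_left.2 (hB.trans hS), h.card_B_eq hr hrp hx hy] at h3
  rw [inf_eq_left.2 h1, ← h3] at h4
  exact (Nat.eq_of_mul_eq_mul_left Nat.card_pos h4).symm

theorem le_M {r : ℕ} (hr : r.Prime) (hrp : r ≠ p) {x : G} (hx : Rg p x) {R : Subgroup G}
    (hR : IsPGroup r R) (hB : B r x ≤ R) : R ≤ M x := by
  have := Fact.mk hr
  by_cases hd : r ∣ (center G).index
  · obtain ⟨a, ha, haZ⟩ := SetLike.not_le_iff_exists.1 (h.not_le_center hr hrp hd hx)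
    intro g hg
    have h1 := le_normalizer_of_relIndex_dvd hr hR hB (h.relIndex_dvd hr hrp hx hR hB) hg
    have h2 := h.C_eq_B hr hrp hx ha haZ
    rw [← M_eq h2]
    refine mem_M_of_conj ?_
    rw [h2, h.C_eq_B hr hrp hx ((mem_normalizer_iff.1 h1 a).1 ha) (conj_not_mem_center haZ)]
  · intro g hg
    refine C_le_M x (center_le_C x ?_)
    by_contra hz
    exact hd (dvd_index_of_not_mem hr _ (orderOf_eq_pow_of_mem hR hg) hz)

end HP

end Cfsg.Agent.H61.TR
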