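import Mathlib
import Cfsg.Agent.H61.TwoReg2
import Cfsg.Agent.H63.QuoCore
import Cfsg.Agent.H67.Conj
import Cfsg.Agent.H92.Kazarin
import Cfsg.Agent.H3.Frattini
import Cfsg.Agent.H2.SchurZassenhaus

/-! The hypothesis `HP` is contradictory. -/

set_option autoImplicit false

open Cfsg Cfsg.Agent.H92 Subgroup
open scoped commutatorElement

namespace Cfsg.Agent.H61.TR

universe u

variable {G : Type u} [Group G] [Finite G]

local notation "Q" => G ⧸ center G

theorem exists_cent_lift {p : ℕ} (hp : p.Prime) (N : Subgroup G) [N.Normal] (hN : IsPGroup p N)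
    {x g : G} (hx : ¬ p ∣ orderOf x) (h : Commute (x : G ⧸ N) g) :
    ∃ c, Commute x c ∧ (c : G ⧸ N) = g := by
  have := Fact.mk hp
  obtain ⟨d, hd, c, hc, rfl⟩ := H63.coprime_exists_mul_cent (A := zpowers x) (D := N)
    (by rw [normalizer_eq_top]; exact le_top)
    (by rw [Nat.card_zpowers]
        exact (coprime_of_pow_of_not_dvd hp (IsPGroup.iff_card.1 hN) hx).symm)
    (Or.inl inferInstance) (x := g) (by
      rintro _ ⟨k, rfl⟩
      rw [← QuotientGroup.eq_one_iff]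
      change QuotientGroup.mk' N _ = 1
      rw [map_commutatorElement, commutatorElement_eq_one_iff_commute, map_zpow]
      exact h.symm.zpow_right k)
  exact ⟨c, hc x (mem_zpowers x), by
    rw [QuotientGroup.mk_mul, (QuotientGroup.eq_one_iff d).2 hd, one_mul]⟩

theorem cs_quot {p : ℕ} (hp : p.Prime) (N : Subgroup G) [N.Normal] (hN : IsPGroup p N)
    {x : G} (hx : ¬ p ∣ orderOf x) : ∃ j, cs[x] = p ^ j * cs[(x : G ⧸ N)] := by
  have := Fact.mk hp
  have h1 : Ce[(x : G ⧸ N)] = (Ce[x]).map (QuotientGroup.mk' N) := by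
    refine le_antisymm ?_ (map_C_le (QuotientGroup.mk' N) x)
    rintro ⟨g⟩ hg
    obtain ⟨c, hc, e⟩ := exists_cent_lift hp N hN hx (mem_C'.1 hg)
    exact ⟨c, mem_C'.2 hc, e⟩
  have h2 : cs[(x : G ⧸ N)] = (N ⊔ Ce[x]).index := by
    rw [h1, index_map, QuotientGroup.ker_mk', QuotientGroup.range_mk', index_top, mul_one, sup_comm]
  obtain ⟨j, hj⟩ := eq_pow_of_dvd hp (relIndex_dvd_card (Ce[x]) N) (IsPGroup.iff_card.1 hN)
  refine ⟨j, ?_⟩
  rw [h2, ← hj, ← H67.relIndex_sup_of_le_normalizer' (H := N) (K := Ce[x])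
    (Or.inl (by rw [normalizer_eq_top]; exact le_top)), relIndex_mul_index le_sup_right]

/-- a normal `r`-subgroup of `G / Z(G)` comes from a normal `r`-subgroup of `G` -/
theorem exists_normal_lift {r : ℕ} (hr : r.Prime) (N : Subgroup Q) [N.Normal]
    (hN : IsPGroup r N) : ∃ R : Subgroup G, R.Normal ∧ IsPGroup r R ∧
      R ⊔ center G = N.comap (QuotientGroup.mk' _) := by
  have := Fact.mk hr
  let K := N.comap (QuotientGroup.mk' (center G))
  obtain ⟨P⟩ : Nonempty (Sylow r K) := inferInstance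
  let R : Subgroup G := (P : Subgroup K).map K.subtype
  have hRK : R ≤ K := map_subtype_le _
  have hR : IsPGroup r R := P.isPGroup'.map _
  have hi : ¬ r ∣ R.relIndex K := by
    rw [H67.relIndex_map_subtype]; exact P.not_dvd_index
  have hZK : center G ≤ K := fun z hz => by
    change QuotientGroup.mk' (center G) z ∈ N
    rw [QuotientGroup.mk'_apply, (QuotientGroup.eq_one_iff z).2 hz]; exact one_mem _
  have h1 : R ⊔ center G = K := by
    refine le_antisymm (sup_le hRK hZK) (relIndex_eq_one.1 ?_)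
    have h2 : (center G).relIndex K = Nat.card N := by
      have := relIndex_ker K (QuotientGroup.mk' (center G))
      rwa [QuotientGroup.ker_mk', map_comap_eq_self_of_surjective
        (QuotientGroup.mk'_surjective _)] at this
    have h3 := relIndex_dvd_of_le_left K (le_sup_right : center G ≤ R ⊔ center G)
    rw [h2] at h3
    exact (coprime_of_pow_of_not_dvd hr (eq_pow_of_dvd hr h3 (IsPGroup.iff_card.1 hN)) hi).eq_one_of_dvd
      (relIndex_dvd_of_le_left K le_sup_left)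
  refine ⟨R, ?_, hR, h1⟩
  have h2 := H3.frattini_argument hRK hR hi
  rw [← normalizer_eq_top_iff, eq_top_iff, ← h2, ← h1]
  exact sup_le le_rfl (sup_le le_normalizer (center_le_normalizer _))

namespace HP
variable {p μ : ℕ} (h : HP p μ G)
include h

omit [Finite G] in
theorem ne_of_dvd {r : ℕ} (hr : r ∣ μ) : r ≠ p := fun e => h.nd (e ▸ hr)

omit [Finite G] in
theorem dvd_cs {r : ℕ} (hr : r ∣ μ) {x : G} (hx : Rg p x) : r ∣ cs[x] := by
  obtain ⟨i, hi⟩ := h.cs_eq x hx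
  exact hi ▸ hr.mul_left _

omit [Finite G] in
theorem dvd_index {r : ℕ} (hr : r ∣ μ) {x : G} (hx : Rg p x) : r ∣ (center G).index :=
  (h.dvd_cs hr hx).trans (index_dvd_of_le (center_le_C x))

theorem exists_rg : ∃ x : G, Rg p x := by
  obtain ⟨s, hs, hsp, -, hsd⟩ := h.two p h.pp
  obtain ⟨y, h1, h2⟩ := exists_not_mem_of_dvd_index hs hsd
  exact ⟨y, h.rg hs hsp h1 h2⟩

theorem normal_le_center {r : ℕ} (hr : r.Prime) (hrp : r ≠ p) (R : Subgroup G) [hn : R.Normal]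
    (hR : IsPGroup r R) : R ≤ center G := by
  have := Fact.mk hr
  have key : ∀ y, Rg p y → R ≤ Ce[y] := fun y hy g hg => by
    obtain ⟨s, hs, hsp, hsr, hsd⟩ := h.two r hr
    obtain ⟨a, ha, haZ⟩ := SetLike.not_le_iff_exists.1 (h.not_le_center hs hsp hsd hy)
    have h1 : R ≤ M y := le_sup_left.trans
      (h.le_M hr hrp hy (hR.to_sup_of_normal_left (B_isPGroup r y)) le_sup_right)
    rw [← h.C_eq_B hs hsp hy ha haZ, mem_C, ← commutatorElement_eq_one_iff_commute,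
      ← orderOf_eq_one_iff]
    have h2 : ⁅g, a⁆ ∈ R := by
      simpa [commutatorElement_def, mul_assoc] using mul_mem hg (hn.conj_mem _ (inv_mem hg) a)
    have h3 : ⁅g, a⁆ ∈ B s y := mul_mem (conj_mem_B (h1 hg) ha) (inv_mem ha)
    exact (Nat.coprime_self _).1 (coprime_of_pow_of_pow hr hs hsr.symm
      (orderOf_eq_pow_of_mem hR h2) (pe_of_mem_B hs h3))
  intro x hx
  by_contra hz
  obtain ⟨t, ht, htd⟩ := Nat.exists_prime_and_dvd h.ne
  obtain ⟨w, h1, h2⟩ := exists_not_mem_of_dvd_index ht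
    (h.dvd_cs htd (h.rg hr hrp (orderOf_eq_pow_of_mem hR hx) hz))
  exact h2 (mem_C_comm.1 (key w (h.rg ht (h.ne_of_dvd htd) h1 (not_mem_center_of_not_mem_C h2)) hx))

theorem cs_mk (N : Subgroup G) [N.Normal] (hN : IsPGroup p N) {x : G} (hx : Rg p x) :
    ∃ i, cs[(x : G ⧸ N)] = p ^ i * μ := by
  obtain ⟨i, hi⟩ := h.cs_eq x hx
  obtain ⟨j, hj⟩ := cs_quot h.pp N hN hx.1
  have h1 : μ ∣ cs[(x : G ⧸ N)] :=
    (Nat.Coprime.pow_right j ((h.pp.coprime_iff_not_dvd).2 h.nd).symm).dvd_of_dvd_mul_left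
      (by rw [← hj, hi]; exact Dvd.intro_left _ rfl)
  obtain ⟨c, hc⟩ := h1
  have hμ : 0 < μ := Nat.pos_of_ne_zero fun e => h.nd (e ▸ dvd_zero p)
  rw [hi, hc, mul_comm μ, ← mul_assoc] at hj
  obtain ⟨k, hk⟩ := eq_pow_of_dvd_pow h.pp (Dvd.intro_left _ (Nat.eq_of_mul_eq_mul_right hμ hj).symm)
  exact ⟨k, by rw [hc, hk, mul_comm]⟩

theorem quot (N : Subgroup G) [N.Normal] (hN : IsPGroup p N) : HP p μ (G ⧸ N) := by
  have lift : ∀ x : G ⧸ N, Rg p x → ∃ y : G, (y : G ⧸ N) = x ∧ Rg p y := fun x hx => by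
    obtain ⟨y, rfl, hy⟩ := exists_pPrime_lift (QuotientGroup.mk'_surjective N) h.pp hx.1
    refine ⟨y, rfl, hy, fun hz => hx.2 ?_⟩
    rw [mem_center_iff]
    rintro ⟨g⟩
    exact congrArg (QuotientGroup.mk' N) (mem_center_iff.1 hz g)
  refine ⟨h.pp, h.ne, h.nd, fun x hx => ?_, fun x y c hx hy h1 h2 => ?_, fun r hr => ?_⟩
  · obtain ⟨y, rfl, hy⟩ := lift x hx
    exact h.cs_mk N hN hy
  · obtain ⟨x, rfl, hx'⟩ := lift x hx
    obtain ⟨y, rfl⟩ := QuotientGroup.mk_surjective y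
    obtain ⟨c, rfl⟩ := QuotientGroup.mk_surjective c
    obtain ⟨c', h3, e3⟩ := exists_cent_lift h.pp N hN hx'.1 h2
    obtain ⟨y', h4, e4⟩ := exists_cent_lift h.pp N hN hx'.1 h1
    obtain ⟨a, b, ha, hb, e5, hap, hbp⟩ := exists_p_parts h.pp y'
    have h5 : (a : G ⧸ N) = 1 := by
      rw [← orderOf_eq_one_iff]
      refine (coprime_of_pow_of_not_dvd h.pp (eq_pow_of_dvd h.pp
        (orderOf_map_dvd (QuotientGroup.mk' N) a) hap) hy).eq_one_of_dvd ?_
      obtain ⟨k, rfl⟩ := ha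
      rw [← e4]
      exact orderOf_dvd_of_mem_zpowers ⟨k, (map_zpow (QuotientGroup.mk' N) y' k).symm⟩
    have h6 : Commute x b := by
      obtain ⟨k, rfl⟩ := hb
      exact h4.zpow_right k
    have h7 := (h.cen x b c' hx' hbp h6 h3).map (QuotientGroup.mk' N)
    rw [← e4, ← e3, e5, QuotientGroup.mk_mul, h5, one_mul]
    exact h7
  · obtain ⟨s, hs, hsp, hsr, hsd⟩ := h.two r hr
    obtain ⟨y, h1, h2⟩ := exists_not_mem_of_dvd_index hs hsd
    refine ⟨s, hs, hsp, hsr, dvd_index_of_not_mem hs _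
      (eq_pow_of_dvd hs (orderOf_map_dvd (QuotientGroup.mk' N) y) h1) fun hz => ?_⟩
    obtain ⟨i, hi⟩ := h.cs_mk N hN (h.rg hs hsp h1 h2)
    have h3 : cs[(y : G ⧸ N)] = 1 := cs_eq_one_iff.2 hz
    rw [h3] at hi
    exact h.ne (Nat.eq_one_of_mul_eq_one_left hi.symm)

theorem isPGroup_sup {s : ℕ} (hs : s.Prime) {x g : G} (hg : PE s g) (hM : g ∈ M x) :
    IsPGroup s (zpowers g ⊔ B s x : Subgroup G) :=
  have := Fact.mk hs
  have := h
  ((isPGroup_zpowers_iff g).2 hg).to_sup_of_normal_right' (B_isPGroup s x)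
    (zpowers_le.2 (M_le_N s x hM))

theorem pow_center {s : ℕ} (hs : s.Prime) (hsp : s ≠ p) {x g : G} (hx : Rg p x) (hg : PE s g)
    (hM : g ∈ M x) (hC : g ∉ Ce[x]) : g ^ s ∈ center G :=
  h.mem_center hs hsp hx (pow_mem_of_relIndex_dvd le_sup_right
    (sup_le (zpowers_le.2 (M_le_N s x hM)) le_normalizer)
    (h.relIndex_dvd hs hsp hx (h.isPGroup_sup hs hg hM) le_sup_right)
    (le_sup_left (a := zpowers g) (mem_zpowers g))) hC (Commute.self_pow g s)

theorem exists_zpow {s : ℕ} (hs : s.Prime) (hsp : s ≠ p) {y w a : G} (hy : PE s y) (hw : PE s w)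
    (h1 : ⁅y, w⁆ ∈ center G) (h2 : w ∉ Ce[y]) (ha : a ∈ B s y) (h3 : ⁅a, w⁆ ∈ center G) :
    (a : Q) ∈ zpowers (y : Q) := by
  have := Fact.mk hs
  have h2' : y ∉ Ce[w] := fun e => h2 (mem_C_comm.1 e)
  have ry := h.rg hs hsp hy (not_mem_center_of_not_mem_C h2')
  have rw' := h.rg hs hsp hw (not_mem_center_of_not_mem_C h2)
  have hyB := h.mem_B hs hsp ry hy (self_mem_C y)
  have h4 : zpowers y ⊔ zpowers a ≤ normalizer ((B s w : Subgroup G) : Set G) :=
    (sup_le (zpowers_le.2 (mem_M_of_comm h1)) (zpowers_le.2 (mem_M_of_comm h3))).trans (M_le_N s w)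
  have h5 := ((B_isPGroup s y).to_le (sup_le (zpowers_le.2 hyB) (zpowers_le.2 ha))
    ).to_sup_of_normal_right' (B_isPGroup s w) h4
  obtain ⟨k, hk⟩ := exists_zpow_mul hs le_sup_right (sup_le h4 le_normalizer)
    (h.relIndex_dvd hs hsp rw' h5 le_sup_right)
    ((le_sup_left.trans le_sup_left : zpowers y ≤ _) (mem_zpowers y)) (fun e => h2' (B_le_C e))
    ((le_sup_right.trans le_sup_left : zpowers a ≤ _) (mem_zpowers a))
  have h6 := h.mem_center hs hsp ry (mul_mem (inv_mem (zpow_mem hyB k)) ha) h2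
    (mem_C'.1 (B_le_C hk))
  exact ⟨k, (map_zpow (QuotientGroup.mk' (center G)) y k).symm.trans (QuotientGroup.eq.2 h6)⟩

end HP

/-- the `s`-parts of the centralizers are large modulo the centre -/
def Big (p s : ℕ) (G : Type u) [Group G] : Prop :=
  ∀ y : G, Rg p y → ¬ (center G).relIndex (B s y) ∣ s

omit [Finite G] in
theorem relIndex_eq_card (K : Subgroup G) :
    (center G).relIndex K = Nat.card (K.map (QuotientGroup.mk' (center G))) := by
  have := relIndex_ker K (QuotientGroup.mk' (center G))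
  rwa [QuotientGroup.ker_mk'] at this

namespace HP
variable {p μ : ℕ} (h : HP p μ G)
include h

/-- transvections -/
theorem transv {s : ℕ} (hs : s.Prime) (hsp : s ≠ p) (hb : Big p s G) {y w : G} (hy : PE s y)
    (hw : PE s w) (h1 : ⁅y, w⁆ ∈ center G) (h2 : w ∉ Ce[y]) :
    IsConj (w : Q) ((y : Q) * w) := by
  have := Fact.mk hs
  have h2' : y ∉ Ce[w] := fun e => h2 (mem_C_comm.1 e)
  have ry := h.rg hs hsp hy (not_mem_center_of_not_mem_C h2')
  have rw' := h.rg hs hsp hw (not_mem_center_of_not_mem_C h2)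
  have hyB := h.mem_B hs hsp ry hy (self_mem_C y)
  have hwM := mem_M_of_comm (comm_mem_center_symm h1)
  have hys : (y : Q) ^ s = 1 :=
    (QuotientGroup.eq_one_iff (y ^ s)).2 (h.pow_center hs hsp rw' hy (mem_M_of_comm h1) h2')
  let X : Subgroup G := B s y ⊓ (Ce[(w : Q)]).comap (QuotientGroup.mk' _)
  have hX : ∀ a ∈ X, (a : Q) ∈ zpowers (y : Q) := fun a ha =>
    h.exists_zpow hs hsp hy hw h1 h2 ha.1 (commutator_mem_center_iff.2 (mem_C.1 ha.2))
  have hn : zpowers w ⊔ B s y ≤ normalizer (X : Set G) := by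
    have key : ∀ g : G, g ∈ M y → (g : Q) ∈ Ce[(w : Q)] → ∀ a ∈ X, g * a * g⁻¹ ∈ X :=
      fun g g1 g2 a ha => mem_inf.2 ⟨conj_mem_B g1 ha.1,
        mem_comap.2 (mul_mem (mul_mem g2 (mem_comap.1 ha.2)) (inv_mem g2))⟩
    refine sup_le (zpowers_le.2 ?_) fun g hg => centralizer_le_normalizer _ fun a ha =>
      B_comm ha.1 (B_le_C hg)
    rw [mem_normalizer_iff]
    refine fun a => ⟨key w hwM (self_mem_C _) a, fun ha => ?_⟩
    simpa [mul_assoc] using key w⁻¹ (inv_mem hwM) (inv_mem (self_mem_C (w : Q))) _ ha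
  have hne : ¬ B s y ≤ X := fun e => by
    refine hb y ry ?_
    rw [relIndex_eq_card]
    refine (card_dvd_of_le (K := zpowers (y : Q)) ?_).trans ?_
    · rintro _ ⟨a, ha, rfl⟩
      exact hX a (e ha)
    · rw [Nat.card_zpowers]; exact orderOf_dvd_of_pow_eq_one hys
  obtain ⟨b, hbB, hbX, -, h3⟩ := H5.exists_central_mod' (h.isPGroup_sup hs hw hwM) le_sup_right hn
    (sup_le (zpowers_le.2 (M_le_N s y hwM)) le_normalizer) hne
  obtain ⟨k, hk⟩ := hX _ (h3 w (le_sup_left (a := zpowers w) (mem_zpowers w)))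
  have h4 : (b : Q)⁻¹ * w * b = (y : Q) ^ k * w := by
    simp only at hk
    rw [hk]; simp [mul_assoc]
  have h5 : (y : Q) ^ k ≠ 1 := fun e => hbX ⟨hbB, mem_C.2 (by
    rw [e, one_mul, mul_assoc, inv_mul_eq_iff_eq_mul] at h4
    exact h4.symm)⟩
  have h6 : zpowers ((y : Q) ^ k) = zpowers (y : Q) := by
    refine eq_of_le_of_card_ge (zpowers_le.2 ⟨k, rfl⟩) ?_
    rw [Nat.card_zpowers, Nat.card_zpowers, orderOf_eq_prime (x := (y : Q) ^ k)
      (by rw [← zpow_natCast, ← zpow_mul, mul_comm, zpow_mul, zpow_natCast, hys, one_zpow]) h5]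
    exact Nat.le_of_dvd hs.pos (orderOf_dvd_of_pow_eq_one hys)
  obtain ⟨n, hn'⟩ := mem_powers_iff_mem_zpowers.2 (h6 ▸ mem_zpowers (y : Q))
  have h7 : Commute (b : Q) ((y : Q) ^ k) :=
    ((B_comm hbB (self_mem_C y)).map (QuotientGroup.mk' (center G))).zpow_right k
  have h8 : ∀ m : ℕ, ((b : Q) ^ m)⁻¹ * w * b ^ m = ((y : Q) ^ k) ^ m * w := by
    intro m
    induction m with
    | zero => simp
    | succ m ih =>
      calc ((b : Q) ^ (m + 1))⁻¹ * w * b ^ (m + 1)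
          = (b : Q)⁻¹ * (((b : Q) ^ m)⁻¹ * w * b ^ m) * b := by rw [pow_succ]; group
        _ = ((b : Q)⁻¹ * ((y : Q) ^ k) ^ m) * w * b := by rw [ih]; group
        _ = ((y : Q) ^ k) ^ m * ((b : Q)⁻¹ * w * b) := by
          rw [(h7.pow_right m).inv_left.eq]; group
        _ = _ := by rw [h4, pow_succ, mul_assoc]
  simp only at hn'
  exact isConj_iff.2 ⟨((b : Q) ^ n)⁻¹, by rw [inv_inv, h8, hn']⟩

theorem exists_v {s : ℕ} (hs : s.Prime) (hsp : s ≠ p) (hd : s ∣ (center G).index) {x g : G}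
    (hx : Rg p x) (hg : PE s g) (hM : g ∈ M x) :
    ∃ v ∈ B s x, v ∉ center G ∧ v ^ s ∈ center G ∧ ⁅g, v⁆ ∈ center G := by
  have := Fact.mk hs
  obtain ⟨v, h1, h2, h3, h4⟩ := H5.exists_central_mod' (h.isPGroup_sup hs hg hM) le_sup_right
    (A := center G) (by rw [normalizer_eq_top]; exact le_top)
    (sup_le (zpowers_le.2 (M_le_N s x hM)) le_normalizer) (h.not_le_center hs hsp hd hx)
  refine ⟨v, h1, h2, h3, ?_⟩
  have := (inferInstance : (center G).Normal).conj_mem _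
    (h4 g (le_sup_left (a := zpowers g) (mem_zpowers g))) v
  simpa [commutatorElement_def, mul_assoc] using this

theorem conj_pow {s : ℕ} (hs : s.Prime) (hsp : s ≠ p) (hd : s ∣ (center G).index)
    (hb : Big p s G) {x g : G} (hx : Rg p x) (hg : PE s g) (hM : g ∈ M x) (hC : g ∉ Ce[x])
    {i : ℕ} (hi : 0 < i) (hi' : i < s) : ∃ τ ∈ M x, (g ^ i)⁻¹ * (τ * g * τ⁻¹) ∈ Ce[x] := by
  have := Fact.mk hs
  obtain ⟨v, h1, h2, h3, h4⟩ := h.exists_v hs hsp hd hx hg hM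
  have hv := pe_of_mem_B hs h1
  have e := h.C_eq_B hs hsp hx h1 h2
  obtain ⟨c, -, hc⟩ := Nat.exists_mul_mod_eq_one_of_coprime
    (Nat.coprime_of_lt_prime hi.ne' hi' hs).symm hs.one_lt
  have hcs : ¬ s ∣ c := fun hd => by
    rw [Nat.mod_eq_zero_of_dvd (hd.mul_left i)] at hc
    exact zero_ne_one hc
  obtain ⟨c, rfl⟩ := Nat.exists_eq_succ_of_ne_zero (n := c) (fun e => hcs (e ▸ dvd_zero s))
  have hvc : v ^ (c + 1) ∉ center G := fun hz =>
    h2 (zpowers_le.2 hz (mem_zpowers_pow_iff.2 (coprime_of_pow_of_not_dvd hs hv hcs).symm))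
  have e' := h.C_eq_B hs hsp hx (pow_mem h1 (c + 1)) hvc
  have hP := h.isPGroup_sup hs hg hM
  have hgP : g ∈ zpowers g ⊔ B s x := le_sup_left (a := zpowers g) (mem_zpowers g)
  have hvP : v ∈ zpowers g ⊔ B s x := le_sup_right (a := zpowers g) h1
  have hgv : Commute (g : Q) v := commutator_mem_center_iff.1 h4
  have c1 := h.transv hs hsp hb hg hv h4 (fun e1 => hC (e ▸ mem_C_comm.1 e1))
  have c2 := h.transv hs hsp hb (y := v ^ c * g⁻¹) (w := g * v)
    (orderOf_eq_pow_of_mem hP (mul_mem (pow_mem hvP c) (inv_mem hgP)))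
    (orderOf_eq_pow_of_mem hP (mul_mem hgP hvP))
    (commutator_mem_center_iff.2 (((hgv.symm.mul_right (Commute.refl _)).pow_left c).mul_left
      ((Commute.refl _).mul_right hgv).inv_left))
    (fun e1 => by
      have h5 : Commute (g * v) (v ^ c * g⁻¹ * (g * v)) := (mem_C.1 e1).mul_right (Commute.refl _)
      rw [show v ^ c * g⁻¹ * (g * v) = v ^ (c + 1) by group] at h5
      have h6 : g * v ∈ Ce[x] := e' ▸ mem_C.2 h5
      exact hC (by simpa using mul_mem h6 (inv_mem (B_le_C h1))))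
  obtain ⟨τ, hτ⟩ := isConj_iff.1 (c1.trans c2)
  obtain ⟨τ, rfl⟩ := QuotientGroup.mk_surjective τ
  have h5 : (v ^ (c + 1))⁻¹ * (τ * v * τ⁻¹) ∈ center G := by
    refine QuotientGroup.eq.1 ?_
    rw [show v ^ (c + 1) = v ^ c * g⁻¹ * (g * v) by group]
    exact hτ.symm
  set z := (v ^ (c + 1))⁻¹ * (τ * v * τ⁻¹) with hz
  have h6 : τ * v * τ⁻¹ = v ^ (c + 1) * z := by rw [hz]; group
  refine ⟨τ, M_eq e ▸ mem_M_of_conj (by rw [h6, C_mul_of_mem_center h5, e', e]), ?_⟩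
  have h7 : ⁅g, v⁆ ^ s = 1 := by
    rw [← commutatorElement_pow_right_of_central h4, commutatorElement_eq_one_iff_mul_comm]
    exact mem_center_iff.1 h3 g
  have h8 : ⁅g, v ^ (c + 1)⁆ = ⁅g, v⁆ ^ (c + 1) := commutatorElement_pow_right_of_central h4 _
  have h9 : ⁅g ^ i, v ^ (c + 1)⁆ = ⁅g, v⁆ := by
    rw [← commutatorElement_inv, commutatorElement_pow_right_of_central
      (comm_mem_center_symm (h8 ▸ pow_mem h4 _)), ← inv_pow, commutatorElement_inv, h8, ← pow_mul,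
      mul_comm, ← Nat.div_add_mod (i * (c + 1)) s, pow_add, pow_mul, h7, one_pow, one_mul]
    rw [Nat.succ_eq_add_one] at hc
    rw [hc, pow_one]
  have h10 : ⁅τ * g * τ⁻¹, v ^ (c + 1)⁆ = ⁅g, v⁆ := by
    have h11 : ⁅τ * g * τ⁻¹, τ * v * τ⁻¹⁆ = τ * ⁅g, v⁆ * τ⁻¹ := by
      simp only [commutatorElement_def]; group
    rw [mem_center_iff.1 h4 τ, mul_inv_cancel_right, h6] at h11
    rw [← h11]
    have h12 := mem_center_iff.1 h5 (τ * g * τ⁻¹)⁻¹
    simp only [commutatorElement_def]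
    rw [mul_assoc _ (v ^ (c + 1) * z), mul_assoc _ z, ← h12]
    group
  rw [← e', mem_C, commute_iff_eq]
  rw [← h10] at h9
  simp only [commutatorElement_def, mul_left_inj] at h9
  calc (g ^ i)⁻¹ * (τ * g * τ⁻¹) * v ^ (c + 1)
      = (g ^ i)⁻¹ * (τ * g * τ⁻¹ * v ^ (c + 1) * (τ * g * τ⁻¹)⁻¹) * (τ * g * τ⁻¹) := by group
    _ = _ := by rw [← h9]; group

theorem exists_out {r : ℕ} (hr : r.Prime) (hd : r ∣ μ) {x : G} (hx : Rg p x) :
    ∃ g, PE r g ∧ g ∈ M x ∧ g ∉ Ce[x] := by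
  have := Fact.mk hr
  obtain ⟨S, hS⟩ := (B_isPGroup r x).exists_le_sylow
  obtain ⟨g, h1, h2⟩ := SetLike.not_le_iff_exists.1
    fun e => not_dvd_index_of_sylow_le S e (h.dvd_cs hd hx)
  exact ⟨g, orderOf_eq_pow_of_mem S.isPGroup' h1,
    h.le_M hr (h.ne_of_dvd hd) hx S.isPGroup' hS h1, h2⟩

theorem V_ne {q : ℕ} (hq : q.Prime) (hd : q ∣ μ) {x : G} (hx : Rg p x) : V q x ≠ ⊥ :=
  V_ne_bot hq (h.not_le_center hq (h.ne_of_dvd hd) (h.dvd_index hd hx) hx)

theorem lt_V {q s : ℕ} (hq : q.Prime) (hs : s.Prime) (hqs : q ≠ s) (h1 : q ∣ μ) (h2 : s ∣ μ)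
    {x : G} (hx : Rg p x) : s < Nat.card (V q x) := by
  obtain ⟨g, g1, g2, g3⟩ := h.exists_out hs h2 hx
  exact lt_card_of_fpf (h.V_ne hq h1 hx) hs (mk_mem_N g2)
    (V_comm (c := g ^ s) (center_le_C x (h.pow_center hs (h.ne_of_dvd h2) hx g1 g2 g3)))
    (h.V_fpf hq (h.ne_of_dvd h1) hx g3 (not_dvd_of_eq_pow hq hs hqs g1))

theorem big_of {r : ℕ} (hr : r.Prime) (hrp : r ≠ p) {x : G} (hx : Rg p x)
    (h1 : r < Nat.card (V r x)) : Big p r G := fun y hy hd => by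
  rw [h.relIndex_B_eq hr hrp hy hx, relIndex_eq_card] at hd
  have := Nat.le_of_dvd hr.pos ((card_dvd_of_le (H := V r x) fun v hv => hv.1).trans hd)
  omega

theorem le_V {q s : ℕ} (hq : q.Prime) (hs : s.Prime) (hqs : q ≠ s) (h1 : q ∣ μ) (h2 : s ∣ μ)
    (hb : Big p s G) {x : G} (hx : Rg p x) : q ^ (s - 1) ≤ Nat.card (V q x) := by
  obtain ⟨g, g1, g2, g3⟩ := h.exists_out hs h2 hx
  refine (V_el hq x).le_card (h.V_ne hq h1 hx) hs (mk_mem_N g2)
    (V_comm (c := g ^ s) (center_le_C x (h.pow_center hs (h.ne_of_dvd h2) hx g1 g2 g3)))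
    (h.V_fpf hq (h.ne_of_dvd h1) hx g3 (not_dvd_of_eq_pow hq hs hqs g1)) fun i hi hi' => ?_
  obtain ⟨τ, t1, t2⟩ := h.conj_pow hs (h.ne_of_dvd h2) (h.dvd_index h2 hx) hb hx g1 g2 g3 hi hi'
  exact ⟨τ, mk_mem_N t1, V_comm t2⟩

theorem V_le {q : ℕ} (hq : q.Prime) (hd : q ∣ μ) {x : G} (hx : Rg p x) :
    Nat.card (V q x) ≤ q ^ q ∧ (q = 2 → Nat.card (V q x) ≤ 2) := by
  have := Fact.mk hq
  have hqp := h.ne_of_dvd hd
  obtain ⟨g, g1, g2, g3⟩ := h.exists_out hq hd hx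
  obtain ⟨v, h1, h2, h3, h4⟩ := h.exists_v hq hqp (h.dvd_index hd hx) hx g1 g2
  have e := h.C_eq_B hq hqp hx h1 h2
  have h5 := h.pow_center hq hqp hx g1 g2 g3
  have key : ∀ a ∈ V q x, Commute (g : Q) a → a ∈ zpowers (v : Q) := fun a ha hc => by
    obtain ⟨a, a1, -, rfl⟩ := mem_V.1 ha
    exact h.exists_zpow hq hqp (pe_of_mem_B hq h1) g1 (comm_mem_center_symm h4) (e ▸ g3)
      (B_eq e ▸ a1) (commutator_mem_center_iff.2 hc.symm)
  refine ⟨(V_el hq x).card_le (mk_mem_N g2) (V_comm (c := g ^ q) (center_le_C x h5))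
    (mem_V.2 ⟨v, h1, h3, rfl⟩) key, fun e2 => ?_⟩
  subst e2
  refine (card_le_of_le (K := zpowers (v : Q)) fun a ha => key a ha ?_).trans ?_
  · obtain ⟨a, a1, a2, rfl⟩ := mem_V.1 ha
    have h6 := h.pow_center hq hqp hx (g := g * a) (orderOf_eq_pow_of_mem (h.isPGroup_sup hq g1 g2)
      (mul_mem (le_sup_left (a := zpowers g) (mem_zpowers g)) (le_sup_right (a := zpowers g) a1)))
      (mul_mem g2 (C_le_M x (B_le_C a1)))
      (fun e3 => g3 (by simpa using mul_mem e3 (inv_mem (B_le_C a1))))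
    have e1 : (g : Q) ^ 2 = 1 := (QuotientGroup.eq_one_iff (g ^ 2)).2 h5
    have e2 : (a : Q) ^ 2 = 1 := (QuotientGroup.eq_one_iff (a ^ 2)).2 a2
    have e3 : ((g : Q) * a) ^ 2 = 1 := (QuotientGroup.eq_one_iff ((g * a) ^ 2)).2 h6
    rw [sq] at e1 e2 e3
    rw [commute_iff_eq, ← inv_eq_of_mul_eq_one_right e3, mul_inv_rev,
      inv_eq_of_mul_eq_one_right e1, inv_eq_of_mul_eq_one_right e2]
  · rw [Nat.card_zpowers]
    exact Nat.le_of_dvd two_pos (orderOf_dvd_of_pow_eq_one ((QuotientGroup.eq_one_iff (v ^ 2)).2 h3))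

theorem not_two {q s : ℕ} (hq : q.Prime) (hs : s.Prime) (hqs : q < s) (h1 : q ∣ μ) (h2 : s ∣ μ) :
    False := by
  obtain ⟨x, hx⟩ := h.exists_rg
  have a1 := h.lt_V hq hs hqs.ne h1 h2 hx
  obtain ⟨a2, a3⟩ := h.V_le hq h1 hx
  have hq2 : q ≠ 2 := fun e => by have := a3 e; omega
  have hq3 : 3 ≤ q := by have := hq.two_le; omega
  have a4 := h.le_V hs hq hqs.ne' h2 h1 (h.big_of hq (h.ne_of_dvd h1) hx (by omega)) hx
  have a5 : s < s ^ (q - 1) := lt_self_pow₀ hs.one_lt (by omega)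
  have a6 := h.le_V hq hs hqs.ne h1 h2 (h.big_of hs (h.ne_of_dvd h2) hx (by omega)) hx
  have a7 := (Nat.pow_le_pow_iff_right hq.one_lt).1 (a6.trans a2)
  have a8 := hq.eq_two_or_odd.resolve_left hq2
  have a9 := hs.eq_two_or_odd.resolve_left (by omega)
  omega

theorem exists_normal : ∃ N : Subgroup G, N.Normal ∧ N ≠ ⊥ ∧ IsPGroup p N := by
  obtain ⟨q, hq, hd⟩ := Nat.exists_prime_and_dvd h.ne
  have := Fact.mk hq
  have hqp := h.ne_of_dvd hd
  obtain ⟨y, hy⟩ := h.exists_rg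
  obtain ⟨S⟩ : Nonempty (Sylow q G) := inferInstance
  obtain ⟨x, hxQ, hxZ, -, hx⟩ := H5.exists_central_mod' S.isPGroup' le_rfl
    (A := center G) (by rw [normalizer_eq_top]; exact le_top) le_normalizer
    fun e => not_dvd_index_of_sylow_le S e (h.dvd_index hd hy)
  have hrg := h.rg hq hqp (orderOf_eq_pow_of_mem S.isPGroup' hxQ) hxZ
  have h1 : ¬ q ∣ cs[(x : Q)] := by
    refine not_dvd_index_of_sylow_le (S.mapSurjective (QuotientGroup.mk'_surjective _)) ?_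
    rintro _ ⟨g, hg, rfl⟩
    refine mem_C.2 (commutator_mem_center_iff.1 ?_)
    have := (inferInstance : (center G).Normal).conj_mem _ (hx g hg) x
    simpa [commutatorElement_def, mul_assoc] using this
  have h2 : ∃ k, cs[(x : Q)] = p ^ k := by
    refine (eq_pow_iff_forall h.pp (cs_ne_zero _)).2 fun t ht htd => ?_
    obtain ⟨i, hi⟩ := h.cs_eq x hrg
    rcases (Nat.Prime.dvd_mul ht).1 (hi ▸ htd.trans (cs_mk_dvd _ x)) with e | e
    · exact (Nat.prime_dvd_prime_iff_eq ht h.pp).1 (ht.dvd_of_dvd_pow e)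
    · rcases lt_trichotomy t q with e1 | e1 | e1
      · exact (h.not_two ht hq e1 e hd).elim
      · exact absurd (e1 ▸ htd) h1
      · exact (h.not_two hq ht e1 hd e).elim
  obtain ⟨N, hN, hN1, -, -, r, hr, hNr⟩ := H2.exists_abelian_pgroup_normal_le
    (normalClosure ({(x : Q)} : Set Q)) (fun e => hxZ ((QuotientGroup.eq_one_iff x).1
      (mem_bot.1 (e ▸ subset_normalClosure (Set.mem_singleton _))))) (kazarin h.pp _ _ h2)
  obtain ⟨R, hR, hRr, e⟩ := exists_normal_lift hr N hNr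
  have h3 : ¬ R ≤ center G := fun e1 => hN1 (by
    rw [sup_eq_right.2 e1] at e
    rw [eq_bot_iff]
    rintro ⟨a⟩ ha
    exact (QuotientGroup.eq_one_iff a).2 (e.ge ha))
  by_cases e1 : r = p
  · exact ⟨R, hR, fun e2 => h3 (e2 ▸ bot_le), e1 ▸ hRr⟩
  · exact absurd (h.normal_le_center hr e1 R hRr) h3

end HP

theorem not_HP {p μ : ℕ} (G : Type u) [Group G] [Finite G] : ¬ HP p μ G := by
  suffices H : ∀ n, ∀ (G : Type u) [Group G] [Finite G], Nat.card G = n → ¬ HP p μ G from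
    H _ G rfl
  intro n
  induction n using Nat.strong_induction_on with
  | _ n ih =>
    intro G _ _ hn h
    obtain ⟨N, hN, h1, h2⟩ := h.exists_normal
    refine ih _ ?_ (G ⧸ N) rfl (h.quot N h2)
    rw [← hn, card_eq_card_quotient_mul_card_subgroup N]
    exact lt_mul_of_one_lt_right Nat.card_pos ((one_lt_card_iff_ne_bot N).2 h1)

end Cfsg.Agent.H61.TR
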