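import Mathlib
import Cfsg.Agent.H61.TwoReg3
import Cfsg.Agent.S4034
import Cfsg.Agent.H15.CS1
import Cfsg.Agent.H1.TwoPrimes

/-! Groups whose noncentral `p`-regular classes all have the same size. -/

set_option autoImplicit false

open Cfsg Cfsg.Agent.H92 Cfsg.Agent.H61.CS Subgroup

namespace Cfsg.Agent.H61.TR

variable {G : Type*} [Group G] [Finite G]

theorem Rg.part {p : ℕ} {x y : G} (hx : ¬ p ∣ orderOf x) (hy : y ∈ zpowers x)
    (hz : y ∉ center G) : Rg p y :=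
  ⟨fun h => hx (h.trans (orderOf_dvd_of_mem_zpowers hy)), hz⟩

theorem not_dvd_orderOf_mul {p : ℕ} (hp : p.Prime) {x y : G} (h : Commute x y)
    (hx : ¬ p ∣ orderOf x) (hy : ¬ p ∣ orderOf y) : ¬ p ∣ orderOf (x * y) := fun hd =>
  ((Nat.Prime.dvd_mul hp).1 (hd.trans h.orderOf_mul_dvd_mul_orderOf)).elim hx hy

theorem eq_one_of_min {p μ : ℕ} (hp : p.Prime) (nd : ¬ p ∣ μ)
    (cs_eq : ∀ x : G, Rg p x → ∃ i, cs[x] = p ^ i * μ)
    (min : ∀ x y : G, Rg p x → Rg p y → Ce[y] ≤ Ce[x] → Ce[x] ≤ Ce[y])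
    (two : ∀ r : ℕ, r.Prime → ∃ s : ℕ, s.Prime ∧ s ≠ p ∧ s ≠ r ∧ s ∣ (center G).index) :
    μ = 1 := by
  by_contra ne
  refine not_HP G ⟨hp, ne, nd, cs_eq, fun x y c hx hy hxy hc => ?_, two⟩
  have step : ∀ u v : G, Rg p u → ¬ p ∣ orderOf v → Commute u v →
      (orderOf u).Coprime (orderOf v) → Ce[u] ≤ Ce[v] := fun u v hu hv h1 h2 => by
    have h3 := C_mul_of_coprime h1 h2
    have h4 := min u (u * v) hu ⟨not_dvd_orderOf_mul hp h1 hu.1 hv,
      mul_not_mem_center h1 h2 hu.2⟩ (by rw [h3]; exact inf_le_left)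
    rw [h3] at h4
    exact h4.trans inf_le_right
  obtain ⟨w, hw1, t, ht, -, hw2, hw3⟩ := exists_primePow_not_mem hx.2
  have hw := Rg.part hx.1 hw1 hw3
  have hw4 : Ce[w] = Ce[x] :=
    le_antisymm (min w x hw hx (C_le_C_of_mem_zpowers hw1)) (C_le_C_of_mem_zpowers hw1)
  obtain ⟨r, hr, hrp, hrt, hrd⟩ := two t ht
  have hd : r ∣ cb x := by
    obtain ⟨u, hu1, hu2⟩ := exists_not_mem_of_dvd_index hr hrd
    obtain ⟨i, hi⟩ := cs_eq u ⟨not_dvd_of_eq_pow hp hr (Ne.symm hrp) hu1, hu2⟩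
    obtain ⟨j, hj⟩ := cs_eq x hx
    have h1 : r ∣ cb u := dvd_relIndex_of_not_mem hr _ _ hu1 (self_mem_C u) hu2
    have h2 := cb_mul_cs u
    rw [← cb_mul_cs x, hi, hj, ← mul_assoc, ← mul_assoc] at h2
    have h3 := Nat.eq_of_mul_eq_mul_right
      (Nat.pos_of_ne_zero fun e : μ = 0 => nd (e ▸ dvd_zero p)) h2
    have h4 : r ∣ cb x * p ^ j := h3 ▸ h1.mul_right _
    exact ((Nat.Prime.dvd_mul hr).1 h4).resolve_right fun h5 =>
      hrp ((Nat.prime_dvd_prime_iff_eq hr hp).1 (hr.dvd_of_dvd_pow h5))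
  obtain ⟨u, hu1, hu2, hu3⟩ := exists_not_mem_of_dvd_relIndex hr hd
  have hu : Rg p u := ⟨not_dvd_of_eq_pow hp hr (Ne.symm hrp) hu2, hu3⟩
  have hu5 : Ce[w] ≤ Ce[u] := step w u hw hu.1 (mem_C'.1 (hw4 ▸ hu1))
    (coprime_of_pow_of_pow ht hr (Ne.symm hrt) hw2 hu2)
  have hu4 : Ce[u] = Ce[x] := hw4 ▸ le_antisymm (min u w hu hw hu5) hu5
  refine mem_C.1 (mem_of_forall_primePow fun v hv t' ht' _ hv2 => ?_)
  have hv1 : v ∈ Ce[x] := (zpowers_le.2 (mem_C'.2 hxy)) hv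
  have hv3 : ¬ p ∣ orderOf v := fun h => hy (h.trans (orderOf_dvd_of_mem_zpowers hv))
  rw [mem_C_comm]
  by_cases h : t' = t
  · subst h
    exact step u v hu hv3 (mem_C'.1 (hu4 ▸ hv1)) (coprime_of_pow_of_pow hr ht' hrt hu2 hv2)
      (hu4 ▸ mem_C'.2 hc)
  · exact step w v hw hv3 (mem_C'.1 (hw4 ▸ hv1))
      (coprime_of_pow_of_pow ht ht' (Ne.symm h) hw2 hv2) (hw4 ▸ mem_C'.2 hc)

/-- one noncentral `p`-regular class size: it is a power of `p`, or `G / Z(G)` is a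
`{p, q}`-group. -/
theorem pow_or_two {p m : ℕ} (hp : p.Prime) (h : ∀ x : G, Rg p x → cs[x] = m) (hm : m ≠ 0) :
    (∃ k, m = p ^ k) ∨
      ∃ q : ℕ, q.Prime ∧ ∀ s : ℕ, s.Prime → s ∣ (center G).index → s = p ∨ s = q := by
  by_contra hc
  rw [not_or] at hc
  obtain ⟨k, μ, h1, h2⟩ := Nat.exists_eq_pow_mul_and_not_dvd hm p hp.ne_one
  refine hc.1 ⟨k, ?_⟩
  rw [h2, eq_one_of_min hp h1 (fun x hx => ⟨k, (h x hx).trans h2⟩)
    (fun x y hx hy hl => (eq_of_le_of_index_eq hl ((h y hy).trans (h x hx).symm)).ge)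
    fun r hr => ?_, mul_one]
  by_contra h3
  exact hc.2 ⟨r, hr, fun s hs hd => by
    by_contra h4
    rw [not_or] at h4
    exact h3 ⟨s, hs, h4.1, h4.2, hd⟩⟩

theorem isSolvable_of_index_center {p q : ℕ} (hp : p.Prime) (hq : q.Prime)
    (h : ∀ s : ℕ, s.Prime → s ∣ (center G).index → s = p ∨ s = q) : Group.IsSolvable G :=
  have : Group.IsSolvable (G ⧸ center G) := H1.isSolvable_of_two_primes hp hq h
  have : Group.IsSolvable (center G) := Group.isSolvable_of_comm fun a b =>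
    Subtype.ext (mem_center_iff.1 b.2 a)
  H1.isSolvable_of_normal_of_quotient (center G)

theorem exists_compl {p m : ℕ} (hp : p.Prime) (h : ∀ x : G, Rg p x → cs[x] = m)
    (hm : ∃ k, m = p ^ k) :
    ∃ H : Subgroup G, IsMulCommutative H ∧ ¬ p ∣ Nat.card H ∧ ∃ k : ℕ, H.index = p ^ k := by
  refine (S4034.result hp).1 fun x hx => ?_
  rw [ncard_carrier]
  by_cases hz : x ∈ center G
  · exact ⟨0, cs_eq_one_iff.2 hz⟩
  · rwa [h x ⟨(Nat.Prime.coprime_iff_not_dvd hp).1 hx.symm, hz⟩]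

theorem isSolvable_of_one_size {p m : ℕ} (hp : p.Prime) (h : ∀ x : G, Rg p x → cs[x] = m)
    (hm : m ≠ 0) : Group.IsSolvable G := by
  rcases pow_or_two hp h hm with h1 | ⟨q, hq, h1⟩
  · obtain ⟨H, h2, -, k, h3⟩ := exists_compl hp h h1
    refine H15.isSolvable_of_kazarin (E := H) (i := k) (j := 0) hp hp (by simp [h3])
      fun w hw r _ _ => ⟨p, hp, eq_pow_of_dvd hp (index_dvd_of_le fun g hg => ?_) ⟨k, h3⟩⟩
    exact mem_C.2 (setLike_mul_comm hg hw)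
  · exact isSolvable_of_index_center hp hq h1

/-- the `{p, q}`-part of a group whose central quotient is a `{p, q}`-group -/
theorem split_two {p q : ℕ} [hp : Fact p.Prime] [hq : Fact q.Prime] (hpq : q ≠ p)
    (h : ∀ s : ℕ, s.Prime → s ∣ (center G).index → s = p ∨ s = q) (P : Sylow p G)
    (Q : Sylow q G) : ∃ A : Subgroup G, A ≤ center G ∧
      Nat.card ↥((P : Subgroup G) ⊔ (Q : Subgroup G)) = Nat.card P * Nat.card Q ∧
      ((P : Subgroup G) ⊔ (Q : Subgroup G)).Normal ∧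
      ((P : Subgroup G) ⊔ (Q : Subgroup G)) ⊓ A = ⊥ ∧
      ((P : Subgroup G) ⊔ (Q : Subgroup G)) ⊔ A = ⊤ := by
  let A : Subgroup G :=
    { carrier := {z | z ∈ center G ∧ ¬ p ∣ orderOf z ∧ ¬ q ∣ orderOf z}
      one_mem' := ⟨one_mem _, by simp [hp.out.ne_one], by simp [hq.out.ne_one]⟩
      mul_mem' := fun {a b} ha hb => ⟨mul_mem ha.1 hb.1,
        not_dvd_orderOf_mul hp.out (mem_center_iff.1 hb.1 a) ha.2.1 hb.2.1,
        not_dvd_orderOf_mul hq.out (mem_center_iff.1 hb.1 a) ha.2.2 hb.2.2⟩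
      inv_mem' := fun {a} ha => ⟨inv_mem ha.1, by simpa using ha.2⟩ }
  have hA : A ≤ center G := fun a ha => ha.1
  have hAn : A.Normal := ⟨fun a ha g => by
    rwa [mem_center_iff.1 (hA ha) g, mul_inv_cancel_right]⟩
  have h1 : ∀ s : ℕ, s.Prime → s ∣ A.index → s = p ∨ s = q := fun s hs hd => by
    obtain ⟨x, hx1, hx2⟩ := exists_not_mem_of_dvd_index hs hd
    by_contra h2
    rw [not_or] at h2
    refine hx2 ⟨?_, not_dvd_of_eq_pow hp.out hs (Ne.symm h2.1) hx1,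
      not_dvd_of_eq_pow hq.out hs (Ne.symm h2.2) hx1⟩
    by_contra h3
    exact (h s hs (dvd_index_of_not_mem hs _ hx1 h3)).elim h2.1 h2.2
  have h2 : ∀ s : ℕ, s.Prime → s ∣ Nat.card A → s ≠ p ∧ s ≠ q := fun s hs hd => by
    have := Fact.mk hs
    obtain ⟨x, hx⟩ := exists_prime_orderOf_dvd_card' s hd
    rw [← orderOf_coe] at hx
    exact ⟨fun e => x.2.2.1 (by rw [hx, e]), fun e => x.2.2.2 (by rw [hx, e])⟩
  have hc : (Nat.card A).Coprime A.index := Nat.coprime_of_dvd fun s hs h3 h4 =>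
    (h1 s hs h4).elim (h2 s hs h3).1 (h2 s hs h3).2
  obtain ⟨N, hN⟩ := exists_right_complement'_of_coprime hc
  have hNn : N.Normal := normalizer_eq_top_iff.1 (eq_top_iff.2 (hN.sup_eq_top ▸
    sup_le (hA.trans (center_le_normalizer _)) le_normalizer))
  have hle : ∀ (r : ℕ) [Fact r.Prime] (R : Sylow r G), r = p ∨ r = q → (R : Subgroup G) ≤ N :=
    fun r hr R h3 x hx => by
      by_contra h4
      have h5 := dvd_index_of_not_mem hr.out N (orderOf_eq_pow_of_mem R.isPGroup' hx) h4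
      rw [hN.index_eq_card] at h5
      exact h3.elim (h2 r hr.out h5).1 (h2 r hr.out h5).2
  have hcard : ∀ s : ℕ, s.Prime → s ∣ Nat.card N → s = p ∨ s = q := fun s hs hd =>
    h1 s hs (by rwa [hN.symm.index_eq_card])
  have hrel : ∀ K : Subgroup G, K ≤ N → K.relIndex N ∣ K.index ∧ K.relIndex N ∣ Nat.card N :=
    fun K hK => ⟨relIndex_dvd_index_of_le hK, relIndex_dvd_card _ _⟩
  have hPN := hle p P (Or.inl rfl)
  have hQN := hle q Q (Or.inr rfl)
  have hs : (P : Subgroup G) ⊔ (Q : Subgroup G) = N := by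
    refine le_antisymm (sup_le hPN hQN) (relIndex_eq_one.1 (Nat.eq_one_iff_not_exists_prime_dvd.2
      fun s hs hd => ?_))
    obtain ⟨h3, h4⟩ := hrel _ (sup_le hPN hQN)
    rcases hcard s hs (hd.trans h4) with e | e <;> rw [e] at hd
    · exact not_dvd_index_of_sylow_le P le_sup_left (hd.trans h3)
    · exact not_dvd_index_of_sylow_le Q le_sup_right (hd.trans h3)
  rw [hs]
  refine ⟨A, hA, ?_, hNn, hN.symm.disjoint.eq_bot, hN.symm.sup_eq_top⟩
  obtain ⟨h3, h4⟩ := hrel _ hPN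
  have h5 : Nat.card P * (P : Subgroup G).relIndex N = Nat.card N := by
    have := H3.card_inf_mul_relIndex (P : Subgroup G) N
    rwa [inf_eq_left.2 hPN] at this
  obtain ⟨k, hk⟩ := (eq_pow_iff_forall hq.out (a := (P : Subgroup G).relIndex N)
    (fun e => Nat.card_pos.ne' (zero_dvd_iff.1 (e ▸ h4)))).2 fun s hs hd =>
      (hcard s hs (hd.trans h4)).resolve_left fun e => P.not_dvd_index (by
        rw [e] at hd; exact hd.trans h3)
  rw [← h5]
  congr 1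
  refine Nat.dvd_antisymm ?_ ?_
  · rw [hk] at h4 ⊢
    exact Q.pow_dvd_card_of_pow_dvd_card (h4.trans (card_subgroup_dvd_card N))
  · refine Nat.Coprime.dvd_of_dvd_mul_left ?_ (h5 ▸ card_dvd_of_le hQN)
    exact coprime_of_pow_of_pow hq.out hp.out hpq (IsPGroup.iff_card.1 Q.isPGroup')
      (IsPGroup.iff_card.1 P.isPGroup')

end Cfsg.Agent.H61.TR
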