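import Cfsg.Agent.H50.DerDefs

/-! Counting quotients of linear characters in an orbit. -/

set_option autoImplicit false

namespace Cfsg.Agent.H61.DerDual

open Cfsg.Agent.H50.Der

universe u

theorem cancel {V : Type u} [CommGroup V] (l : V →* ℂˣ) : l * l⁻¹ = 1 :=
  MonoidHom.ext fun v => mul_inv_cancel (l v)

theorem dualS : DualStmt.{u} := by
  intro V E _ _ _ _ act _ hc
  classical
  have := Fintype.ofFinite E
  have cV : Nat.card (V →* ℂˣ) = Nat.card V :=
    CommGroup.card_monoidHom_of_hasEnoughRootsOfUnity V ℂ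
  have : Finite (V →* ℂˣ) := Nat.finite_of_card_ne_zero (by rw [cV]; exact Nat.card_pos.ne')
  have := Fintype.ofFinite (V →* ℂˣ)
  have cA : (Finset.univ : Finset E).offDiag.card = Nat.card E * (Nat.card E - 1) := by
    rw [Finset.offDiag_card, Finset.card_univ, Nat.card_eq_fintype_card, Nat.mul_sub_one]
  have cB : ((Finset.univ : Finset (V →* ℂˣ)).erase 1).card + 1 = Nat.card V := by
    rw [Finset.card_erase_add_one (Finset.mem_univ _), Finset.card_univ, ← cV,
      Nat.card_eq_fintype_card]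
  have sub : ∀ l : V →* ℂˣ, l ≠ 1 → (Finset.univ : Finset (V →* ℂˣ)).erase 1 ⊆
      (Finset.univ : Finset E).offDiag.image
        fun p => dual act p.1 l * (dual act p.2 l)⁻¹ := fun l hl k hk => by
    have h1 := (Finset.mem_erase.1 hk).1
    obtain ⟨a, b, e⟩ := hc l k hl h1
    refine Finset.mem_image.2 ⟨(a, b), Finset.mem_offDiag.2
      ⟨Finset.mem_univ _, Finset.mem_univ _, fun h => h1 ?_⟩, e.symm⟩
    rw [e, show a = b from h]
    exact cancel _
  refine ⟨?_, fun hn y hy g1 g2 g3 g4 h12 e => ?_⟩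
  · rcases ((Finset.univ : Finset (V →* ℂˣ)).erase 1).eq_empty_or_nonempty with h | ⟨l, hl⟩
    · rw [← cB, h, Finset.card_empty]; omega
    · have := (Finset.card_le_card (sub l (Finset.mem_erase.1 hl).1)).trans Finset.card_image_le
      omega
  · let φ : V →* V := (act g1).toMonoidHom * (act g2).toMonoidHom⁻¹ *
      ((act g3).toMonoidHom * (act g4).toMonoidHom⁻¹)⁻¹
    have hφ : ∀ v, φ v = act g1 v * (act g2 v)⁻¹ * (act g3 v * (act g4 v)⁻¹)⁻¹ := fun _ => rfl
    have ns : ¬ Function.Surjective φ := fun h => hy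
      ((injective_iff_map_eq_one φ).1 (Finite.injective_iff_surjective.2 h) y (by
        rw [hφ, e, mul_inv_cancel]))
    obtain ⟨a, ha⟩ := not_forall.1 ns
    obtain ⟨χ, hχ⟩ := CommGroup.exists_apply_ne_one_of_hasEnoughRootsOfUnity (V ⧸ φ.range) ℂ
      (a := (a : V ⧸ φ.range)) (mt (QuotientGroup.eq_one_iff a).1 ha)
    let l : V →* ℂˣ := χ.comp (QuotientGroup.mk' _)
    have hl : l ≠ 1 := fun h => hχ (DFunLike.congr_fun h a)
    have key : dual act g1 l * (dual act g2 l)⁻¹ = dual act g3 l * (dual act g4 l)⁻¹ := by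
      ext1 v
      have : l (φ v) = 1 := by
        change χ (φ v : V ⧸ φ.range) = 1
        rw [(QuotientGroup.eq_one_iff (N := φ.range) (φ v)).2 ⟨v, rfl⟩, map_one]
      rw [hφ, map_mul, map_inv, mul_inv_eq_one, map_mul, map_mul, map_inv, map_inv] at this
      exact this
    have s := sub l hl
    have c1 := Finset.card_le_card s
    have c2 := Finset.card_image_le (s := (Finset.univ : Finset E).offDiag)
      (f := fun p => dual act p.1 l * (dual act p.2 l)⁻¹)
    have inj := Finset.card_image_iff.1 (le_antisymm c2 (by omega))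
    have eq := Finset.eq_of_subset_of_card_le s (by omega)
    have m12 : (g1, g2) ∈ (Finset.univ : Finset E).offDiag :=
      Finset.mem_offDiag.2 ⟨Finset.mem_univ _, Finset.mem_univ _, h12⟩
    have n1 : dual act g1 l * (dual act g2 l)⁻¹ ≠ 1 :=
      (Finset.mem_erase.1 (eq ▸ Finset.mem_image_of_mem _ m12)).1
    have m34 : (g3, g4) ∈ (Finset.univ : Finset E).offDiag :=
      Finset.mem_offDiag.2 ⟨Finset.mem_univ _, Finset.mem_univ _, fun h => n1 (by
        rw [key, show g3 = g4 from h]
        exact cancel _)⟩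
    exact Prod.ext_iff.1 (inj m12 m34 key)

end Cfsg.Agent.H61.DerDual
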