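import Cfsg.Agent.H58.Q4K
import Cfsg.Agent.S0042
import Cfsg.Agent.S0034

/-!
# Project Q4, piece DAT: the Frobenius kernels of the four-point stabilisers
-/

set_option autoImplicit false

namespace Cfsg.Agent.H61.Q4Dat

open Subgroup Function Cfsg.Agent.H58.Q4
open scoped Pointwise

universe u

theorem fr_map {L G : Type u} [Group L] [Group G] (f : L →* G) (hf : Injective f)
    {H K : Subgroup L} (h : Fr H K) : Fr (H.map f) (K.map f) where
  le := map_mono h.le
  nrm := by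
    rintro _ ⟨g, hg, rfl⟩ _ ⟨k, hk, rfl⟩
    exact ⟨_, h.nrm g hg k hk, by simp⟩
  nil := by
    haveI := h.nil
    exact nilpotent_of_mulEquiv (K.equivMapOfInjective f hf)
  ne_bot := fun e => h.ne_bot ((map_eq_bot_iff_of_injective K hf).1 e)
  ne_top := fun e => h.ne_top (map_injective hf e)
  fpf := by
    rintro _ ⟨g, hg, rfl⟩ hn _ ⟨k, hk, rfl⟩ hc
    have : k = 1 := h.fpf g hg (fun hg' => hn ⟨g, hg', rfl⟩) k hk
      (hf (by rw [map_mul, map_mul, hc.eq]))
    rw [this, map_one]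

theorem fr_top {L : Type u} [Group L] [Finite L] {H : Subgroup L} (hH : IsFrobeniusComplement H) :
    ∃ N : Subgroup L, Fr ⊤ N := by
  obtain ⟨N, hN, hn, hnil⟩ := S0042.result H hH
  have hm : ∀ x, x ∈ N ↔ x = 1 ∨ ∀ g : L, x ∉ MulAut.conj g • H := fun x => by
    rw [← SetLike.mem_coe, hN]; rfl
  have hc : ∀ g x : L, x ∈ MulAut.conj g • H ↔ g⁻¹ * x * g ∈ H := fun g x => by
    rw [mem_pointwise_smul_iff_inv_smul_mem]; simp
  refine ⟨N, le_top, fun g _ k hk => hn.conj_mem k hk g, hnil, ?_, ?_, ?_⟩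
  · rintro rfl
    have h1 := (S0034.result H hH).1
    rw [← hN] at h1
    change Nat.card (⊥ : Subgroup L) = _ at h1
    rw [card_bot] at h1
    exact hH.2.1 (index_eq_one.1 h1.symm)
  · rintro rfl
    obtain ⟨⟨h, hh⟩, h1⟩ := ne_bot_iff_exists_ne_one.1 hH.1
    rcases (hm h).1 (mem_top h) with e | e
    · exact h1 (Subtype.ext e)
    · exact e 1 ((hc 1 h).2 (by simpa using hh))
  · intro g _ hg k hk hgk
    by_contra hk1
    rw [hm] at hg
    push Not at hg
    obtain ⟨g1, x, hx⟩ := hg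
    have hk' := ((hm k).1 hk).resolve_left hk1 x
    rw [hc] at hx hk'
    have h2 : x⁻¹ * g * x ∈ H ⊓ MulAut.conj (x⁻¹ * k * x) • H := by
      refine ⟨hx, (hc _ _).2 ?_⟩
      have : (x⁻¹ * k * x)⁻¹ * (x⁻¹ * g * x) * (x⁻¹ * k * x) = x⁻¹ * (k⁻¹ * (g * k)) * x := by group
      rw [this, hgk.eq, inv_mul_cancel_left]
      exact hx
    rw [hH.2.2 _ hk', mem_bot] at h2
    apply g1
    have : g = x * (x⁻¹ * g * x) * x⁻¹ := by group
    rw [this, h2]; group

theorem fr_le (fr : FrStmt.{u}) {G : Type u} [Group G] [Finite G] {H K K' : Subgroup G}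
    (h : Fr H K) (h' : Fr H K') (hle : K ≤ K') : K' ≤ K := by
  intro g hg
  by_contra hn
  obtain ⟨h1, h2, -⟩ := fr G H K h
  obtain ⟨⟨k, hk⟩, k1⟩ := ne_bot_iff_exists_ne_one.1 h.ne_bot
  refine k1 (Subtype.ext (h.fpf g (h'.le hg) hn k hk (commute_of_nil h'.nil hg (hle hk) ?_)))
  exact (h1.symm.coprime_dvd_left (h2 g (h'.le hg) hn)).coprime_dvd_right
    (K.orderOf_dvd_natCard hk)

theorem fr_unique (fr : FrStmt.{u}) {G : Type u} [Group G] [Finite G] {H K K' : Subgroup G}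
    (h : Fr H K) (h' : Fr H K') : K = K' := by
  rcases (fr G H K h).2.2.1 K' h'.le (fun g hg => mem_Nm_of_finite (h'.nrm g hg)) with e | e
  · exact le_antisymm (fr_le fr h' h e) e
  · exact le_antisymm e (fr_le fr h h' e)

theorem St_smul {G Ω : Type u} [Group G] [MulAction G Ω] (F : Set Ω) (g : G) :
    St G (g • F) = (St G F).map (MulAut.conj g).toMonoidHom := by
  ext x
  constructor
  · intro hx
    refine ⟨g⁻¹ * x * g, (conj_mem_St (g := g)).1 ?_, by simp [mul_assoc]⟩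
    simpa [mul_assoc] using hx
  · rintro ⟨y, hy, rfl⟩
    exact conj_mem_St.2 hy

theorem inj4 {Ω : Type u} {a b c d : Ω} (hab : a ≠ b) (hac : a ≠ c) (had : a ≠ d) (hbc : b ≠ c)
    (hbd : b ≠ d) (hcd : c ≠ d) : Injective ![a, b, c, d] := by
  intro i j h
  fin_cases i <;> fin_cases j <;> simp_all [eq_comm]

/-- **DAT** -/
theorem dat (fr : FrStmt.{u}) : DatStmt.{u} := by
  intro G Ω _ _ _ _ _ hT a b c d hab hac had hbc hbd hcd ⟨H, hH⟩
  classical
  have tr : Tr4 (⊤ : Subgroup G) (Set.univ : Set Ω) := by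
    intro x y hx hy _ _
    obtain ⟨g, hg⟩ := hT.exists_smul_eq (⟨x, hx⟩ : Fin 4 ↪ Ω) ⟨y, hy⟩
    exact ⟨g, mem_top g, fun i => congrArg (fun e : Fin 4 ↪ Ω => e i) hg⟩
  obtain ⟨N, hN⟩ := fr_top hH
  have h0 := fr_map _ (subtype_injective _) hN
  have e0 : map (MulAction.stabilizer G a ⊓ MulAction.stabilizer G b ⊓ MulAction.stabilizer G c ⊓
      MulAction.stabilizer G d).subtype ⊤ = St G ({a, b, c, d} : Set Ω) := by
    rw [← MonoidHom.range_eq_map, range_subtype]
    ext g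
    simp [mem_St, and_assoc]
  rw [e0] at h0
  have ex : ∀ F : Set Ω, F.ncard = 4 → ∃ K, Fr (St G F) K := by
    intro F hF
    obtain ⟨x, y, z, w, h1, h2, h3, h4, h5, h6, rfl⟩ := Set.ncard_eq_four.1 hF
    obtain ⟨g, -, hg⟩ := tr _ _ (inj4 hab hac had hbc hbd hcd) (inj4 h1 h2 h3 h4 h5 h6)
      (fun _ => trivial) (fun _ => trivial)
    have e : ({x, y, z, w} : Set Ω) = g • ({a, b, c, d} : Set Ω) := by
      have g0 : g • a = x := hg 0
      have g1 : g • b = y := hg 1
      have g2 : g • c = z := hg 2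
      have g3 : g • d = w := hg 3
      simp only [Set.smul_set_insert, Set.smul_set_singleton, g0, g1, g2, g3]
    rw [e, St_smul]
    exact ⟨_, fr_map _ (MulAut.conj g).injective h0⟩
  choose! K hK using ex
  refine ⟨K, fun g hg => eq_of_smul_eq_smul (α := Ω) fun x => by rw [hg, one_smul], tr, hK, ?_⟩
  intro F hF g k hk
  have hF' : (g • F).ncard = 4 := by
    rw [← hF]; exact Set.ncard_image_of_injective F (MulAction.injective g)
  have h1 := fr_map (MulAut.conj g).toMonoidHom (MulAut.conj g).injective (hK F hF)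
  rw [← St_smul] at h1
  rw [fr_unique fr (hK _ hF') h1]
  exact ⟨k, hk, rfl⟩

end Cfsg.Agent.H61.Q4Dat
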