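import Cfsg.Agent.H17.TwA
import Cfsg.Agent.H89.BRa
import Cfsg.Agent.H2.Gaschutz

/-!
# The normaliser of the sign changes splits
-/

set_option autoImplicit false
set_option maxRecDepth 100000
set_option exponentiation.threshold 10000

namespace Cfsg.Agent.H61.A12Phi

open Equiv Subgroup Cfsg.Agent.H89.TG Cfsg.Agent.H89.Rec Cfsg.Agent.H17.Ya Cfsg.Agent.H17.Tw

universe u

/-- The complement of the sign changes. -/
def K0 : Subgroup El where
  carrier := {h | ∀ i : Fin 12, (pm h i).val % 2 = i.val % 2}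
  one_mem' := by simp
  mul_mem' := fun {a b} ha hb i => by rw [map_mul, Perm.mul_apply, ha, hb]
  inv_mem' := fun {a} ha i => by rw [← ha, map_inv]; simp

theorem mem_K0 {h : El} : h ∈ K0 ↔ ∀ i < 12, Nat.mod (ap h.val i) 2 = Nat.mod i 2 :=
  ⟨fun H i hi => by rw [show ap h.val i = _ from ap_val h ⟨i, hi⟩]; exact H ⟨i, hi⟩,
    fun H i => by rw [← ap_val]; exact H i i.2⟩

theorem E_sq : ∀ h : El, h ∈ E0 → h * h = 1 := by wdt

theorem E_comm {a b : El} (ha : a ∈ E0) (hb : b ∈ E0) : Commute a b := by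
  have h := E_sq _ (mul_mem ha hb)
  rw [commute_iff_eq, ← inv_eq_of_mul_eq_one_right h, mul_inv_rev,
    inv_eq_of_mul_eq_one_right (E_sq a ha), inv_eq_of_mul_eq_one_right (E_sq b hb)]

theorem K_cen' : ∀ k : El, k ∈ K0 → Commute k x12 → Commute k x23 → Commute k x34 →
    Commute k x45 → Commute k x56 → k = 1 := by
  simp only [mem_K0]; wdt

theorem K_cen {k : El} (hk : k ∈ K0) (h : ∀ e ∈ E0, Commute k e) : k = 1 :=
  K_cen' k hk (h _ (by kdt)) (h _ (by kdt)) (h _ (by kdt)) (h _ (by kdt)) (h _ (by kdt))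

theorem K_dec (m : El) : ∃ e ∈ E0, ∃ k ∈ K0, e * k = m := by
  have k5 : g5 ∈ K0 := by rw [mem_K0]; kdt
  have : m ∈ E0 ⊔ K0 := mem6 (mem_sup_right (by rw [mem_K0]; kdt))
    (mem_sup_right (by rw [mem_K0]; kdt)) (mem_sup_right (by rw [mem_K0]; kdt))
    (mem_sup_right (by rw [mem_K0]; kdt)) (mem_sup_right k5) (by
      rw [← inv_mul_cancel_right g6 g5]
      exact mul_mem_sup (by kdt) k5) m
  rw [← SetLike.mem_coe, normal_mul] at this
  exact this

variable {G : Type u} [Group G] [Finite G] {j : T →* G}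

/-- `k` acts on the sign changes like `g`. -/
def Ac (j : T →* G) (g : G) (k : El) : Prop :=
  ∀ u v : T, u ∈ ET → k * u * k⁻¹ = v → Cj j g u v

/-- The conjugate of a sign change. -/
noncomputable def cE (k : El) (u : T) (hu : u ∈ ET) : T :=
  ⟨k * u * k⁻¹, E_le_T (Normal.conj_mem (inferInstance : E0.Normal) _ hu k)⟩

theorem cE_mem (k : El) (u : T) (hu : u ∈ ET) : cE k u hu ∈ ET :=
  Normal.conj_mem (inferInstance : E0.Normal) _ hu k

omit [Finite G] in
theorem Ac.mul {g g' : G} {k k' : El} (h : Ac j g k) (h' : Ac j g' k') :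
    Ac j (g * g') (k * k') := fun u v hu e => by
  have h1 : g' * j u * g'⁻¹ = _ := h' u _ hu (rfl : _ = (cE k' u hu : El))
  have h2 : g * _ * g⁻¹ = j v := h (cE k' u hu) v (cE_mem k' u hu) (by
    rw [← e]; change k * (k' * u * k'⁻¹) * k⁻¹ = _; group)
  change _ = j v
  rw [← h2, ← h1]; group

omit [Finite G] in
theorem Ac.uniq (hj : Function.Injective j) {g : G} {k k' : El} (h : Ac j g k) (h' : Ac j g k')
    (hk : k ∈ K0) (hk' : k' ∈ K0) : k = k' := by
  rw [← mul_left_inj k'⁻¹, mul_inv_cancel]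
  refine conj_eq_one_iff.1 (?_ : k'⁻¹ * (k * k'⁻¹) * k'⁻¹⁻¹ = 1)
  rw [show k'⁻¹ * (k * k'⁻¹) * k'⁻¹⁻¹ = k'⁻¹ * k by group]
  refine K_cen (mul_mem (inv_mem hk') hk) fun e he => ?_
  have h1 := h ⟨e, E_le_T he⟩ _ he (rfl : _ = (cE k ⟨e, E_le_T he⟩ he : El))
  have h2 := h' ⟨e, E_le_T he⟩ _ he (rfl : _ = (cE k' ⟨e, E_le_T he⟩ he : El))
  have h3 : k * e * k⁻¹ = k' * e * k'⁻¹ := congrArg Subtype.val (hj ((Eq.symm h1).trans h2))
  calc k'⁻¹ * k * e = k'⁻¹ * (k * e * k⁻¹) * k := by group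
    _ = _ := by rw [h3]; group

omit [Finite G] in
theorem Ac.of_mul {g : G} {e k : El} (he : e ∈ E0) (h : Ac j g (e * k)) : Ac j g k :=
  fun u v hu e1 => h u v hu (by
    have := (E_comm he (cE_mem k u hu)).eq
    rw [← e1]
    calc _ = e * (k * u * k⁻¹) * e⁻¹ := by group
      _ = _ := mul_inv_eq_of_eq_mul this)

omit [Finite G] in
theorem Ac.self (t : T) : Ac j (j t) t := fun u v _ e => by
  change _ = j v
  rw [← map_inv, ← map_mul, ← map_mul]
  exact congrArg j (Subtype.ext e)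

theorem mem_N {g : G} : g ∈ normalizer ((ET.map j : Subgroup G) : Set G) ↔ NmE j g :=
  ⟨fun h u hu => by
    obtain ⟨v, hv, e⟩ := nrm_conj h (mem_map_of_mem j hu)
    exact ⟨v, hv, e.symm⟩, fun h => mem_nrm (by
    rintro _ ⟨u, hu, rfl⟩
    obtain ⟨v, hv, e⟩ := h u hu
    exact ⟨v, hv, Eq.symm e⟩)⟩

omit [Finite G] in
theorem Ac.nm {g : G} {k : El} (h : Ac j g k) : NmE j g :=
  fun u hu => ⟨_, cE_mem k u hu, h u _ hu rfl⟩

theorem exists_rho (h : Fr j) (hk : KS6 j) (N : Subgroup G) (hN : ∀ g, g ∈ N ↔ NmE j g)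
    (ι : T →* N) (hι : ∀ u, (ι u : G) = j u) (fι : Fr ι) :
    ∃ ρ : N →* El, Function.Surjective ρ ∧ (∀ u ∈ ET, ρ (ι u) = u) ∧
      ∀ u : T, ρ (ι u) * (u : El)⁻¹ ∈ E0 := by
  have h1 : ∀ g : N, ∃ k ∈ K0, Ac j g k := fun g => by
    obtain ⟨m, hm⟩ := hk.only g ((hN g).1 g.2)
    obtain ⟨e, he, k, hk, rfl⟩ := K_dec m
    exact ⟨k, hk, Ac.of_mul he hm⟩
  choose φ φK φA using h1
  have hnm : (ET.map ι).Normal := ⟨by
    rintro _ ⟨u, hu, rfl⟩ g
    obtain ⟨v, hv, e⟩ := (hN g).1 g.2 u hu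
    exact ⟨v, hv, Subtype.ext (by rw [coe_mul, coe_mul, hι, hι]; exact Eq.symm e)⟩⟩
  have hcm : IsMulCommutative (ET.map ι) := ⟨⟨by
    rintro ⟨_, a, ha, rfl⟩ ⟨_, b, hb, rfl⟩
    refine Subtype.ext ?_
    change ι a * ι b = ι b * ι a
    rw [← map_mul, ← map_mul]
    exact congrArg ι (Subtype.ext (E_comm ha hb).eq)⟩⟩
  obtain ⟨H, hH⟩ := H2.gaschutz_exists (ET.map ι) ι.range (map_le_range _ _) (by
      obtain ⟨n, hn⟩ := (fι.grp ET).exists_card_eq
      rw [hn, ← relIndex_top_right]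
      exact Nat.Coprime.pow_left n (Nat.coprime_two_left.2 fι.syl.odd))
    ((K0.subgroupOf T).map ι) (map_le_range _ _) (by
      rw [← map_inf _ _ _ fι.inj, show K0.subgroupOf T ⊓ ET = ⊥ from eq_bot_iff.2 fun x hx =>
        Subtype.ext (K_cen hx.1 fun e he => E_comm hx.2 he), Subgroup.map_bot]) (by
      rw [← Subgroup.map_sup, MonoidHom.range_eq_map]
      congr 1
      refine eq_top_iff.2 fun u _ => ?_
      obtain ⟨e, he, k, hk, e1⟩ := K_dec u
      have kT : k ∈ T := by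
        rw [eq_inv_mul_of_mul_eq e1]; exact mul_mem (inv_mem (E_le_T he)) u.2
      rw [show u = ⟨e, E_le_T he⟩ * ⟨k, kT⟩ from Subtype.ext e1.symm]
      exact mul_mem_sup he hk)
  have h2 : ∀ g : N, ∃ e ∈ ET, (ι e)⁻¹ * g ∈ H := fun g => by
    obtain ⟨⟨⟨_, e, he, rfl⟩, x⟩, hx⟩ := hH.2 g
    refine ⟨e, he, ?_⟩
    rw [← hx]
    simp
  choose d dE dH using h2
  have h3 : ∀ (g : N) (e : T), e ∈ ET → (ι e)⁻¹ * g ∈ H → d g = e := fun g e he hg => by
    have a1 : (ι e)⁻¹ * ι (d g) ∈ H := by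
      have := mul_mem hg (inv_mem (dH g))
      rwa [show (ι e)⁻¹ * g * ((ι (d g))⁻¹ * g)⁻¹ = (ι e)⁻¹ * ι (d g) by group] at this
    have a2 : (ι e)⁻¹ * ι (d g) ∈ ET.map ι :=
      mul_mem (inv_mem (mem_map_of_mem ι he)) (mem_map_of_mem ι (dE g))
    have a3 := disjoint_def.1 hH.disjoint a2 a1
    exact (fι.inj (inv_mul_eq_one.1 a3)).symm
  have φm : ∀ g g', φ (g * g') = φ g * φ g' := fun g g' =>
    (φA _).uniq h.inj ((φA g).mul (φA g')) (φK _) (mul_mem (φK g) (φK g'))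
  let ρ : N →* El := MonoidHom.mk' (fun g => d g * φ g) fun g g' => by
    have a1 : ι (cE (φ g) (d g') (dE g')) = g * ι (d g') * g⁻¹ := Subtype.ext (by
      rw [coe_mul, coe_mul, hι, hι]
      exact Eq.symm (φA g _ (cE (φ g) (d g') (dE g')) (dE g') rfl))
    have a2 := h3 (g * g') (cE (φ g) (d g') (dE g') * d g) (mul_mem (cE_mem _ _ _) (dE g)) (by
      have := mul_mem (dH g) (dH g')
      rw [map_mul, a1]
      convert this using 1
      group)
    change (d (g * g') : El) * φ (g * g') = d g * φ g * (d g' * φ g')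
    rw [a2, φm, coe_mul,
      (E_comm (mem_ET.1 (cE_mem (φ g) (d g') (dE g'))) (mem_ET.1 (dE g))).eq]
    change (d g : El) * (φ g * d g' * (φ g)⁻¹) * _ = _
    group
  have hρ : ∀ g, ρ g = d g * φ g := fun _ => rfl
  have h4 : ∀ (u : T) e k, e ∈ E0 → k ∈ K0 → e * k = u → φ (ι u) = k := fun u e k he hk e1 =>
    (φA _).uniq h.inj (Ac.of_mul he (by rw [hι, e1]; exact Ac.self u)) (φK _) hk
  have h5 : ∀ u ∈ ET, ρ (ι u) = u := fun u hu => by
    rw [hρ, h3 _ u hu (by simp), h4 u u 1 hu (one_mem _) (mul_one _), mul_one]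
  refine ⟨ρ, fun m => ?_, h5, fun u => ?_⟩
  · obtain ⟨e, he, k, hk', rfl⟩ := K_dec m
    obtain ⟨g, hg⟩ := hk.all k
    have gN := (hN g).2 (Ac.nm hg)
    refine ⟨ι (⟨e, E_le_T he⟩ * (d ⟨g, gN⟩)⁻¹) * ⟨g, gN⟩, ?_⟩
    rw [map_mul, h5 _ (mul_mem he (inv_mem (dE _))), hρ, (φA ⟨g, gN⟩).uniq h.inj hg (φK _) hk']
    simp
  · obtain ⟨e, he, k, hk', e1⟩ := K_dec u
    rw [hρ, h4 u e k he hk' e1, ← e1, mul_inv_rev, mul_assoc, mul_inv_cancel_left]
    exact mul_mem (dE _) (inv_mem he)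

/-- **PHI** -/
theorem phi : PhiStmt.{u} := by
  intro G _ _ j h hk
  let N : Subgroup G := normalizer ((ET.map j : Subgroup G) : Set G)
  have jN : ∀ u, j u ∈ N := fun u => mem_N.2 (Ac.nm (Ac.self u))
  let ι : T →* N := j.codRestrict N jN
  have fι : Fr ι := by
    have h1 := h.sylK (K := N) (by rintro _ ⟨u, rfl⟩; exact jN u)
    have h2 : ι.range = j.range.subgroupOf N := by
      ext x
      exact ⟨fun ⟨u, e⟩ => ⟨u, congrArg Subtype.val e⟩, fun ⟨u, e⟩ => ⟨u, Subtype.ext e⟩⟩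
    refine ⟨fun a b e => h.inj (congrArg Subtype.val e), le_top, h2 ▸ h1.isPGroup, ?_⟩
    rw [h2, relIndex_top_right]
    exact h1.odd
  obtain ⟨ρ, hs, hE, hT⟩ := exists_rho h hk N (fun _ => mem_N) ι (fun _ => rfl) fι
  have ρT : ∀ u, (ρ.comp ι) u ∈ T := fun u => by
    have := mul_mem (E_le_T (hT u)) u.2
    rwa [inv_mul_cancel_right] at this
  let β : T →* T := (ρ.comp ι).codRestrict T ρT
  have hβ : Function.Bijective β := Finite.injective_iff_bijective.1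
    ((injective_iff_map_eq_one _).2 fun u e => by
      have e1 : ρ (ι u) = 1 := congrArg Subtype.val e
      have := hT u
      rw [e1, one_mul, inv_mem_iff] at this
      exact Subtype.ext ((hE u this).symm.trans e1))
  let α : T ≃* T := (MulEquiv.ofBijective β hβ).symm
  have hα : ∀ u, ρ (ι (α u)) = u := fun u =>
    congrArg Subtype.val ((MulEquiv.ofBijective β hβ).apply_symm_apply u)
  have αE : ∀ u ∈ ET, α u = u := fun u hu =>
    (MulEquiv.symm_apply_eq _).2 (Subtype.ext (hE u hu).symm)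
  have nm : ∀ g, g ∈ N ↔ NmE (j.comp α.toMonoidHom) g := fun g => by
    rw [mem_N]
    refine forall₂_congr fun u hu => exists_congr fun v => and_congr_right fun hv => ?_
    change _ ↔ g * j (α u) * g⁻¹ = j (α v)
    rw [αE u hu, αE v hv]; rfl
  have fT : Fr T.subtype := ⟨subtype_injective _, by rw [range_subtype]; exact sylT⟩
  refine ⟨j.comp α.toMonoidHom, h.comp α.bijective, ⟨N, ρ, nm, hs, ?_, fun u _ => hα u⟩,
    fun m => ?_⟩
  · have a1 := fι.syl.odd
    rw [relIndex_top_right] at a1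
    have a2 := ι.range.index_mul_card
    have a3 := ρ.ker.index_mul_card
    have a4 := T.index_mul_card
    rw [index_ker, MonoidHom.range_eq_top.2 hs, card_top, ← a4, ← a2,
      ← Nat.card_congr (MonoidHom.ofInjective fι.inj).toEquiv, mul_right_comm] at a3
    rw [← Nat.eq_of_mul_eq_mul_right Nat.card_pos a3] at a1
    exact (Nat.odd_mul.1 a1).2
  · obtain ⟨g, -, hg⟩ := fT.lift_cj hs (fι.comp (τ := α.toMonoidHom) α.bijective) hα m
    exact ⟨g, (nm g).1 g.2, fun u v e => congrArg Subtype.val (hg u v e)⟩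

end Cfsg.Agent.H61.A12Phi
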