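import Cfsg.Agent.H74.CksDefs
import Cfsg.Agent.S0004
import Cfsg.Agent.S0005

/-!
# Project CKS, pieces BAS2 and CNT: standard position and counting
-/

set_option autoImplicit false

namespace Cfsg.Agent.H61.CksB

open Subgroup Cfsg.Agent.H74.Cks
open scoped Pointwise

section Gen

variable {G : Type} [Group G]

theorem mem_cn {g x : G} {H : Subgroup G} : x ∈ cn g H ↔ g⁻¹ * x * g ∈ H :=
  ⟨fun ⟨y, hy, e⟩ => by rw [← e]; simpa [mul_assoc] using hy,
    fun h => ⟨_, h, by simp [mul_assoc]⟩⟩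

theorem card_cn (g : G) (H : Subgroup G) : Nat.card (cn g H) = Nat.card H :=
  card_map_of_injective (MulAut.conj g).injective

theorem cn_inf (g : G) (H K : Subgroup G) : cn g (H ⊓ K) = cn g H ⊓ cn g K :=
  map_inf_eq _ _ _ (MulAut.conj g).injective

theorem cn_self {h : G} {H : Subgroup G} (hh : h ∈ H) : cn h H = H := by
  ext x
  rw [mem_cn, H.mul_mem_cancel_right hh, H.mul_mem_cancel_left (H.inv_mem hh)]

theorem syl_smul {p : ℕ} (g : G) (U : Sylow p G) :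
    ((g • U : Sylow p G) : Subgroup G) = cn g U := rfl

theorem relIndex_orbit (H K : Subgroup G) :
    H.relIndex K = (MulAction.orbit K ((1 : G) : G ⧸ H)).ncard := by
  rw [← MulAction.index_stabilizer, relIndex]
  refine congrArg index (Subgroup.ext fun k => ?_)
  rw [mem_subgroupOf, MulAction.mem_stabilizer_iff]
  change _ ↔ (((k : G) * 1 : G) : G ⧸ H) = _
  rw [QuotientGroup.eq]
  simp

theorem fact_iff [Finite G] (H K : Subgroup G) :
    (∀ g, ∃ h ∈ H, ∃ k ∈ K, g = h * k) ↔ H.relIndex K = H.index := by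
  rw [relIndex_orbit, index, ← Set.eq_univ_iff_ncard, Set.eq_univ_iff_forall]
  constructor
  · intro h x
    obtain ⟨g, rfl⟩ := QuotientGroup.mk_surjective x
    obtain ⟨a, ha, k, hk, e⟩ := h g⁻¹
    refine ⟨⟨k⁻¹, K.inv_mem hk⟩, ?_⟩
    change ((k⁻¹ * 1 : G) : G ⧸ H) = _
    rw [QuotientGroup.eq, ← inv_inv g, e]
    simpa using ha
  · intro h g
    obtain ⟨k, hk⟩ := h ((g⁻¹ : G) : G ⧸ H)
    change (((k : G) * 1 : G) : G ⧸ H) = _ at hk
    rw [eq_comm, QuotientGroup.eq, inv_inv, mul_one] at hk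
    exact ⟨_, hk, _, K.inv_mem k.2, by group⟩

theorem ft_iff {p : ℕ} [Fact p.Prime] [Finite G] (H : Subgroup G) (U₀ : Sylow p G) :
    ((∀ g : G, ∃ h ∈ H, ∃ x ∈ normalizer ((U₀ : Subgroup G) : Set G), g = h * x) ↔ FT p H) ∧
      (FT p H ↔ ∀ U V : Sylow p G, ∃ h ∈ H, h • U = V) := by
  have a1 : (∀ g : G, ∃ h ∈ H, ∃ x ∈ normalizer ((U₀ : Subgroup G) : Set G), g = h * x) →
      ∀ U V : Sylow p G, ∃ h ∈ H, h • U = V := by
    intro h
    have : ∀ V : Sylow p G, ∃ h ∈ H, h • U₀ = V := by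
      intro V
      obtain ⟨g, rfl⟩ := MulAction.exists_smul_eq G U₀ V
      obtain ⟨a, ha, x, hx, rfl⟩ := h g
      exact ⟨a, ha, by rw [mul_smul, Sylow.smul_eq_iff_mem_normalizer.2 hx]⟩
    intro U V
    obtain ⟨a, ha, rfl⟩ := this U
    obtain ⟨b, hb, rfl⟩ := this V
    exact ⟨b * a⁻¹, H.mul_mem hb (H.inv_mem ha), by rw [mul_smul, inv_smul_smul]⟩
  have a2 : (∀ U V : Sylow p G, ∃ h ∈ H, h • U = V) → FT p H := by
    intro h U g
    obtain ⟨a, ha, e⟩ := h U (g • U)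
    refine ⟨a, ha, a⁻¹ * g, Sylow.smul_eq_iff_mem_normalizer.1 ?_, by group⟩
    rw [mul_smul, ← e, inv_smul_smul]
  exact ⟨⟨fun h => a2 (a1 h), fun h => h U₀⟩, fun h => a1 (h U₀), a2⟩

theorem two_cn {H : Subgroup G} (g : G) (h : Two H) : Two (cn g H) := by
  have hi : (cn g H).index = H.index := index_map_equiv H (MulAut.conj g)
  refine ⟨(OrderIso.isCoatom_iff (MulAut.conj g).mapSubgroup H).2 h.max, ?_, by rw [hi]; exact h.dvd⟩
  have e : ∀ x y : G, (x : G ⧸ cn g H) = y ↔ ((x * g : G) : G ⧸ H) = (y * g : G) := by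
    intro x y
    rw [QuotientGroup.eq, QuotientGroup.eq, mem_cn]
    simp [mul_assoc]
  rw [MulAction.is_two_pretransitive_iff]
  intro a b c d hab hcd
  obtain ⟨a, rfl⟩ := QuotientGroup.mk_surjective a
  obtain ⟨b, rfl⟩ := QuotientGroup.mk_surjective b
  obtain ⟨c, rfl⟩ := QuotientGroup.mk_surjective c
  obtain ⟨d, rfl⟩ := QuotientGroup.mk_surjective d
  obtain ⟨k, h1, h2⟩ := MulAction.is_two_pretransitive_iff.1 h.two (mt (e a b).2 hab)
    (mt (e c d).2 hcd)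
  refine ⟨k, (e (k * a) c).2 ?_, (e (k * b) d).2 ?_⟩
  · rw [mul_assoc]; exact h1
  · rw [mul_assoc]; exact h2

theorem split {Γ : Type} [Group Γ] [Finite Γ] {p : ℕ} [Fact p.Prime] (U T K : Subgroup Γ)
    [U.Normal] (hU : IsPGroup p U) (hT : ¬ p ∣ Nat.card T) (hc : ∀ a ∈ T, ∀ b ∈ T, a * b = b * a)
    (hd : ∀ g, ∃ u ∈ U, ∃ t ∈ T, g = u * t) (hcard : Nat.card Γ = Nat.card U * Nat.card T) :
    ∃ b : Γ, ∀ k ∈ K, ∃ u ∈ K ⊓ U, ∃ c ∈ K, b * c * b⁻¹ ∈ T ∧ k = u * c := by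
  have hco : ∀ m n : ℕ, m ∣ Nat.card U → n ∣ Nat.card T → m.Coprime n := by
    intro m n hm hn
    obtain ⟨a, ha⟩ := IsPGroup.iff_card.1 hU
    rw [ha] at hm
    exact (((Nat.Prime.coprime_iff_not_dvd Fact.out).2 hT).pow_left a).of_dvd hm hn
  have hi : U.index = Nat.card T :=
    Nat.eq_of_mul_eq_mul_left Nat.card_pos (U.card_mul_index.trans hcard)
  have : Group.IsNilpotent U := hU.isNilpotent
  have : Group.IsSolvable T := Group.isSolvable_of_comm fun a b => Subtype.ext (hc _ a.2 _ b.2)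
  have : Group.IsSolvable (Γ ⧸ U) := by
    refine Group.isSolvable_of_surjective (f := (QuotientGroup.mk' U).comp T.subtype) fun x => ?_
    obtain ⟨g, rfl⟩ := QuotientGroup.mk_surjective x
    obtain ⟨u, hu, t, ht, rfl⟩ := hd g
    refine ⟨⟨t, ht⟩, ?_⟩
    change (t : Γ ⧸ U) = _
    rw [QuotientGroup.mk_mul, (QuotientGroup.eq_one_iff u).2 hu, one_mul]
  have : Group.IsSolvable Γ :=
    Group.isSolvable_of_ker_le_range U.subtype (QuotientGroup.mk' U) (by simp)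
  have hr : (U.subgroupOf K).index ∣ Nat.card T := hi ▸ relIndex_dvd_index_of_normal U K
  obtain ⟨C, hC⟩ := exists_right_complement'_of_coprime (N := U.subgroupOf K)
    (hco _ _ (card_comap_dvd_of_injective U K.subtype K.subtype_injective) hr)
  have hCc : Nat.card (C.map K.subtype) ∣ Nat.card T := by
    rw [card_map_of_injective K.subtype_injective, ← hC.symm.index_eq_card]
    exact hr
  obtain ⟨M, hM, hCM⟩ := S0005.result (G := Γ) (Nat.card T) (Nat.card U) (by rw [hcard, mul_comm])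
    (hco _ _ dvd_rfl dvd_rfl).symm (C.map K.subtype) (hco _ _ dvd_rfl hCc).symm
  obtain ⟨b, hb⟩ := S0004.result (G := Γ) (Nat.card T) (Nat.card U) (by rw [hcard, mul_comm])
    (hco _ _ dvd_rfl dvd_rfl).symm M T hM rfl
  refine ⟨b, fun k hk => ?_⟩
  obtain ⟨⟨u, c⟩, e⟩ := hC.2 ⟨k, hk⟩
  refine ⟨u.1.1, ⟨u.1.2, u.2⟩, c.1.1, c.1.2, ?_, (congrArg Subtype.val e).symm⟩
  rw [← hb]
  exact smul_mem_pointwise_smul _ (MulAut.conj b) M (hCM ⟨c.1, c.2, rfl⟩)

theorem card_sup' [Finite G] {V T : Subgroup G} (hn : T ≤ normalizer (V : Set G))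
    (hi : V ⊓ T = ⊥) : Nat.card ↥(V ⊔ T) = Nat.card V * Nat.card T := by
  rw [← Nat.card_prod]
  symm
  refine Nat.card_eq_of_bijective
    (fun x : V × T => (⟨x.1 * x.2, mul_mem (mem_sup_left x.1.2) (mem_sup_right x.2.2)⟩ : ↥(V ⊔ T)))
    ⟨?_, ?_⟩
  · rintro ⟨a, b⟩ ⟨a', b'⟩ e
    have e1 : (a : G) * b = a' * b' := congrArg Subtype.val e
    have e2 : (a' : G)⁻¹ * a = b' * (b : G)⁻¹ := by
      rw [inv_mul_eq_iff_eq_mul, ← mul_assoc, ← e1, mul_inv_cancel_right]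
    have h1 : (a' : G)⁻¹ * a ∈ V ⊓ T :=
      ⟨V.mul_mem (V.inv_mem a'.2) a.2, e2 ▸ T.mul_mem b'.2 (T.inv_mem b.2)⟩
    rw [hi, mem_bot] at h1
    have e3 : (a' : G) = a := inv_mul_eq_one.1 h1
    rw [e3] at e1
    exact Prod.ext (Subtype.ext e3.symm) (Subtype.ext (mul_left_cancel e1))
  · rintro ⟨x, hx⟩
    have : x ∈ (V : Set G) * T := by
      rw [← coe_mul_of_right_le_normalizer_left V T hn]; exact hx
    obtain ⟨a, ha, b, hb, rfl⟩ := this
    exact ⟨(⟨a, ha⟩, ⟨b, hb⟩), rfl⟩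

end Gen

/-- **BAS2** -/
theorem bas2 (bas1 : Bas1Stmt) : Bas2Stmt := by
  intro G _ _ _ p n _ S H
  obtain ⟨hN, ⟨U₀, hU₀⟩, -, hB, hUT, hdec, -⟩ := bas1 S
  have hUB : S.U ≤ S.B := S.sp.U_le _
  have hft : ∀ K : Subgroup G, S.Ft K ↔ FT p K := fun K => by
    rw [← (ft_iff K U₀).1, hU₀, hN]; rfl
  refine ⟨hft H, fun hF => ?_, fun g => ⟨index_map_equiv H (MulAut.conj g), two_cn g, ?_⟩,
    fun hS => ?_, ?_⟩
  · have : (S.U.subgroupOf S.B).Normal := (normal_subgroupOf_iff_le_normalizer hUB).2 hN.ge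
    obtain ⟨b, hb⟩ := split (p := p) (S.U.subgroupOf S.B) (S.T.subgroupOf S.B) (H.subgroupOf S.B)
      ((S.sp.U_pgroup ∅).comap_subtype)
      (by rw [Nat.card_congr (subgroupOfEquivOfLe inf_le_left).toEquiv]; exact S.sp.coprime)
      (fun a ha b hb => Subtype.ext (S.comm _ ha _ hb))
      (fun g => by
        obtain ⟨u, hu, t, ht, e⟩ := hdec g.1 g.2
        exact ⟨⟨u, hUB hu⟩, hu, ⟨t, ht.1⟩, ht, Subtype.ext e⟩)
      (by rw [Nat.card_congr (subgroupOfEquivOfLe inf_le_left).toEquiv,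
        Nat.card_congr (subgroupOfEquivOfLe hUB).toEquiv]; exact hB)
    refine ⟨b, fun g => ?_, le_antisymm ?_ (sup_le (inf_le_inf_left _ hUB)
      (inf_le_inf_left _ inf_le_left))⟩
    · obtain ⟨h, hh, c, hc, e⟩ := hF ((b : G)⁻¹ * g)
      refine ⟨b * h * (b : G)⁻¹, ⟨h, hh, rfl⟩, b * c, mul_mem b.2 hc, ?_⟩
      rw [mul_assoc, inv_mul_cancel_left, mul_assoc, ← e, mul_inv_cancel_left]
    · rintro _ ⟨⟨h, hh, rfl⟩, hx⟩
      have hx' : h ∈ S.B := by
        have : (b : G) * h * (b : G)⁻¹ ∈ S.B := hx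
        rwa [S.B.mul_mem_cancel_right (inv_mem b.2), S.B.mul_mem_cancel_left b.2] at this
      obtain ⟨u, hu, c, hc, hct, e⟩ := hb ⟨h, hx'⟩ hh
      have e' : h = u.1 * c.1 := congrArg Subtype.val e
      rw [e', map_mul]
      refine mul_mem (mem_sup_left ⟨⟨u.1, hu.1, rfl⟩, ?_⟩) (mem_sup_right ⟨⟨c.1, hc, rfl⟩, hct⟩)
      exact (mem_normalizer_iff.1 (hN.ge b.2) u.1).1 hu.2
  · have a : FT p (cn g H) → FT p H := by
      rw [(ft_iff _ U₀).2, (ft_iff _ U₀).2]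
      intro h U V
      obtain ⟨_, ⟨k, hk, rfl⟩, e⟩ := h (g • U) (g • V)
      refine ⟨k, hk, MulAction.injective g ?_⟩
      change g • k • U = g • V
      rw [← e, smul_smul, smul_smul]
      congr 1
      simp
    refine ⟨a, fun b ⟨h1, k, k0, kb, kp, hk⟩ => ⟨a h1, k, k0, kb, kp, fun U => ?_⟩⟩
    have := hk (g • U)
    rwa [syl_smul, ← cn_inf, card_cn, card_cn, show (cn g H).index = H.index from
      index_map_equiv H (MulAut.conj g)] at this
  · have h1 : H.relIndex S.B = H.index := (fact_iff H S.B).1 hS.1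
    have h2 : Nat.card ↥(H ⊓ S.B) * H.index = Nat.card S.B := by
      rw [← h1, ← inf_relIndex_right, ← ((H ⊓ S.B).subgroupOf S.B).card_mul_index,
        Nat.card_congr (subgroupOfEquivOfLe inf_le_right).toEquiv]
      rfl
    have h3 : Nat.card ↥(H ⊓ S.T) * (H ⊓ S.T).relIndex S.T = Nat.card S.T := by
      rw [← ((H ⊓ S.T).subgroupOf S.T).card_mul_index,
        Nat.card_congr (subgroupOfEquivOfLe inf_le_right).toEquiv]
      rfl
    have h4 : Nat.card ↥(H ⊓ S.B) = Nat.card ↥(H ⊓ S.U) * Nat.card ↥(H ⊓ S.T) := by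
      rw [hS.2]
      refine card_sup' (fun t ht => mem_normalizer_iff.2 fun x => ?_) ?_
      · rw [mem_inf, mem_inf, ← mem_normalizer_iff.1 (hN.ge ht.2.1) x,
          H.mul_mem_cancel_right (H.inv_mem ht.1), H.mul_mem_cancel_left ht.1]
      · exact le_bot_iff.1 (hUT ▸ inf_le_inf inf_le_right inf_le_right)
    have h5 : H.index * Nat.card ↥(H ⊓ S.U) = (H ⊓ S.T).relIndex S.T * Nat.card S.U := by
      apply Nat.eq_of_mul_eq_mul_left (Nat.card_pos (α := ↥(H ⊓ S.T)))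
      rw [h4, hB, ← h3] at h2
      linarith
    have hF := (hft H).1 hS.1
    refine ⟨h5, fun b hb => ⟨hF, _, ?_, hb, ?_, fun U => ?_⟩, fun hT => ?_⟩
    · exact Nat.pos_of_ne_zero fun h => by
        rw [h, mul_zero] at h3
        exact Nat.card_pos.ne h3
    · exact fun h => S.sp.coprime (h.trans (Dvd.intro_left _ h3))
    · obtain ⟨h, hh, rfl⟩ := (ft_iff H U₀).2.1 hF U₀ U
      have e := card_cn h ((U₀ : Subgroup G) ⊓ H)
      rw [cn_inf, cn_self hh] at e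
      rw [syl_smul, card_cn, e, hU₀, inf_comm, h5]
    · rw [inf_eq_right.2 hT, relIndex_self, one_mul] at h5
      obtain ⟨a, ha⟩ := IsPGroup.iff_card.1 (S.sp.U_pgroup ∅)
      obtain ⟨c, -, hc⟩ := (Nat.dvd_prime_pow Fact.out).1 (ha ▸ Dvd.intro _ h5)
      exact ⟨c, hc⟩
  · rintro ⟨c, hc⟩
    rw [fact_iff]
    have h1 : H.relIndex S.U * S.U.index = (H ⊓ S.U).index := by
      rw [← inf_relIndex_right, relIndex_mul_index inf_le_right]
    have h2 : H.index ∣ H.relIndex S.U * S.U.index := h1 ▸ index_dvd_of_le inf_le_left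
    have h3 : H.index.Coprime S.U.index := by
      rw [hc, ← hU₀]
      exact ((Nat.Prime.coprime_iff_not_dvd Fact.out).2 U₀.not_dvd_index).pow_left c
    have h4 : H.relIndex S.U ≤ H.index := by
      rw [← relIndex_top_right H]
      exact relIndex_le_of_le_right le_top (by rw [relIndex_top_right]; exact index_ne_zero_of_finite)
    exact le_antisymm h4 (Nat.le_of_dvd (Nat.pos_of_ne_zero index_ne_zero_of_finite)
      (h3.dvd_of_dvd_mul_right h2))

/-- **CNT** -/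
theorem cnt : CntStmt := by
  intro G _ _ H h D hD hH
  classical
  have := Fintype.ofFinite (G ⧸ H)
  have hf : D.Finite := Set.toFinite D
  set x₀ : G ⧸ H := ((1 : G) : G ⧸ H) with hx₀
  have hfix : ∀ g : G, g • x₀ = x₀ ↔ g ∈ H := fun g => by
    rw [← MulAction.mem_stabilizer_iff, MulAction.stabilizer_quotient]
  have hle : ∀ y y' : G ⧸ H, y ≠ x₀ → y' ≠ x₀ →
      (hf.toFinset.filter fun d => d • x₀ = y).card ≤ (hf.toFinset.filter fun d => d • x₀ = y').card := by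
    intro y y' hy hy'
    obtain ⟨k, h1, h2⟩ := MulAction.is_two_pretransitive_iff.1 h.two hy hy'
    refine Finset.card_le_card_of_injOn (fun d => k * d * k⁻¹) (fun d hd => ?_)
      fun a _ b _ e => by simpa using e
    simp only [Finset.coe_filter, Set.Finite.mem_toFinset, Set.mem_setOf_eq] at hd ⊢
    refine ⟨hD d hd.1 k, ?_⟩
    rw [mul_smul, mul_smul, inv_smul_eq_iff.2 h2.symm, hd.2, h1]
  obtain ⟨g₁, hg₁⟩ : ∃ g, g ∉ H := by
    by_contra hn
    push Not at hn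
    exact h.max.1 (eq_top_iff.2 fun g _ => hn g)
  have hy₁ : g₁ • x₀ ≠ x₀ := mt (hfix g₁).1 hg₁
  set c := (hf.toFinset.filter fun d => d • x₀ = g₁ • x₀).card
  have hc : ∀ y, y ≠ x₀ → (hf.toFinset.filter fun d => d • x₀ = y).card = c :=
    fun y hy => le_antisymm (hle _ _ hy hy₁) (hle _ _ hy₁ hy)
  have hi : (Finset.univ.erase x₀).card = H.index - 1 := by
    rw [Finset.card_erase_of_mem (Finset.mem_univ _), Finset.card_univ, index,
      Nat.card_eq_fintype_card]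
  have hcard : D.ncard = (H.index - 1) * c := by
    rw [Set.ncard_eq_toFinset_card D hf, Finset.card_eq_sum_card_fiberwise
      (f := fun d => d • x₀) (t := Finset.univ.erase x₀), ← hi, ← smul_eq_mul]
    · exact Finset.sum_eq_card_nsmul fun y hy => hc y (Finset.ne_of_mem_erase hy)
    · intro d hd
      simp only [Finset.coe_erase, Finset.coe_univ, Set.mem_diff, Set.mem_univ, true_and,
        Set.mem_singleton_iff]
      exact mt (hfix d).1 (hH d (by simpa using hd))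
  refine ⟨⟨c, hcard⟩, fun h1 d hd d' hd' hne g hg => ?_⟩
  have hpos : 0 < H.index - 1 := by
    rw [← hi]
    exact Finset.card_pos.2 ⟨_, Finset.mem_erase.2 ⟨hy₁, Finset.mem_univ _⟩⟩
  have c1 : c = 1 := Nat.eq_of_mul_eq_mul_left hpos (by rw [← hcard, h1, mul_one])
  have h2 := hc ((g * d * g⁻¹) • x₀) (mt (hfix _).1 (hH _ (hD d hd g)))
  rw [c1] at h2
  have h3 := Finset.card_le_one.1 h2.le (g * d * g⁻¹)
    (Finset.mem_filter.2 ⟨hf.mem_toFinset.2 (hD d hd g), rfl⟩) (g * d' * g⁻¹)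
    (Finset.mem_filter.2 ⟨hf.mem_toFinset.2 (hD d' hd' g), by
      rw [show g * d' * g⁻¹ = g * d * g⁻¹ * (g * (d⁻¹ * d') * g⁻¹) by group, mul_smul,
        (hfix _).2 hg]⟩)
  exact hne (by simpa using h3)

end Cfsg.Agent.H61.CksB
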