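import Cfsg.Agent.H96.D4Defs

/-! Project D4F, piece E1O: subgroups of `E` with centre in `Y`, odd characteristic. -/

set_option autoImplicit false

namespace Cfsg.Agent.H61.D4E1O

open Cfsg.Agent.H97 Cfsg.Agent.H96.VB Cfsg.Agent.H96.CP Cfsg.Agent.H96.DF Subgroup
open scoped commutatorElement

universe u

theorem mul_card_dvd {G : Type*} [Group G] [Finite G] {p : ℕ} [Fact p.Prime] (hG : IsPGroup p G)
    {P S : Subgroup G} (h : P ≤ S) (n : ¬ S ≤ P) : p * Nat.card P ∣ Nat.card S := by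
  obtain ⟨k, hk⟩ := (hG.to_subgroup S).index (P.subgroupOf S)
  rw [← (P.subgroupOf S).card_mul_index, Nat.card_congr (subgroupOfEquivOfLe h).toEquiv, mul_comm p, hk]
  refine mul_dvd_mul_left _ (dvd_pow_self p ?_)
  rintro rfl
  exact n (relIndex_eq_one.1 hk)

variable {F K : Type u} [Field F] [Field K] [Algebra F K] {C : Tri F K}

theorem cEW {g w : U C} (hg : g ∈ E C) (hw : w ∈ W C) : ⁅g, w⁆ = 1 := by
  obtain ⟨h1, h2, h3, h4⟩ := hw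
  have h0 := mem_E.1 hg
  ext <;> simp [comm_y, comm_x, comm_a, comm_z_E h0 h2, *]

theorem cEE {g h : U C} (hg : g ∈ E C) (hh : h ∈ E C) : ⁅g, h⁆ ∈ Y C := by
  simp [mem_Y, comm_y, mem_E.1 hg, mem_E.1 hh]

theorem cx {g h : U C} (hg : g ∈ E C) (hh : h ∈ E C) : ⁅g, h⁆.x = C.cr g.t h.y - C.cr h.t g.y := by
  simp [comm_x, mem_E.1 hg, mem_E.1 hh]

theorem cW {g h : U C} (hg : g ∈ E C) (hh : h ∈ E C) :
    ⁅g, h⁆ ∈ W C ↔ C.cr g.t h.y = C.cr h.t g.y := by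
  rw [mem_W, cx hg hh, sub_eq_zero]
  simp [comm_y, mem_E.1 hg, mem_E.1 hh]

theorem YE : Y C ≤ E C := fun _ h => h.2.1
theorem WY : W C ≤ Y C := fun _ h => ⟨h.1, h.2.1, h.2.2.1⟩

theorem cEY {g y : U C} (hg : g ∈ E C) (hy : y ∈ Y C) : ⁅g, y⁆ ∈ W C := by
  obtain ⟨h1, -, h3⟩ := mem_Y.1 hy
  rw [cW hg (YE hy), h1, h3]; simp

theorem cYE {g y : U C} (hg : g ∈ E C) (hy : y ∈ Y C) : ⁅y, g⁆ ∈ W C := by
  rw [← commutatorElement_inv]; exact inv_mem (cEY hg hy)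

theorem noniso {t f : K} (ht : t ≠ 0) (hf : C.σ f ≠ f) : ∃ t1 y1 t2 y2,
    C.cr t1 (f * t) = C.cr t y1 ∧ C.cr t2 (f * t) = C.cr t y2 ∧ C.cr t1 y2 ≠ C.cr t2 y1 := by
  refine ⟨f * t, (f * C.σ f + f * C.σ (C.σ f) - C.sh f) * t, 2 * C.sh f * t,
    ((f ^ 2 + C.sh f) * (C.σ f + C.σ (C.σ f)) - f * (C.σ f ^ 2 + C.σ (C.σ f) ^ 2)) * t,
    by d4n; ring, by d4n; ring, fun e => ?_⟩
  have k : C.sh t * (C.σ (C.σ f) - C.σ f) ^ 2 * (C.σ f - f) * (f - C.σ (C.σ f)) = 0 := by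
    rw [← sub_eq_zero] at e
    rw [← e]; d4n; ring
  have h1 : C.σ (C.σ f) - C.σ f ≠ 0 := sub_ne_zero.2 fun e => hf (C.σ.injective e)
  have h2 : f - C.σ (C.σ f) ≠ 0 := sub_ne_zero.2 fun e => hf (by
    have := congrArg C.σ e
    rwa [C.σ3] at this)
  simp [ht, h1, h2, sub_ne_zero.2 hf] at k

theorem cr_inj (h2 : (2 : F) ≠ 0) {t : K} (ht : t ≠ 0) : Function.Injective (C.cr t) := fun a b e =>
  sub_eq_zero.1 (C.cr_eq_zero_odd h2 ht (by rw [sub_eq_add_neg, C.cr_add, C.cr_neg, e, add_neg_cancel]))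

/-- the elements of `Y` which are mapped into `Y` -/
def MM {P : Subgroup (U C)} (h : Y C ≤ P) (α : MulAut P) : Subgroup (U C) where
  carrier := {g | g ∈ Y C ∧ ext α g ∈ Y C}
  one_mem' := ⟨one_mem _, by rw [ext_map_one]; exact one_mem _⟩
  mul_mem' a b := ⟨mul_mem a.1 b.1, by rw [ext_map_mul α (h a.1) (h b.1)]; exact mul_mem a.2 b.2⟩
  inv_mem' a := ⟨inv_mem a.1, by rw [ext_map_inv α (h a.1)]; exact inv_mem a.2⟩

/-- the elements of `E` whose commutator with `v` lies in `M` -/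
def SS {M : Subgroup (U C)} (h1 : W C ≤ M) (h2 : M ≤ Y C) (v : U C) : Subgroup (U C) where
  carrier := {c | c ∈ E C ∧ ⁅c, v⁆ ∈ M}
  one_mem' := ⟨one_mem _, by simpa using one_mem M⟩
  mul_mem' {a b} ha hb := ⟨mul_mem ha.1 hb.1, by
    rw [show ⁅a * b, v⁆ = ⁅a, ⁅b, v⁆⁆ * ⁅b, v⁆ * ⁅a, v⁆ by simp only [commutatorElement_def]; group]
    exact mul_mem (mul_mem (h1 (cEY ha.1 (h2 hb.2))) hb.2) ha.2⟩
  inv_mem' {a} ha := ⟨inv_mem ha.1, by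
    rw [show ⁅a⁻¹, v⁆ = ⁅a⁻¹, ⁅a, v⁆⁻¹⁆ * ⁅a, v⁆⁻¹ by simp only [commutatorElement_def]; group]
    exact mul_mem (h1 (cEY (inv_mem ha.1) (inv_mem (h2 ha.2)))) (inv_mem ha.2)⟩

theorem e1o [Finite K] {p : ℕ} [Fact p.Prime] [CharP F p] : E1OStmt C p := by
  intro p2 P hq hE hQ hc
  obtain ⟨A, B, h⟩ := hq.ex
  have two : (2 : F) ≠ 0 := fun e => p2 ((Nat.prime_dvd_prime_iff_eq Fact.out Nat.prime_two).1
    ((CharP.cast_eq_zero_iff F p 2).1 (by exact_mod_cast e)))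
  have cw : ∀ w ∈ W C, ∀ x ∈ P, w * x = x * w := fun w hw x hx =>
    (commutatorElement_eq_one_iff_mul_comm.1 (cEW (hE hx) hw)).symm
  have WP : W C ≤ P := fun w hw => h.cen w (cw w hw)
  have iW : Iv A (W C) := fun α hα w hw hW => h.g1 w hW _ (hc _ ⟨ext_mem α hw, fun x hx => by
    have hx' := ext_mem α⁻¹ hx
    rw [← ext_ext_inv α x, ← ext_map_mul α hw hx', ← ext_map_mul α hx' hw, cw w hW _ hx']⟩)
    (Rel.ext hα hw)
  have chW : ∀ c ∈ E C, (∀ x ∈ P, ⁅c, x⁆ ∈ W C) → c ∈ P := fun c hc k =>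
    h.chain [W C] (by simpa using ⟨WP, iW⟩) c ⟨k, fun w hw => cEW hc hw⟩
  have YP : Y C ≤ P := fun y hy => chW y (YE hy) fun x hx => cYE (hE hx) hy
  have fin : Iv A (Y C) → P = E C := fun iY => le_antisymm hE fun c hc =>
    h.chain [Y C, W C] (by simpa using ⟨⟨YP, iY⟩, WP, iW⟩) c
      ⟨fun x hx => cEE hc (hE hx), fun y hy => cEY hc hy, fun w hw => cEW hc hw⟩
  have i2 : Iv A {g | ∀ x ∈ P, ⁅g, x⁆ ∈ W C} := iW.commP
  by_cases c1 : ∃ r ∈ P, (∀ x ∈ P, ⁅r, x⁆ ∈ W C) ∧ r ∉ Y C ∧ ¬ NP r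
  · obtain ⟨r, hr, r1, r2, r3⟩ := c1
    have ru := mem_E.1 (hE hr)
    obtain ⟨c, d, e, n⟩ : ∃ c d : F, c • r.t + d • r.y = 0 ∧ ¬ (c = 0 ∧ d = 0) := by
      by_contra k
      exact r3 ⟨ru, fun c d e => by_contra fun n => k ⟨c, d, e, n⟩⟩
    have rt : r.t ≠ 0 := fun e0 => hQ fun x hx => by
      have := (cW (hE hr) (hE hx)).1 (r1 x hx)
      rw [e0, C.zero_cr, C.cr_comm] at this
      exact C.cr_eq_zero_odd two (fun e1 => r2 ⟨e0, ru, e1⟩) this.symm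
    have d0 : d ≠ 0 := by
      rintro rfl
      exact n ⟨by simpa [rt] using e, rfl⟩
    obtain ⟨b, hb⟩ : ∃ b : F, r.y = b • r.t := ⟨-(d⁻¹ * c), by
      rw [neg_smul, mul_smul, eq_neg_of_add_eq_zero_left e, smul_neg, neg_neg, inv_smul_smul₀ d0]⟩
    have k1 : ∀ x ∈ P, x.y = b • x.t := fun x hx => cr_inj two rt (by
      rw [(cW (hE hr) (hE hx)).1 (r1 x hx), hb, C.cr_smul, C.cr_smul, C.cr_comm])
    refine Or.inr (hq.of_conj (xu C b) fun g => ⟨fun k => ?_, fun hg => ?_⟩)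
    · obtain ⟨g1, g2⟩ := mem_J'.1 k
      have gu : g.u = 0 := by simpa [xu] using g1
      have gy : g.y = b • g.t := by simpa [xu, gu, ← sub_eq_add_neg, sub_eq_zero] using g2
      exact chW g gu fun x hx => (cW gu (hE hx)).2 (by
        rw [k1 x hx, gy, C.cr_smul, C.cr_smul, C.cr_comm])
    · simp [mem_J', xu, mem_E.1 (hE hg), k1 g hg]
  refine Or.inl (by_contra fun PE => PE (fin ?_))
  have np : ∀ r ∈ P, (∀ x ∈ P, ⁅r, x⁆ ∈ W C) → r ∉ Y C → NP r := fun r a b c =>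
    by_contra fun d => c1 ⟨r, a, b, c, d⟩
  by_cases c2 : ∀ r ∈ P, (∀ x ∈ P, ⁅r, x⁆ ∈ W C) → r ∈ Y C
  · exact i2.congr fun g hg => ⟨fun hy x hx => cYE (hE hx) hy, c2 g hg⟩
  push Not at c2
  obtain ⟨r, hr, r1, r2⟩ := c2
  have EN : E C ≤ normalizer (P : Set (U C)) := fun c hc =>
    mem_normalizer_of_comm fun x hx => YP (cEE hc (hE hx))
  refine h.tr _ (E C) (h.hv fun R hR => ⟨r, hR.le hr, np r hr r1 r2⟩).2 hE EN fun α hα _ v0 hv0 => ?_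
  rcases Set.eq_empty_or_nonempty {c | c ∈ E C ∧ ext α (c * v0 * c⁻¹) ∈ (Y C : Set (U C))} with
    e | ⟨c0, hc0, k0⟩
  · rw [e, Set.ncard_empty]; exact dvd_zero _
  have hv : c0 * v0 * c0⁻¹ ∈ P := (mem_normalizer_iff.1 (EN hc0) v0).1 hv0
  have WM : W C ≤ MM YP α := fun w hw => ⟨WY hw, WY (iW α hα w (WP hw) hw)⟩
  have e : {c | c ∈ E C ∧ ext α (c * v0 * c⁻¹) ∈ (Y C : Set (U C))} =
      (· * c0⁻¹) ⁻¹' (SS WM (fun _ h => h.1) (c0 * v0 * c0⁻¹) : Set (U C)) := by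
    ext c
    refine (and_congr_left' (mul_mem_cancel_right (inv_mem hc0)).symm).trans
      (and_congr_right fun hc => ?_)
    have m := cEE hc (hE hv)
    rw [show c * v0 * c⁻¹ = ⁅c * c0⁻¹, c0 * v0 * c0⁻¹⁆ * (c0 * v0 * c0⁻¹) by
      simp only [commutatorElement_def]; group, ext_map_mul α (YP m) hv]
    exact (mul_mem_cancel_right k0).trans (and_iff_right m).symm
  rw [e, Set.ncard_preimage_of_injective_subset_range (mul_left_injective _)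
    (by rw [(mul_right_surjective _).range_eq]; exact Set.subset_univ _), ← Nat.card_coe_set_eq]
  generalize c0 * v0 * c0⁻¹ = v at hv k0
  have back : ∀ g ∈ P, ext α g ∈ Y C → ∀ x ∈ P, ⁅g, x⁆ ∈ W C := fun g hg k => by
    have := i2 α⁻¹ (inv_mem hα) _ (ext_mem α hg) fun x hx => cYE (hE hx) k
    rwa [ext_inv_ext] at this
  have v2 := back v hv k0
  have v3 : ∀ x ∈ P, ⁅x, v⁆ ∈ W C := fun x hx => by
    rw [← commutatorElement_inv]; exact inv_mem (v2 x hx)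
  refine mul_card_dvd (U.isPGroup p) (fun x hx => ⟨hE hx, WM (v3 x hx)⟩) fun le => ?_
  by_cases vY : v ∈ Y C
  · exact PE (le_antisymm hE fun c hc => le ⟨hc, WM (cEY hc vY)⟩)
  have nv := (np v hv v2 vY).2
  have vt : v.t ≠ 0 := fun e => one_ne_zero (nv 1 0 (by simp [e])).1
  have MW : MM YP α ≤ W C := fun m hm => by
    obtain ⟨y, hy⟩ := Finite.injective_iff_surjective.1 (cr_inj (C := C) two vt) (-m.x)
    have cE : xy C y ∈ E C := rfl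
    have ex : ⁅xy C y, v⁆.x = m.x := by rw [cx cE (hE hv)]; simp [xy, hy]
    obtain ⟨m1, m2, m3⟩ := mem_Y.1 hm.1
    obtain ⟨n1, n2, n3⟩ := mem_Y.1 (cEE cE (hE hv))
    have w : ⁅xy C y, v⁆ * m⁻¹ ∈ W C := by simp [mem_W, m1, m2, m3, n3, ex]
    have := v3 _ (le ⟨cE, (mul_mem_cancel_right (inv_mem hm)).1 (WM w)⟩)
    exact ⟨m1, m2, m3, ex ▸ this.2.2.2⟩
  have xY : ∀ x, xx C x ∈ Y C := fun x => ⟨rfl, rfl, rfl⟩
  have yeq : ∀ g ∈ P, ∀ k ∈ P, g.t = k.t → g.y = k.y := fun g hg k hk e => cr_inj two vt (by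
    rw [(cW (hE hv) (hE hg)).1 (v2 g hg), (cW (hE hv) (hE hk)).1 (v2 k hk), e])
  have inj : Function.Injective fun x => (ext α⁻¹ (xx C x)).t := fun a b e => by
    have ha := ext_mem α⁻¹ (YP (xY a))
    have hb := ext_mem α⁻¹ (YP (xY b))
    have ey := yeq _ ha _ hb e
    have e1 : ext α (ext α⁻¹ (xx C a) * (ext α⁻¹ (xx C b))⁻¹) = xx C a * (xx C b)⁻¹ := by
      rw [ext_map_mul α ha (inv_mem hb), ext_map_inv α hb, ext_ext_inv, ext_ext_inv]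
    have m : ext α⁻¹ (xx C a) * (ext α⁻¹ (xx C b))⁻¹ ∈ W C := MW ⟨by
      simp only at e
      simp [mem_Y, e, ey, mem_E.1 (hE ha), mem_E.1 (hE hb)],
      e1 ▸ mul_mem (xY a) (inv_mem (xY b))⟩
    have := (e1 ▸ iW α hα _ (WP m) m : xx C a * (xx C b)⁻¹ ∈ W C).2.2.2
    simpa [xx, ← sub_eq_add_neg, sub_eq_zero] using this
  have iso : ∀ g ∈ P, ∀ k ∈ P, C.cr g.t k.y = C.cr k.t g.y := fun g hg k hk => by
    obtain ⟨x, e⟩ := Finite.injective_iff_surjective.1 inj g.t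
    have hx := ext_mem α⁻¹ (YP (xY x))
    have := (cW (hE hx) (hE hk)).1 (back _ hx (by rw [ext_ext_inv]; exact xY x) k hk)
    rwa [yeq _ hx g hg e, show (ext α⁻¹ (xx C x)).t = g.t from e] at this
  obtain ⟨t1, y1, t2, y2, e1, e2, e3⟩ := noniso (C := C) (f := v.y / v.t) vt fun e => by
    obtain ⟨c, hc⟩ := C.fix _ e
    have := (nv c (-1) (by rw [Algebra.smul_def, hc, div_mul_cancel₀ _ vt]; simp)).2
    simp at this
  rw [div_mul_cancel₀ _ vt] at e1 e2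
  have mem : ∀ t y, C.cr t v.y = C.cr v.t y → (⟨t, 0, y, 0, 0, 0⟩ : U C) ∈ P := fun t y e =>
    le ⟨rfl, WM ((cW (g := ⟨t, 0, y, 0, 0, 0⟩) rfl (hE hv)).2 e)⟩
  exact e3 (iso _ (mem t1 y1 e1) _ (mem t2 y2 e2))

end Cfsg.Agent.H61.D4E1O
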