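import Cfsg.Agent.H37.FkTF

/-! Project FK, piece FR4. -/

set_option autoImplicit false
set_option linter.unusedSectionVars false

namespace Cfsg.Agent.H61.FkFr4

open Cfsg Subgroup Cfsg.Agent.H37.FK

universe u

section General

variable {G : Type*} [Group G] {H : Type*} [Group H]

theorem o2_top [Finite G] (h : NAS G) : O2 (⊤ : Subgroup G) = ⊤ := by
  have hn : (O2 (⊤ : Subgroup G)).Normal := by
    refine ⟨fun x hx g => ?_⟩
    have : (O2 (⊤ : Subgroup G)) ≤ (O2 ⊤).comap (MulAut.conj g).toMonoidHom :=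
      (closure_le _).2 fun y hy => subset_closure ⟨trivial, by
        rw [show (MulAut.conj g).toMonoidHom y = MulAut.conj g y from rfl, MulEquiv.orderOf_eq]
        exact hy.2⟩
    exact this hx
  have := h.1
  refine (IsSimpleGroup.eq_bot_or_eq_top_of_normal _ hn).resolve_left fun e => h.2 ?_
  have hp : IsPGroup 2 G := by
    rw [IsPGroup.iff_card]
    by_contra hc
    obtain ⟨p, hp, hd, h2⟩ : ∃ p : ℕ, p.Prime ∧ p ∣ Nat.card G ∧ p ≠ 2 := by
      by_contra! hq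
      exact hc ⟨_, Nat.eq_prime_pow_of_unique_prime_dvd Nat.card_pos.ne' fun {d} a b => hq d a b⟩
    have := Fact.mk hp
    obtain ⟨x, hx⟩ := exists_prime_orderOf_dvd_card' p hd
    have h1 : x ∈ O2 (⊤ : Subgroup G) := subset_closure ⟨trivial, hx ▸ hp.odd_of_ne_two h2⟩
    rw [e, mem_bot] at h1
    rw [h1, orderOf_one] at hx
    exact hp.one_lt.ne hx
  have := hp.isNilpotent
  exact ⟨⟨fun a b => ((IsSimpleGroup.comm_iff_isSolvable (G := G)).2 inferInstance a b)⟩⟩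

theorem odd_map (f : G →* H) {g : G} (h : Odd (orderOf g)) : Odd (orderOf (f g)) :=
  Odd.of_dvd_nat h (orderOf_map_dvd f g)

/-- the image of `O²` -/
theorem o2_map {L U : Subgroup G} (f : L →* H) (h : ∀ g ∈ U, Odd (orderOf g) → g ∈ L) {y : G}
    (hy : y ∈ O2 U) : ∃ hy : y ∈ L, f ⟨y, hy⟩ ∈ O2 (⊤ : Subgroup H) := by
  have : O2 U ≤ ((O2 (⊤ : Subgroup H)).comap f).map L.subtype := by
    refine (closure_le _).2 fun g hg => ⟨⟨g, h g hg.1 hg.2⟩, ?_, rfl⟩
    exact subset_closure ⟨trivial, odd_map f (by rw [← Subgroup.orderOf_coe]; exact hg.2)⟩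
  obtain ⟨⟨x, hx⟩, a, rfl⟩ := this hy
  exact ⟨hx, a⟩

theorem split [Finite G] (g : G) :
    ∃ (k m : ℕ) (a b : ℤ), Odd (orderOf (g ^ k)) ∧ Two (g ^ m) ∧ g = (g ^ k) ^ a * (g ^ m) ^ b := by
  obtain ⟨k, m, hm, e⟩ := Nat.exists_eq_two_pow_mul_odd (orderOf_pos g).ne'
  have c : Nat.Coprime (2 ^ k) m := Nat.Coprime.pow_left k (Nat.coprime_two_left.2 hm)
  obtain ⟨a, b, hab⟩ := Nat.isCoprime_iff_coprime.2 c
  refine ⟨2 ^ k, m, a, b, ?_, ⟨k, ?_⟩, ?_⟩
  · refine Odd.of_dvd_nat hm (orderOf_dvd_of_pow_eq_one ?_)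
    rw [← pow_mul, ← e, pow_orderOf_eq_one]
  · rw [← pow_mul, mul_comm, ← e, pow_orderOf_eq_one]
  · rw [← zpow_natCast, ← zpow_natCast g m, ← zpow_mul, ← zpow_mul, ← zpow_add, mul_comm _ a,
      mul_comm _ b, hab, zpow_one]

/-- Burnside in a factor group -/
theorem burn [Finite G] (f : G →* H) (hf : Function.Surjective f) (S : Sylow 2 G)
    (hk : f.ker ≤ S) (A : Set G) (dec : ∀ s ∈ (S : Subgroup G), ∃ a ∈ A, f s = f a)
    (ab : ∀ a ∈ A, ∀ b ∈ A, a * b = b * a)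
    (odd : ∀ g, Odd (orderOf g) → g ∈ normalizer ((S : Subgroup G) : Set G) →
      ∀ a ∈ A, g * a = a * g) :
    ∀ s ∈ (S : Subgroup G), f s ∈ O2 (⊤ : Subgroup H) → f s = 1 := by
  have : Finite H := Finite.of_surjective f hf
  let P : Sylow 2 H := S.mapSurjective hf
  have mP : ∀ x, f x ∈ (P : Subgroup H) ↔ x ∈ (S : Subgroup G) := fun x => by
    change x ∈ ((S : Subgroup G).map f).comap f ↔ _
    rw [comap_map_eq, sup_eq_left.2 hk]
  have hP : normalizer ((P : Subgroup H) : Set H) ≤ centralizer ((P : Subgroup H) : Set H) := by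
    intro x hx
    obtain ⟨g, rfl⟩ := hf x
    have hg : g ∈ normalizer ((S : Subgroup G) : Set G) := fun y => by
      have := hx (f y)
      simp only [SetLike.mem_coe] at this ⊢
      rw [← mP, this, ← map_inv, ← map_mul, ← map_mul, mP]
    obtain ⟨k, m, a, b, h1, h2, e⟩ := split g
    rw [e, map_mul, map_zpow, map_zpow]
    refine mul_mem (zpow_mem ?_ _) (zpow_mem ?_ _)
    · rintro _ ⟨s, hs, rfl⟩
      obtain ⟨c, hc, e⟩ := dec s hs
      rw [e, ← map_mul, ← map_mul, odd _ h1 (pow_mem hg k) c hc]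
    · have hs : g ^ m ∈ (S : Subgroup G) := by
        have := h2.zpowers.inf_normalizer_sylow S
        have h3 : g ^ m ∈ zpowers (g ^ m) ⊓ normalizer ((S : Subgroup G) : Set G) :=
          ⟨mem_zpowers _, pow_mem hg m⟩
        exact (this.le h3).2
      rintro _ ⟨s, hs', rfl⟩
      obtain ⟨c, hc, e⟩ := dec s hs'
      obtain ⟨d, hd, e'⟩ := dec _ hs
      rw [e, e', ← map_mul, ← map_mul, ab c hc d hd]
  intro s hs ho
  have h1 : O2 (⊤ : Subgroup H) ≤ (MonoidHom.transferSylow P hP).ker := by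
    refine (closure_le _).2 fun g hg => ?_
    have t : Two (MonoidHom.transferSylow P hP g) := P.isPGroup' _
    exact t.eq_one (odd_map _ hg.2)
  exact (disjoint_def.1 (MonoidHom.ker_transferSylow_isComplement' P hP).disjoint) (h1 ho)
    ((mP s).2 hs)

/-- coprime action on an abelian 2-group -/
theorem cop {A : Subgroup G} (ab : ∀ a ∈ A, ∀ b ∈ A, a * b = b * a) (two : ∀ a ∈ A, Two a)
    {g : G} (ho : Odd (orderOf g)) (hn : ∀ a ∈ A, g * a * g⁻¹ ∈ A)
    (h1 : ∀ a ∈ A, a * a = 1 → g * a = a * g) : ∀ a ∈ A, g * a = a * g := by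
  have key : ∀ k : ℕ, ∀ a ∈ A, a ^ 2 ^ k = 1 → g * a = a * g := by
    intro k
    induction k with
    | zero => intro a _ e; rw [pow_zero, pow_one] at e; rw [e, mul_one, one_mul]
    | succ k ih =>
      intro a ha e
      have e2 := ih (a * a) (mul_mem ha ha) (by rw [← pow_two, ← pow_mul, ← pow_succ', e])
      have hc : g * a * g⁻¹ * a⁻¹ ∈ A := mul_mem (hn a ha) (inv_mem ha)
      have c2 : g * a * g⁻¹ * a⁻¹ * (g * a * g⁻¹ * a⁻¹) = 1 := by
        have := ab _ (hn a ha) _ (inv_mem ha)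
        calc _ = g * a * g⁻¹ * (a⁻¹ * (g * a * g⁻¹)) * a⁻¹ := by group
          _ = g * (a * a) * g⁻¹ * (a * a)⁻¹ := by rw [← this]; group
          _ = 1 := by rw [e2]; group
      have c3 := h1 _ hc c2
      generalize hcd : g * a * g⁻¹ * a⁻¹ = c at c2 c3
      have e3 : g * a = c * a * g := by rw [← hcd]; group
      have e4 : ∀ n : ℕ, g ^ n * a = c ^ n * a * g ^ n := by
        intro n
        induction n with
        | zero => simp
        | succ n ih =>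
          have cc : Commute g c := c3
          rw [pow_succ', mul_assoc, ih, ← mul_assoc, ← mul_assoc, (cc.pow_right n).eq,
            mul_assoc (c ^ n), e3, pow_succ c]
          simp only [mul_assoc]
      have e5 := e4 (orderOf g)
      rw [pow_orderOf_eq_one, one_mul, mul_one, eq_comm, mul_eq_right] at e5
      have : c = 1 := (Two.of_sq c2).eq_one (Odd.of_dvd_nat ho (orderOf_dvd_of_pow_eq_one e5))
      rw [e3, this, one_mul]
  intro a ha
  obtain ⟨k, e⟩ := two a ha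
  exact key k a ha e

theorem maps_mul {g h : G} {A B C : Subgroup G} (a : Maps h A B) (b : Maps g B C) :
    Maps (g * h) A C := fun x => by
  rw [a x, b]
  simp only [mul_assoc, mul_inv_rev]

theorem maps_inv {g : G} {A B : Subgroup G} (a : Maps g A B) : Maps g⁻¹ B A := fun x => by
  rw [a]
  simp [mul_assoc]

end General

variable {K : Type u} [Group K] (Fr : Frame K)

theorem ind_mul {g h : K} {π σ : Equiv.Perm Fr.ι} (a : Fr.Ind g π) (b : Fr.Ind h σ) :
    Fr.Ind (g * h) (π * σ) := fun i => maps_mul (b i) (a (σ i))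

theorem ind_one : Fr.Ind 1 1 := fun i x => by simp

theorem ind_inv {g : K} {π : Equiv.Perm Fr.ι} (a : Fr.Ind g π) : Fr.Ind g⁻¹ π⁻¹ := fun i => by
  have := maps_inv (a (π⁻¹ i))
  rwa [show π (π⁻¹ i) = i by simp] at this

theorem ind_pow {g : K} {π : Equiv.Perm Fr.ι} (a : Fr.Ind g π) (n : ℕ) : Fr.Ind (g ^ n) (π ^ n) := by
  induction n with
  | zero => simpa using ind_one Fr
  | succ n ih => rw [pow_succ, pow_succ]; exact ind_mul Fr ih a

theorem J_inj (hq : SlqStmt) {i j : Fr.ι} (h : Fr.J i ≤ Fr.J j) : i = j := by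
  by_contra hij
  obtain ⟨Q⟩ : Nonempty (Sylow 2 (SL2 (Fr.F i))) := inferInstance
  obtain ⟨a, -, b, -, hab⟩ := (hq _ (Fr.odd i) Q).1
  obtain ⟨c, hc⟩ := h (⟨b, rfl⟩ : Fr.φ i b ∈ Fr.J i)
  refine hab (Fr.inj i ?_)
  rw [map_mul, map_mul, ← hc, Fr.comm i j hij]

theorem ind_uniq (hq : SlqStmt) {g : K} {π σ : Equiv.Perm Fr.ι} (a : Fr.Ind g π)
    (b : Fr.Ind g σ) : π = σ := by
  ext i
  refine J_inj Fr hq fun x hx => ?_
  have := maps_mul (maps_inv (a i)) (b i) x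
  simpa [hx] using this

theorem fix_z (hq : SlqStmt) {g : K} {i : Fr.ι} (a : Maps g (Fr.J i) (Fr.J i)) :
    g * Fr.z i = Fr.z i * g := by
  obtain ⟨Q⟩ : Nonempty (Sylow 2 (SL2 (Fr.F i))) := inferInstance
  obtain ⟨h1, h2⟩ := (hq _ (Fr.odd i) Q).2.1
  obtain ⟨c, hc⟩ := (a (Fr.z i)).1 ⟨-1, rfl⟩
  have c2 : c * c = 1 := Fr.inj i (by
    rw [map_mul, hc, conj_mul, Frame.z, ← map_mul, neg_mul_neg, one_mul, map_one, mul_one,
      mul_inv_cancel])
  rcases h2 c c2 with rfl | rfl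
  · rw [map_one, eq_comm, conj_eq_one_iff, Frame.z, ← map_one (Fr.φ i)] at hc
    exact absurd (Fr.inj i hc) h1
  · exact (eq_mul_inv_iff_mul_eq.1 hc).symm

/-- 2-elements of `O²` act on `Q i` as inner automorphisms -/
theorem inner [Finite K] (hq : SlqStmt) {R : Subgroup K} {i : Fr.ι} (hR : H98.SylIn 2 R (Fr.J i))
    {U : Subgroup K} (h : ∀ g ∈ U, Odd (orderOf g) → g ∈ normalizer (R : Set K)) {y : K}
    (hy : y ∈ O2 U) (t : Two y) : ∃ q ∈ R, ∀ x ∈ R, y * x * y⁻¹ = q * x * q⁻¹ := by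
  let Q : Sylow 2 (SL2 (Fr.F i)) :=
    { R.comap (Fr.φ i) with
      isPGroup' := hR.isPGroup.comap_of_injective _ (Fr.inj i)
      is_maximal' := fun {Q'} h1 h2 => by
        have := hR.eq_of_le (U := Q'.map (Fr.φ i)) (map_le_range _ _) (h1.map _) (by
          intro x hx
          obtain ⟨c, rfl⟩ := hR.le hx
          exact mem_map_of_mem _ (h2 hx))
        refine le_antisymm (fun x hx => ?_) h2
        change Fr.φ i x ∈ R
        rw [← this]
        exact mem_map_of_mem _ hx }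
  let e0 : Q →* R := ((Fr.φ i).comp (Q : Subgroup _).subtype).codRestrict R fun x => x.2
  have hb : Function.Bijective e0 := by
    constructor
    · intro a b hab
      exact Subtype.ext (Fr.inj i (congrArg Subtype.val hab))
    · rintro ⟨x, hx⟩
      obtain ⟨c, rfl⟩ := hR.le hx
      exact ⟨⟨c, hx⟩, rfl⟩
  let e : Q ≃* R := MulEquiv.ofBijective e0 hb
  let θ : normalizer (R : Set K) →* MulAut Q :=
    (MulAut.congr e.symm).toMonoidHom.comp R.normalizerMonoidHom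
  obtain ⟨hy', ho⟩ := o2_map θ h hy
  have t' : Two (⟨y, hy'⟩ : normalizer (R : Set K)) := by
    obtain ⟨k, hk⟩ := t
    exact ⟨k, Subtype.ext hk⟩
  obtain ⟨q, hq⟩ := (hq _ (Fr.odd i) Q).2.2.2.1 _ ho (t'.map θ)
  refine ⟨e q, (e q).2, fun x hx => ?_⟩
  have := congrArg (fun α : MulAut Q => ((e (α (e.symm ⟨x, hx⟩)) : R) : K)) hq
  simpa [θ, MulAut.congr] using this

theorem prod_inner {R : Fr.ι → Subgroup K} (hR : ∀ i, R i ≤ Fr.J i) {T : Subgroup K}
    (hT : ∀ i, R i ≤ T) {y : K} (h : ∀ i, ∃ q ∈ R i, ∀ x ∈ R i, y * x * y⁻¹ = q * x * q⁻¹) :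
    ∃ q ∈ T, ∀ i, ∀ x ∈ R i, y * x * y⁻¹ = q * x * q⁻¹ := by
  have key : ∀ s : Finset Fr.ι, ∃ q ∈ T, (∀ i ∈ s, ∀ x ∈ R i, y * x * y⁻¹ = q * x * q⁻¹) ∧
      ∀ i ∉ s, ∀ x ∈ R i, q * x * q⁻¹ = x := by
    intro s
    induction s using Finset.induction_on with
    | empty => exact ⟨1, one_mem _, by simp, by simp⟩
    | insert j s hj ih =>
      obtain ⟨q, hq, a, b⟩ := ih
      obtain ⟨p, hp, c⟩ := h j
      have d : ∀ i, i ≠ j → ∀ x ∈ R i, p * x * p⁻¹ = x := fun i hi x hx => by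
        obtain ⟨u, rfl⟩ := hR i hx
        obtain ⟨v, rfl⟩ := hR j hp
        rw [← Fr.comm i j hi, mul_inv_cancel_right]
      have e : ∀ x, q * p * x * (q * p)⁻¹ = q * (p * x * p⁻¹) * q⁻¹ := fun x => by group
      refine ⟨q * p, mul_mem hq (hT j hp), fun i hi x hx => ?_, fun i hi x hx => ?_⟩
      · rw [e]
        rcases Finset.mem_insert.1 hi with rfl | hi
        · rw [b i hj _ (mul_mem (mul_mem hp hx) (inv_mem hp)), c x hx]
        · rw [d i (fun h => hj (h ▸ hi)) x hx, a i hi x hx]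
      · rw [Finset.mem_insert, not_or] at hi
        rw [e, d i hi.1 x hx, b i hi.2 x hx]
  obtain ⟨q, hq, a, -⟩ := key Finset.univ
  exact ⟨q, hq, fun i => a i (Finset.mem_univ i)⟩

/-- the centraliser of the `S ∩ J i` in `S` -/
def cenS (S : Subgroup K) : Subgroup K where
  carrier := {a | a ∈ S ∧ Fr.Cen S a}
  mul_mem' {a b} ha hb := ⟨mul_mem ha.1 hb.1, fun i y hy => by
    rw [mul_assoc, hb.2 i y hy, ← mul_assoc, ha.2 i y hy, mul_assoc]⟩
  one_mem' := ⟨one_mem _, fun i y _ => by simp⟩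
  inv_mem' {a} ha := ⟨inv_mem ha.1, fun i y hy => by
    rw [inv_mul_eq_iff_eq_mul, ← mul_assoc, ha.2 i y hy, mul_inv_cancel_right]⟩

theorem fr4 (hQ : QuotStmt.{u}) (hD : DichStmt.{u}) (hq : SlqStmt) (h2 : Fr2Stmt.{u})
    (h3 : Fr3Stmt.{u}) : Fr4Stmt.{u} := by
  intro K _ _ hK Fr S hS hS2 ok
  refine nsc_of_one S fun T hT h0 => ?_
  have hX := xc_inX hT
  obtain ⟨i0, hi0⟩ := h3 K hK ok.d8 Fr S hS hS2 _ hX (by
    obtain ⟨⟨x, hx⟩, h1⟩ := (ne_bot_iff_exists_ne_one).1 h0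
    exact ⟨x, mem_inX hx, fun e => h1 (Subtype.ext e)⟩)
  have hA : {x | x ∈ Fr.J i0 ∧ Two x} ⊆ InX T := fun x hx => hi0 x hx.1 hx.2
  have QT : ∀ i, (S : Subgroup K) ⊓ Fr.J i ≤ T := by
    rintro i x ⟨hx, a, rfl⟩
    exact InX.mem hT ((ok.reachJ i0 i a (Two.of_mem S.isPGroup' hx)).mem hD hX hA) hx
  have cov : ∀ π ∈ Fr.W, ∃ s ∈ T, Fr.Ind s π := fun π hπ => by
    obtain ⟨s, hs, a, b⟩ := hS.cover _ hX (fun k => (ok.reachN i0 k).mem hD hX hA) π hπ
    exact ⟨s, InX.mem hT a hs, b⟩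
  have SN : (S : Subgroup K) ≤ normalizer (T : Set K) := fun s hs =>
    mem_normalizer_fintype fun x hx => sc_normal hT hs hx
  have o1 : ∀ g ∈ normalizer (T : Set K), Odd (orderOf g) → Fr.Ind g 1 := by
    intro g hg ho
    obtain ⟨π, hπ⟩ := h2 K Fr S hS hS2 ok.ne ok.cases T hT.1 (fun s hs x hx => sc_normal hT hs hx)
      QT g hg
    have : π = 1 := by
      refine ok.f3 π (Odd.of_dvd_nat ho (orderOf_dvd_of_pow_eq_one ?_)) fun x hx => ?_
      · have := ind_pow Fr hπ (orderOf g)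
        rw [pow_orderOf_eq_one] at this
        exact ind_uniq Fr hq this (ind_one Fr)
      · obtain ⟨s, hs, a⟩ := cov x hx
        obtain ⟨σ, hσ, b⟩ := hS.perm _ (hT.1 ((hg s).1 hs))
        rw [ind_uniq Fr hq (ind_mul Fr (ind_mul Fr hπ a) (ind_inv Fr hπ)) b]
        exact hσ
    rwa [this] at hπ
  have oQ : ∀ i, ∀ g ∈ normalizer (T : Set K), Odd (orderOf g) →
      g ∈ normalizer (((S : Subgroup K) ⊓ Fr.J i : Subgroup K) : Set K) := fun i g hg ho =>
    mem_normalizer_fintype fun x hx =>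
      ⟨hT.1 ((hg x).1 (QT i hx)), (o1 g hg ho i x).1 hx.2⟩
  have YN : O2 (normalizer (T : Set K)) ≤ normalizer (T : Set K) :=
    (closure_le _).2 fun g hg => hg.1
  have sup : ∀ s ∈ (S : Subgroup K), ∃ t ∈ T, ∃ y ∈ O2 (normalizer (T : Set K)), t * y = s := by
    intro s hs
    have := hQ K S T hT ⟨hs, by rw [o2_top hK]; trivial⟩
    rw [← SetLike.mem_coe, coe_mul_of_right_le_normalizer_left _ _ YN] at this
    exact this
  have dec : ∀ s ∈ (S : Subgroup K), ∃ t ∈ T, ∃ a ∈ cenS Fr S, s = t * a := by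
    intro s hs
    obtain ⟨t, ht, y, hy, rfl⟩ := sup s hs
    have yS : y ∈ (S : Subgroup K) := (mul_mem_cancel_left (hT.1 ht)).1 hs
    obtain ⟨q, hq', a⟩ := prod_inner Fr (R := fun i => (S : Subgroup K) ⊓ Fr.J i)
      (fun i => inf_le_right) QT fun i =>
        inner Fr hq (hS.syl i) (oQ i) hy (Two.of_mem S.isPGroup' yS)
    refine ⟨t * q, mul_mem ht hq', q⁻¹ * y, ⟨mul_mem (inv_mem (hT.1 hq')) yS, fun i x hx => ?_⟩,
      by group⟩
    calc q⁻¹ * y * x = q⁻¹ * (y * x * y⁻¹) * y := by group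
      _ = _ := by rw [a i x hx]; group
  have ab : ∀ a ∈ cenS Fr S, ∀ b ∈ cenS Fr S, a * b = b * a := fun a ha b hb =>
    hS2.ab a ha.1 b hb.1 ha.2 hb.2
  have cen : ∀ g ∈ normalizer (T : Set K), Odd (orderOf g) →
      (∀ x ∈ (S : Subgroup K), g * x * g⁻¹ ∈ (S : Subgroup K)) →
      ∀ a ∈ cenS Fr S, g * a = a * g := by
    intro g hg ho hn
    refine cop ab (fun a ha => Two.of_mem S.isPGroup' ha.1) ho (fun a ha => ⟨hn a ha.1, ?_⟩) ?_
    · intro i x hx
      have hx' : g⁻¹ * x * g⁻¹⁻¹ ∈ (S : Subgroup K) ⊓ Fr.J i := (inv_mem (oQ i g hg ho) x).1 hx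
      calc g * a * g⁻¹ * x = g * (a * (g⁻¹ * x * g⁻¹⁻¹)) * g⁻¹ := by group
        _ = _ := by rw [ha.2 i _ hx']; group
    · intro a ha e
      have : closure (Set.range Fr.z) ≤ centralizer {g} := by
        refine (closure_le _).2 ?_
        rintro _ ⟨i, rfl⟩
        exact mem_centralizer_singleton_iff.2 (fix_z Fr hq (o1 g hg ho i)).symm
      exact (mem_centralizer_singleton_iff.1 (this (hS2.om a ha.1 ha.2 e))).symm
  let f := QuotientGroup.mk' (T.subgroupOf (normalizer (T : Set K)))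
  have f1 : ∀ x : normalizer (T : Set K), f x = 1 ↔ (x : K) ∈ T := fun x => by
    rw [QuotientGroup.mk'_apply, QuotientGroup.eq_one_iff, mem_subgroupOf]
  have key := burn f (QuotientGroup.mk'_surjective _) (S.subtype SN)
    (fun x hx => hT.1 ((f1 x).1 hx)) {a | (a : K) ∈ cenS Fr S}
    (fun s hs => by
      obtain ⟨t, ht, a, ha, e⟩ := dec s hs
      refine ⟨⟨a, SN ha.1⟩, ha, ?_⟩
      rw [show s = ⟨t, le_normalizer ht⟩ * ⟨a, SN ha.1⟩ from Subtype.ext e, map_mul,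
        (f1 _).2 ht, one_mul])
    (fun a ha b hb => Subtype.ext (ab a ha b hb))
    (fun g ho hg a ha => Subtype.ext (cen g g.2 (by rwa [Subgroup.orderOf_coe])
      (fun x hx => (hg ⟨x, SN hx⟩).1 hx) a ha))
  intro s hs
  obtain ⟨t, ht, y, hy, rfl⟩ := sup s hs
  have yS : y ∈ (S : Subgroup K) := (mul_mem_cancel_left (hT.1 ht)).1 hs
  obtain ⟨hy', ho⟩ := o2_map f (fun g hg _ => hg) hy
  exact mul_mem ht ((f1 _).1 (key ⟨y, hy'⟩ yS ho))

end Cfsg.Agent.H61.FkFr4
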