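import Mathlib
import Cfsg.Agent.H71.FSDefs
import Cfsg.Agent.H11.Kernel
import Cfsg.Agent.S0872

/-!
# Project FS2, piece P2: the Brauer-Witt step `C1 → C2 → PA`
-/

set_option autoImplicit false

namespace Cfsg.Agent.H61.FsPA

open Cfsg Subgroup H23 H71.FS2
open scoped ComplexConjugate

universe u

variable {G : Type u} [Group G]

theorem avg_eq {A B : Subgroup G} [Fintype A] [Fintype B] (h : A ≤ B) (F : B → ℂ)
    (hb : ∀ b : B, ∃ a₀ : A, ∀ a : A, F (b * ⟨a, h a.2⟩) = F ⟨(a₀ * a : A), h (a₀ * a).2⟩) :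
    (Nat.card A : ℂ)⁻¹ * ∑ a : A, F ⟨a, h a.2⟩ = (Nat.card B : ℂ)⁻¹ * ∑ b : B, F b := by
  have h1 : ∀ b : B, ∑ a : A, F (b * ⟨a, h a.2⟩) = ∑ a : A, F ⟨a, h a.2⟩ := by
    intro b
    obtain ⟨a₀, e⟩ := hb b
    simp only [e]
    exact Fintype.sum_equiv (Equiv.mulLeft a₀) _ _ fun _ => rfl
  have h2 : ∀ a : A, ∑ b : B, F (b * ⟨a, h a.2⟩) = ∑ b : B, F b := fun a =>
    Fintype.sum_equiv (Equiv.mulRight _) _ _ fun _ => rfl
  have h3 : (Nat.card B : ℂ) * ∑ a : A, F ⟨a, h a.2⟩ = (Nat.card A : ℂ) * ∑ b : B, F b := by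
    calc (Nat.card B : ℂ) * ∑ a : A, F ⟨a, h a.2⟩
        = ∑ b : B, ∑ a : A, F (b * ⟨a, h a.2⟩) := by
          simp only [h1, Finset.sum_const, Finset.card_univ, nsmul_eq_mul, Nat.card_eq_fintype_card]
      _ = ∑ a : A, ∑ b : B, F (b * ⟨a, h a.2⟩) := Finset.sum_comm
      _ = _ := by
          simp only [h2, Finset.sum_const, Finset.card_univ, nsmul_eq_mul, Nat.card_eq_fintype_card]
  have hA := H11.card_ne_zero A
  have hB := H11.card_ne_zero B
  field_simp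
  linear_combination h3

theorem scal {B : Type u} [Group B] [Finite B] (χ : IrrCharacter B) {d : B} {ν : ℂ} (hν : ‖ν‖ = 1)
    (e : χ.1 d = ν * χ.1 1) (x : B) : χ.1 (d * x) = ν * χ.1 x := by
  have h1 := H11.irr_apply_one_ne_zero χ.2
  have hd : d ∈ H11.charCenter χ.1 :=
    (H11.mem_charCenter_iff (H11.irr_isCharacter χ)).2 (by rw [e, norm_mul, hν, one_mul])
  rw [H11.apply_mul_of_mem_charCenter h1 hd, e]
  field_simp

variable [Finite G]

/-- Restriction to a supplement of a set of scalar elements. -/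
theorem inner_res {A B : Subgroup G} [Fintype A] [Fintype B] (h : A ≤ B) (χ θ : IrrCharacter B)
    (hb : ∀ b : B, ∃ (d : B) (a : A) (ν : ℂ), (b : G) = d * a ∧ ‖ν‖ = 1 ∧ χ.1 d = ν * χ.1 1 ∧
      θ.1 d = ν * θ.1 1) :
    classInner (fun a : A => χ.1 ⟨a, h a.2⟩) (fun a : A => θ.1 ⟨a, h a.2⟩) = classInner χ.1 θ.1 := by
  refine avg_eq h (fun b => χ.1 b * conj (θ.1 b)) fun b => ?_
  obtain ⟨d, a₀, ν, e, hν, e1, e2⟩ := hb b
  refine ⟨a₀, fun a => ?_⟩
  have : b * ⟨a, h a.2⟩ = d * ⟨(a₀ * a : A), h (a₀ * a).2⟩ := Subtype.ext (by simp [e, mul_assoc])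
  have hn : ν * conj ν = 1 := by rw [Complex.mul_conj, Complex.normSq_eq_norm_sq, hν]; simp
  simp only [this, scal χ hν e1, scal θ hν e2, map_mul]
  linear_combination (χ.1 _ * conj (θ.1 _)) * hn

/-- The reduction step. -/
theorem red {π : G →* ℤˣ} {L H K : Subgroup G} (h₁ : L ≤ H) (h₂ : H ≤ K) (hL : HasOdd π L)
    {ψ : IrrCharacter (ev π K)} (hψ : SC π K ψ.1) {θ : IrrCharacter (ev π H)} (hθ : SC π H θ.1)
    (hodd : Odd (mult (ev_mono h₂) ψ θ))
    (hb : ∀ b : ev π H, ∃ (d : ev π H) (a : ev π L) (ν : ℂ), (b : G) = d * a ∧ ‖ν‖ = 1 ∧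
      ∀ χ : IrrCharacter (ev π H), SC π H χ.1 → Odd (mult (ev_mono h₂) ψ χ) →
        χ.1 d = ν * χ.1 1) :
    ∃ θ' : IrrCharacter (ev π L), SC π L θ'.1 ∧ Odd (mult (ev_mono (h₁.trans h₂)) ψ θ') := by
  classical
  haveI := Fintype.ofFinite (ev π L)
  haveI := Fintype.ofFinite (ev π H)
  haveI := Fintype.ofFinite (IrrCharacter (ev π H))
  have key : ∀ χ : IrrCharacter (ev π H), SC π H χ.1 → Odd (mult (ev_mono h₂) ψ χ) →
      classInner (fun a : ev π L => χ.1 ⟨a, ev_mono h₁ a.2⟩)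
        (fun a : ev π L => θ.1 ⟨a, ev_mono h₁ a.2⟩) = classInner χ.1 θ.1 := fun χ a b =>
    inner_res (ev_mono h₁) χ θ fun x => by
      obtain ⟨d, l, ν, e, hν, h⟩ := hb x
      exact ⟨d, l, ν, e, hν, h χ a b, h θ hθ hodd⟩
  let θ' : IrrCharacter (ev π L) := ⟨fun a => θ.1 ⟨a, ev_mono h₁ a.2⟩,
    H11.isIrrCharacter_of_classInner_self
      (H11.isCharacter_restrict_of_le (H11.irr_isCharacter θ) _)
      ((key θ hθ hodd).trans (H11.classInner_irr_self θ.2))⟩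
  have hθ' : SC π L θ'.1 := fun γ hγ ho g g' e =>
    hθ γ (h₁ hγ) ho ⟨g, ev_mono h₁ g.2⟩ ⟨g', ev_mono h₁ g'.2⟩ e
  refine ⟨θ', hθ', ?_⟩
  obtain ⟨γ, hγ, ho⟩ := hL
  by_contra hcon
  rw [mult_trans (ev_mono h₁) (ev_mono h₂)] at hcon
  have h1 : mult (ev_mono h₁) θ θ' = 1 := mult_eq_one_of_res_eq _ fun _ => rfl
  have hs : Odd (∑ χ : IrrCharacter (ev π H),
      if χ = θ then 0 else mult (ev_mono h₂) ψ χ * mult (ev_mono h₁) χ θ') := by
    rw [← Finset.add_sum_erase _ _ (Finset.mem_univ θ), h1, mul_one] at hcon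
    rw [← Finset.add_sum_erase _ _ (Finset.mem_univ θ), if_pos rfl, zero_add,
      Finset.sum_congr rfl fun χ hχ => if_neg (Finset.ne_of_mem_erase hχ)]
    rw [Nat.not_odd_iff_even, Nat.even_add] at hcon
    rw [← Nat.not_even_iff_odd, ← hcon, Nat.not_even_iff_odd]
    exact hodd
  have htθ := (sc_iff_tw (h₁ hγ) ho θ).1 hθ
  obtain ⟨χ, a, b⟩ := par (h₁ hγ) ho _ (fun χ => by
    have e : tw π (h₁ hγ) χ = θ ↔ χ = θ :=
      ⟨fun e => by rw [← tw_tw (h₁ hγ) χ, e, htθ], fun e => by rw [e, htθ]⟩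
    simp only [e]
    rw [← mult_tw h₂ (h₁ hγ) ψ χ, ← mult_tw h₁ hγ χ θ', (sc_iff_tw _ ho ψ).1 hψ,
      (sc_iff_tw _ ho θ').1 hθ']) hs
  by_cases e : χ = θ
  · simp [e] at b
  · rw [if_neg e] at b
    obtain ⟨b1, b2⟩ := Nat.odd_mul.1 b
    have := (mult_spec (ev_mono h₁) χ θ').symm.trans ((key χ a b1).trans
      (H11.classInner_irr_of_ne χ.2 θ.2 fun e' => e (Subtype.ext e')))
    rw [Nat.cast_eq_zero] at this
    simp [this] at b2

/-- The twisted stabiliser of a function on `C` inside `H`. -/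
def tst (π : G →* ℤˣ) (H C : Subgroup G) (hn : H ≤ normalizer (C : Set G)) (μ : C → ℂ) :
    Subgroup G where
  carrier := {h | h ∈ H ∧ ∀ c c' : C, (c' : G) = h * c * h⁻¹ → μ c' = μ (c ^ ((π h : ℤˣ) : ℤ))}
  one_mem' := ⟨one_mem _, fun c c' e => by
    rw [show c' = c from Subtype.ext (by simpa using e)]; simp⟩
  mul_mem' := by
    rintro h k ⟨a, b⟩ ⟨a', b'⟩
    refine ⟨mul_mem a a', fun c c' e => ?_⟩
    let c'' : C := ⟨k * c * k⁻¹, H4.conj_mem_of_mem_normalizer (hn a') c.2⟩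
    rw [b c'' c' (by rw [e]; simp [c'', mul_assoc]),
      b' (c ^ ((π h : ℤˣ) : ℤ)) (c'' ^ ((π h : ℤˣ) : ℤ)) (by simp [c'']), ← zpow_mul, map_mul,
      Units.val_mul]
  inv_mem' := by
    rintro h ⟨a, b⟩
    refine ⟨inv_mem a, fun c c' e => ?_⟩
    rw [map_inv, Int.units_inv_eq_self, b (c' ^ ((π h : ℤˣ) : ℤ)) (c ^ ((π h : ℤˣ) : ℤ))
      (by rw [SubgroupClass.coe_zpow, SubgroupClass.coe_zpow, e, conj_zpow]; group), ← zpow_mul, ← Units.val_mul, Int.units_mul_self,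
      Units.val_one, zpow_one]

omit [Finite G] in
theorem mem_tst {π : G →* ℤˣ} {H C : Subgroup G} {hn : H ≤ normalizer (C : Set G)} {μ : C → ℂ}
    {h : G} : h ∈ tst π H C hn μ ↔
      h ∈ H ∧ ∀ c c' : C, (c' : G) = h * c * h⁻¹ → μ c' = μ (c ^ ((π h : ℤˣ) : ℤ)) := Iff.rfl

omit [Finite G] in
theorem tst_le {π : G →* ℤˣ} {H C : Subgroup G} {hn : H ≤ normalizer (C : Set G)} {μ : C → ℂ} :
    tst π H C hn μ ≤ H := fun _ h => h.1

omit [Finite G] in
theorem mem_tst_of_even {π : G →* ℤˣ} {H C : Subgroup G} {hn : H ≤ normalizer (C : Set G)}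
    {μ : C → ℂ} {h : G} (a : h ∈ ev π H) : h ∈ tst π H C hn μ ↔ InvEl C h μ := by
  rw [mem_tst, (mem_ev.1 a).2]
  simp only [Units.val_one, zpow_one]
  exact ⟨fun h => h.2, fun h => ⟨a.1, h⟩⟩

/-- The Clifford step. -/
theorem cl {π : G →* ℤˣ} {C H K : Subgroup G} (hC : C ≤ ev π H) (h₂ : H ≤ K)
    (hn : H ≤ normalizer (C : Set G)) (hH : HasOdd π H) (ψ : IrrCharacter (ev π K))
    {χ : IrrCharacter (ev π H)} (hχ : SC π H χ.1) {μ : IrrCharacter C} (hμ : mult hC χ μ ≠ 0) :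
    C ≤ tst π H C hn μ.1 ∧ HasOdd π (tst π H C hn μ.1) ∧
      ∃ ξ : IrrCharacter (ev π (tst π H C hn μ.1)), SC π _ ξ.1 ∧
        mult (ev_mono (tst_le.trans h₂)) ψ ξ = mult (ev_mono h₂) ψ χ := by
  classical
  set T := tst π H C hn μ.1 with hT
  have hTH : T ≤ H := tst_le
  have hn0 : ev π H ≤ normalizer (C : Set G) := (ev_le π H).trans hn
  have hCT : C ≤ T := fun c hc => (mem_tst_of_even (hC hc)).2
    (invEl_of_mem (H11.isClassFunction_of_irr μ.2) hc)
  have hCT0 : C ≤ ev π T := fun c hc => ⟨hCT hc, (hC hc).2⟩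
  obtain ⟨γ, hγ, ho⟩ := hH
  have h1 : mult hC χ (bar (cj C ⟨γ, hn hγ⟩ μ)) ≠ 0 := by
    rw [← (sc_iff_tw hγ ho χ).1 hχ, tw, mult_bar, mult_cj]
    exact hμ
  obtain ⟨g, hg⟩ := exists_cj_eq_of_mult_ne_zero hC hn0 h1 hμ
  have hδH : (g : G) * γ ∈ H := mul_mem g.2.1 hγ
  have hδo : π ((g : G) * γ) = -1 := by rw [map_mul, (mem_ev.1 g.2).2, ho, one_mul]
  have hδ : bar (cj C ⟨(g : G) * γ, hn hδH⟩ μ) = μ := by
    rw [cj_bar, ← cj_mul] at hg
    exact hg
  have hδT : (g : G) * γ ∈ T := ⟨hδH, fun c c' e => by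
    rw [hδo, ← congrFun (congrArg Subtype.val hδ) c', bar_apply, cj_apply_of_eq _ μ e,
      H11.conj_apply (H11.irr_isCharacter μ)]
    simp⟩
  refine ⟨hCT, ⟨_, hδT, hδo⟩, ?_⟩
  have hI : invStab C μ.1 ⊓ ev π H ≤ ev π T := fun x hx =>
    ⟨(mem_tst_of_even hx.2).2 (mem_invStab.1 hx.1).2, hx.2.2⟩
  obtain ⟨ξ, a, b⟩ := exists_between hCT0 (ev_mono hTH) (χ := χ) (ξ := μ) hμ
  refine ⟨ξ, (sc_iff_tw hδT hδo ξ).2 ?_, ?_⟩
  · refine clifford_unique_under hCT0 (ev_mono hTH) hn0 hI b a ?_ ?_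
    · rw [← hδ, tw, mult_bar, mult_cj]
      exact b
    · rw [← (sc_iff_tw hδH hδo χ).1 hχ, mult_tw hTH hδT]
      exact a
  · haveI := Fintype.ofFinite (IrrCharacter (ev π H))
    rw [mult_trans (ev_mono hTH) (ev_mono h₂), Finset.sum_eq_single χ,
      (clifford_aux hCT0 (ev_mono hTH) hn0 hI b a).1, mul_one]
    · intro χ' _ hne
      by_contra h0
      exact hne (clifford_unique_over hCT0 (ev_mono hTH) hn0 hI b a (right_ne_zero_of_mul h0))
    · simp

/-- Elements acting on `C` through the sign. -/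
def tws (π : G →* ℤˣ) (C : Subgroup G) : Subgroup G where
  carrier := {h | ∀ c ∈ C, h * c * h⁻¹ = c ^ ((π h : ℤˣ) : ℤ)}
  one_mem' := fun c _ => by simp
  mul_mem' := by
    intro h k a b c hc
    rw [map_mul, Units.val_mul, zpow_mul, ← a c hc, conj_zpow, ← b c hc]
    group
  inv_mem' := by
    intro h a c hc
    have := congrArg (· ^ ((π h : ℤˣ) : ℤ)) (a c hc)
    simp only [conj_zpow] at this
    rw [← zpow_mul, ← Units.val_mul, Int.units_mul_self, Units.val_one, zpow_one] at this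
    rw [map_inv, Int.units_inv_eq_self]
    nth_rewrite 1 [← this]
    group

/-- The elements of `C` on which `H` acts through the sign. -/
def fix (π : G →* ℤˣ) (H C : Subgroup G) (hc : ∀ a ∈ C, ∀ b ∈ C, a * b = b * a) : Subgroup G where
  carrier := {c | c ∈ C ∧ ∀ h ∈ H, h * c * h⁻¹ = c ^ ((π h : ℤˣ) : ℤ)}
  one_mem' := ⟨one_mem _, fun h _ => by simp⟩
  mul_mem' := by
    rintro c d ⟨a, b⟩ ⟨a', b'⟩
    refine ⟨mul_mem a a', fun h hh => ?_⟩
    rw [Commute.mul_zpow (hc c a d a'), ← b h hh, ← b' h hh]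
    group
  inv_mem' := by
    rintro c ⟨a, b⟩
    refine ⟨inv_mem a, fun h hh => ?_⟩
    rw [inv_zpow, ← b h hh]
    group

/-- Coprime action: the norm map. -/
theorem norm_split {π : G →* ℤˣ} {C P : Subgroup G} (hc : ∀ a ∈ C, ∀ b ∈ C, a * b = b * a)
    (hodd : Odd (Nat.card C)) (hP : IsPGroup 2 P) (hn : P ≤ normalizer (C : Set G)) (c : C) :
    ∃ c₁ c₂ : C, c = c₂ * c₁ ∧ (∀ p ∈ P, p * c₁ * p⁻¹ = (c₁ : G) ^ ((π p : ℤˣ) : ℤ)) ∧
      ∀ μ : C →* ℂˣ, (∀ p ∈ P, ∀ x x' : C, (x' : G) = p * x * p⁻¹ →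
        μ x' = μ (x ^ ((π p : ℤˣ) : ℤ))) → μ c₂ = 1 := by
  classical
  haveI := Fintype.ofFinite P
  letI : CommGroup C := { (inferInstance : Group C) with
    mul_comm := fun a b => Subtype.ext (hc a a.2 b b.2) }
  -- the twisted action
  let f : P → C →* C := fun p => (zpowGroupHom ((π p : ℤˣ) : ℤ)).comp
    (cjAut C ⟨p, hn p.2⟩).toMonoidHom
  have hf : ∀ (p : P) (x : C), (f p x : G) = p * x ^ ((π p : ℤˣ) : ℤ) * (p : G)⁻¹ := by
    intro p x
    simp [f, coe_cjAut, conj_zpow]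
  have hfm : ∀ (p q : P) (x : C), f p (f q x) = f (p * q) x := by
    intro p q x
    refine Subtype.ext ?_
    rw [hf, hf, hf, conj_zpow, ← zpow_mul, coe_mul, map_mul, Units.val_mul, mul_comm ((π q : ℤˣ) : ℤ)]
    group
  let N : C := ∏ p : P, f p c
  have hN : ∀ p : P, f p N = N := by
    intro p
    simp only [N, map_prod, hfm]
    exact Fintype.prod_equiv (Equiv.mulLeft p) _ _ fun _ => rfl
  obtain ⟨k, hk⟩ := IsPGroup.iff_card.1 hP
  have hcop : (Nat.card P).Coprime (Nat.card C) := by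
    rw [hk]
    exact Nat.Coprime.pow_left _ (Nat.coprime_two_left.2 hodd)
  obtain ⟨r, hr⟩ : ∃ r : ℕ, Nat.card P * r ≡ 1 [MOD Nat.card C] := by
    refine ⟨Nat.card P ^ (Nat.totient (Nat.card C) - 1), ?_⟩
    rw [← pow_succ', Nat.sub_add_cancel (Nat.totient_pos.2 Nat.card_pos)]
    exact Nat.ModEq.pow_totient hcop
  refine ⟨N ^ r, c * (N ^ r)⁻¹, by simp, fun p hp => ?_, fun μ hμ => ?_⟩
  · have h1 := hf ⟨p, hp⟩ (N ^ r)
    rw [map_pow, hN] at h1
    have := congrArg (· ^ ((π p : ℤˣ) : ℤ)) h1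
    simp only [conj_zpow] at this
    rw [← zpow_mul, ← Units.val_mul, Int.units_mul_self, Units.val_one, zpow_one] at this
    exact this.symm
  · have h1 : ∀ p : P, μ (f p c) = μ c := by
      intro p
      rw [hμ p p.2 (c ^ ((π p : ℤˣ) : ℤ)) (f p c) (by rw [hf]; simp), ← zpow_mul, ← Units.val_mul,
        Int.units_mul_self, Units.val_one, zpow_one]
    have h2 : μ N = μ (c ^ Nat.card P) := by
      simp only [N, map_prod, h1, Finset.prod_const, Finset.card_univ, map_pow,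
        Nat.card_eq_fintype_card]
    rw [map_mul, map_inv, map_pow, h2, ← map_pow, ← pow_mul,
      (pow_eq_pow_iff_modEq.2 (hr.of_dvd (orderOf_dvd_natCard c)) : c ^ (Nat.card P * r) = c ^ 1),
      pow_one, mul_inv_cancel]

omit [Finite G] in
theorem exists_mul_of_mem_sup {C P : Subgroup G} (hn : P ≤ normalizer (C : Set G)) {h : G}
    (hh : h ∈ C ⊔ P) : ∃ c ∈ C, ∃ p ∈ P, h = c * p := by
  have := coe_mul_of_right_le_normalizer_left C P hn
  rw [← SetLike.mem_coe, this] at hh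
  obtain ⟨c, hc, p, hp, e⟩ := hh
  exact ⟨c, hc, p, hp, e.symm⟩

/-- The induction over the quasi-elementary subgroups. -/
theorem good_false (h1 : C1.{u}) (h2 : C2.{u}) {π : G →* ℤˣ} {K : Subgroup G}
    (hp : ∀ P : Subgroup G, P ≤ K → IsPGroup 2 P → HasOdd π P → ∃ M, P ≤ M ∧ M ≤ K ∧ NB π M)
    (ho : ∀ C M : Subgroup G, C ≤ ev π K → (∀ a ∈ C, ∀ b ∈ C, a * b = b * a) → Odd (Nat.card C) →
      (∀ h, h ∈ M ↔ h ∈ K ∧ ∀ c ∈ C, h * c * h⁻¹ = c ^ ((π h : ℤˣ) : ℤ)) → M ≠ K → NB π M)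
    {ψ : IrrCharacter (ev π K)} (hψ : eps π K ψ.1 = -1) (n : ℕ) :
    ∀ (C P H : Subgroup G), Nat.card C + Nat.card P = n → C ≤ ev π H →
      (∀ a ∈ C, ∀ b ∈ C, a * b = b * a) → Odd (Nat.card C) → IsPGroup 2 P → P ≤ H →
      H ≤ normalizer (C : Set G) → (∀ h ∈ H, ∃ c ∈ C, ∃ p ∈ P, h = c * p) → HasOdd π H →
      ∀ (h₂ : H ≤ K) (θ : IrrCharacter (ev π H)), SC π H θ.1 →
        ¬ Odd (mult (ev_mono h₂) ψ θ) := by
  induction n using Nat.strong_induction_on with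
  | _ n ih =>
  intro C P H hcard hC hc hodd hP hPH hn hf hH h₂ θ hθ hm
  have hs := ((h1 π K ψ).2.1 (by rw [hψ]; norm_num)).2
  have hCH : C ≤ H := hC.trans (ev_le π H)
  -- every relevant character lies over a twisted invariant linear character
  have hT : ∀ χ : IrrCharacter (ev π H), SC π H χ.1 → Odd (mult (ev_mono h₂) ψ χ) →
      ∀ μ : IrrCharacter C, mult hC χ μ ≠ 0 → H ≤ tst π H C hn μ.1 := by
    intro χ a b μ hμ
    obtain ⟨T, hTe, hTH, hCT, hTo, ξ, c, d⟩ : ∃ (T : Subgroup G) (_ : T = tst π H C hn μ.1)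
        (hTH : T ≤ H), C ≤ T ∧ HasOdd π T ∧ ∃ ξ : IrrCharacter (ev π T), SC π T ξ.1 ∧
          mult (ev_mono (hTH.trans h₂)) ψ ξ = mult (ev_mono h₂) ψ χ :=
      ⟨_, rfl, tst_le, cl hC h₂ hn hH ψ a hμ⟩
    rw [← hTe]
    by_contra hcon
    have hlt : P ⊓ T < P := lt_of_le_of_ne inf_le_left fun e => hcon fun h hh => by
      obtain ⟨c, hc, p, hp, rfl⟩ := hf h hh
      exact mul_mem (hCT hc) (e.ge hp).2
    refine ih _ ?_ C (P ⊓ T) T rfl (fun c hc => ⟨hCT hc, (hC hc).2⟩) hc hodd (hP.to_le inf_le_left)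
      inf_le_right (hTH.trans hn) (fun t ht => ?_) hTo (hTH.trans h₂) ξ c (d ▸ b)
    · have := H23.card_lt_of_lt hlt
      omega
    · obtain ⟨c, hc, p, hp, rfl⟩ := hf t (hTH ht)
      exact ⟨c, hc, p, ⟨hp, (mul_mem_cancel_left (hCT hc)).1 ht⟩, rfl⟩
  have hres : ∀ χ : IrrCharacter (ev π H), SC π H χ.1 → Odd (mult (ev_mono h₂) ψ χ) →
      ∀ μ : IrrCharacter C, mult hC χ μ ≠ 0 → ∀ c : C, χ.1 ⟨c, hC c.2⟩ = μ.1 c * χ.1 1 := by
    intro χ a b μ hμ c
    have hi : InvBy C (ev π H) μ.1 := fun x hx => (mem_tst_of_even hx).1 (hT χ a b μ hμ hx.1)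
    have e := res_eq_mult_smul hC ((ev_le π H).trans hn) hμ hi
    have e1 := e 1
    rw [H11.irr_apply_one_of_comm (fun a b => Subtype.ext (hc a a.2 b b.2)) μ.2, mul_one] at e1
    rw [e c, ← e1, mul_comm]
    rfl
  have hlin : ∀ μ : IrrCharacter C, ∃ lam : C →* ℂˣ, μ.1 = fun c => (lam c : ℂ) := fun μ =>
    H11.exists_monoidHom_of_apply_one_eq_one (H11.irr_isCharacter μ)
      (H11.irr_apply_one_of_comm (fun a b => Subtype.ext (hc a a.2 b b.2)) μ.2)
  have hPo : HasOdd π P := by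
    obtain ⟨γ, hγ, e⟩ := hH
    obtain ⟨c, hc, p, hp, rfl⟩ := hf γ hγ
    exact ⟨p, hp, by rwa [map_mul, (mem_ev.1 (hC hc)).2, one_mul] at e⟩
  have hpe : ∀ {c p : G}, c ∈ C → c * p ∈ ev π H → π p = 1 := fun {c p} hc h => by
    have := (mem_ev.1 h).2
    rwa [map_mul, (mem_ev.1 (hC hc)).2, one_mul] at this
  by_cases hall : ∀ c ∈ C, ∀ h ∈ H, h * c * h⁻¹ = c ^ ((π h : ℤˣ) : ℤ)
  · by_cases hM : K ⊓ tws π C = K
    · -- `C` is central in the even part of `K`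
      have hK : ∀ k ∈ K, ∀ c ∈ C, k * c * k⁻¹ = c ^ ((π k : ℤˣ) : ℤ) := fun k hk =>
        (hM.ge hk).2
      have hCK : C ≤ ev π K := hC.trans (ev_mono h₂)
      have hcen : ∀ k ∈ ev π K, ∀ c ∈ C, k * c * k⁻¹ = c := fun k hk c hc => by
        rw [hK k hk.1 c hc, (mem_ev.1 hk).2]; simp
      have hnK : ev π K ≤ normalizer (C : Set G) :=
        le_normalizer_of_conj_mem fun k hk c hc => by rw [hcen k hk c hc]; exact hc
      obtain ⟨μ, hμ⟩ := exists_under hCK ψ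
      have hi : InvBy C (ev π K) μ.1 := fun k hk => invEl_of_centralizes _ (hcen k hk)
      obtain ⟨θ', a, b⟩ := red hPH h₂ hPo hs hθ hm fun x => by
        obtain ⟨c, hc, p, hp, e⟩ := hf x x.2.1
        refine ⟨⟨c, hC hc⟩, ⟨p, hp, hpe hc (e ▸ x.2)⟩, μ.1 ⟨c, hc⟩, e, ?_, fun χ a b => ?_⟩
        · obtain ⟨lam, e⟩ := hlin μ
          rw [e]
          exact H11.norm_monoidHom_apply lam _
        · obtain ⟨μ', hμ'⟩ := exists_under hC χ
          have : μ' = μ := eq_of_under_of_inv hCK hnK hμ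
            (mult_trans_ne_zero hC (ev_mono h₂) (fun h => by simp [h] at b) hμ') hi
          exact hres χ a b μ (this ▸ hμ') ⟨c, hc⟩
      obtain ⟨M, c, d, e⟩ := hp P (hPH.trans h₂) hP hPo
      exact down h1 h2 c d hPo hψ a b e
    · exact down h1 h2 (M := K ⊓ tws π C) (fun h hh => ⟨h₂ hh, fun c hc => hall c hc h hh⟩)
        inf_le_left hH hψ hθ hm
        (ho C _ (hC.trans (ev_mono h₂)) hc hodd (fun _ => Iff.rfl) hM)
  · set C₁ := fix π H C hc with hC₁
    have hle : C₁ ≤ C := fun _ h => h.1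
    have hlt : C₁ < C := lt_of_le_of_ne hle fun e => hall fun c hc => (e.ge hc).2
    have hn₁ : H ≤ normalizer (C₁ : Set G) := le_normalizer_of_conj_mem fun h hh c hc => by
      rw [hc.2 h hh]; exact zpow_mem hc _
    have hL : C₁ ⊔ P ≤ H := sup_le (hle.trans hCH) hPH
    have hLo : HasOdd π (C₁ ⊔ P) := by
      obtain ⟨γ, hγ, e⟩ := hPo
      exact ⟨γ, mem_sup_right hγ, e⟩
    obtain ⟨θ', a, b⟩ := red hL h₂ hLo hs hθ hm fun x => by
      obtain ⟨c, hcC, p, hp, e⟩ := hf x x.2.1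
      obtain ⟨c₁, c₂, e₁, e₂, e₃⟩ := norm_split (π := π) hc hodd hP (hPH.trans hn) ⟨c, hcC⟩
      have hc₁ : (c₁ : G) ∈ C₁ := ⟨c₁.2, fun h hh => by
        obtain ⟨d, hd, q, hq, rfl⟩ := hf h hh
        rw [map_mul, (mem_ev.1 (hC hd)).2, one_mul, show d * q * c₁ * (d * q)⁻¹ =
          d * (q * c₁ * q⁻¹) * d⁻¹ by group, e₂ q hq, hc d hd _ (zpow_mem c₁.2 _),
          mul_inv_cancel_right]⟩
      refine ⟨⟨c₂, hC c₂.2⟩, ⟨c₁ * p, mul_mem (mem_sup_left hc₁) (mem_sup_right hp), ?_⟩, 1, ?_,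
        norm_one, fun χ a b => ?_⟩
      · change π _ = 1
        rw [map_mul, (mem_ev.1 (hC c₁.2)).2, hpe hcC (e ▸ x.2), one_mul]
      · have := congrArg Subtype.val e₁
        simp only [coe_mul] at this
        exact e.trans (show c * p = c₂ * (c₁ * p) by rw [this, mul_assoc])
      · obtain ⟨μ, hμ⟩ := exists_under hC χ
        obtain ⟨lam, hlam⟩ := hlin μ
        rw [hres χ a b μ hμ c₂, hlam]
        dsimp only
        rw [e₃ lam fun q hq y y' ey => ?_, Units.val_one]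
        have := (hT χ a b μ hμ (hPH hq)).2 y y' ey
        rw [hlam] at this
        exact Units.ext this
    refine ih _ ?_ C₁ P (C₁ ⊔ P) rfl (fun c h => ⟨mem_sup_left h, (hC (hle h)).2⟩)
      (fun a ha b hb => hc a (hle ha) b (hle hb)) (hodd.of_dvd_nat (card_dvd_of_le hle)) hP
      le_sup_right (hL.trans hn₁) (fun h hh => exists_mul_of_mem_sup (hPH.trans hn₁) hh) hLo
      (hL.trans h₂) θ' a b
    have := H23.card_lt_of_lt hlt
    omega

omit [Finite G] in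
theorem card_ev_of_odd {π : G →* ℤˣ} {K : Subgroup G} (h : HasOdd π K) :
    Nat.card K = 2 * Nat.card (ev π K) := by
  obtain ⟨γ, hγ, ho⟩ := h
  have h1 : (ev π K).subgroupOf K = (π.comp K.subtype).ker := by
    ext x
    simp [mem_subgroupOf, mem_ev]
  have h2 : (π.comp K.subtype).range = ⊤ := by
    rw [eq_top_iff]
    rintro u -
    rcases Int.units_eq_one_or u with rfl | rfl
    · exact one_mem _
    · exact ⟨⟨γ, hγ⟩, ho⟩
  have h3 := ((ev π K).subgroupOf K).index_mul_card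
  rw [Nat.card_congr (subgroupOfEquivOfLe (ev_le π K)).toEquiv, h1, index_ker, h2, card_top] at h3
  rw [← h3]
  simp

omit [Finite G] in
theorem card_ev_of_not_odd {π : G →* ℤˣ} {K : Subgroup G} (h : ¬ HasOdd π K) :
    Nat.card K = Nat.card (ev π K) := by
  have : ev π K = K := le_antisymm (ev_le π K) fun x hx => ⟨hx, by
    rcases Int.units_eq_one_or (π x) with e | e
    · exact e
    · exact absurd ⟨x, hx, e⟩ h⟩
  rw [this]

omit [Finite G] in
theorem sum_ext {π : G →* ℤˣ} {K : Subgroup G} (H : Subgroup K) [Fintype H]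
    [Fintype (ev π (H.map K.subtype))] (φ : ev π K → ℂ) :
    ∑ h : H, extendByZero (ev π K) φ ((h : K) : G) =
      ∑ x : ev π (H.map K.subtype), φ ⟨x, ev_mono (map_subtype_le H) x.2⟩ := by
  classical
  symm
  refine Finset.sum_of_injOn (fun x => (⟨⟨x, map_subtype_le H x.2.1⟩, by
    obtain ⟨y, hy, e⟩ := x.2.1
    exact (show y = ⟨x, map_subtype_le H x.2.1⟩ from Subtype.ext e) ▸ hy⟩ : H)) ?_ (by simp) ?_ ?_
  · intro x _ y _ e
    exact Subtype.ext (congrArg (fun z : H => ((z : K) : G)) e)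
  · intro h _ hh
    refine H14.extendByZero_of_not_mem _ _ fun hm => hh ?_
    exact ⟨⟨((h : K) : G), ⟨h, h.2, rfl⟩, hm.2⟩, by simp, rfl⟩
  · intro x _
    exact (H14.extendByZero_of_mem _ _ (ev_mono (map_subtype_le H) x.2)).symm

/-- The Solomon step. -/
theorem solomon {π : G →* ℤˣ} {K : Subgroup G} (hK : HasOdd π K) {ψ : IrrCharacter (ev π K)}
    (hψ : SC π K ψ.1) : ∃ (H C : Subgroup G) (h₂ : H ≤ K), C ≤ H ∧ H ≤ normalizer (C : Set G) ∧
      IsCyclic C ∧ Odd (Nat.card C) ∧ (∃ k, C.relIndex H = 2 ^ k) ∧ HasOdd π H ∧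
      ∃ θ : IrrCharacter (ev π H), SC π H θ.1 ∧ Odd (mult (ev_mono h₂) ψ θ) := by
  classical
  haveI := Fintype.ofFinite K
  haveI : ∀ H : Subgroup G, Fintype H := fun H => Fintype.ofFinite H
  haveI : ∀ H : Subgroup K, Fintype H := fun H => Fintype.ofFinite H
  haveI : ∀ H : Subgroup G, Fintype (IrrCharacter H) := fun H => Fintype.ofFinite _
  obtain ⟨m, a, hm, ha, e⟩ := S0872.result (G := K) 2 Nat.prime_two
  let φ : ev π K → ℂ := fun x => ψ.1 x * conj (ψ.1 x)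
  let f : K → ℂ := fun k => extendByZero (ev π K) φ k
  have hf : IsClassFunction K f := by
    intro g h
    by_cases hg : (g : G) ∈ ev π K
    · have hg' : ((h * g * h⁻¹ : K) : G) ∈ ev π K := conj_mem_ev h.2 hg
      simp only [f, H14.extendByZero_of_mem _ _ hg, H14.extendByZero_of_mem _ _ hg', φ]
      rcases Int.units_eq_one_or (π h) with e | e
      · rw [invEl_of_mem (H11.isClassFunction_of_irr ψ.2) (x := h) ⟨h.2, e⟩ ⟨g, hg⟩ ⟨_, hg'⟩ rfl]
      · rw [hψ h h.2 e ⟨g, hg⟩ ⟨_, hg'⟩ rfl, ← H11.conj_apply (H11.irr_isCharacter ψ)]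
        simp [mul_comm]
    · have hg' : ((h * g * h⁻¹ : K) : G) ∉ ev π K := fun h' => hg (by
        have := conj_mem_ev (inv_mem h.2) h'
        simpa [mul_assoc] using this)
      simp only [f, H14.extendByZero_of_not_mem _ _ hg, H14.extendByZero_of_not_mem _ _ hg']
  let i : Subgroup K → ℕ := fun H => ∑ θ : IrrCharacter (ev π (H.map K.subtype)),
    mult (ev_mono (map_subtype_le H)) ψ θ ^ 2
  have hi : ∀ H : Subgroup K, ∑ h : H, f h = Nat.card (ev π (H.map K.subtype)) * i H := by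
    intro H
    rw [sum_ext H φ]
    simp only [φ]
    rw [← H11.card_mul_classInner, H11.classInner_eq_sum (H11.isClassFunction_of_isCharacter
      (H11.isCharacter_restrict_of_le (H11.irr_isCharacter ψ) _))]
    simp only [mult_spec, i]
    push_cast
    simp [sq]
  let w : Subgroup K → ℕ := fun H => if HasOdd π (H.map K.subtype) then 1 else 2
  have hw : ∀ H : Subgroup K, 2 * classInner f (indFun H fun _ => 1) = w H * i H := by
    intro H
    rw [H14.classInner_indFun_right H _ hf, H11.classInner_one_right, hi,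
      ← card_map_of_injective (K := H) K.subtype_injective]
    have h0 := H11.card_ne_zero (ev π (H.map K.subtype))
    by_cases ho : HasOdd π (H.map K.subtype)
    · simp only [w, if_pos ho]
      rw [card_ev_of_odd ho]
      push_cast
      field_simp
    · simp only [w, if_neg ho]
      rw [card_ev_of_not_odd ho]
      push_cast
      field_simp
  have hm1 : 2 * classInner f (fun _ => 1) = 1 := by
    have h1 : ∑ k : K, f k = ∑ x : ev π K, φ x := by
      symm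
      refine Finset.sum_of_injOn (fun x => (⟨x, x.2.1⟩ : K)) ?_ (by simp) ?_ ?_
      · intro x _ y _ e
        exact Subtype.ext (congrArg (fun z : K => (z : G)) e)
      · intro h _ hh
        exact H14.extendByZero_of_not_mem _ _ fun hm => hh ⟨⟨h, hm⟩, by simp, rfl⟩
      · intro x _
        exact (H14.extendByZero_of_mem _ _ x.2).symm
    rw [H11.classInner_one_right, h1]
    simp only [φ]
    rw [← H11.card_mul_classInner, H11.classInner_irr_self ψ.2, card_ev_of_odd hK]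
    have h0 := H11.card_ne_zero (ev π K)
    push_cast
    field_simp
  have hsum : m = ∑ H : Subgroup K, a H * (w H * i H) := by
    have h1 := congrArg (fun t => 2 * classInner f t) e
    simp only [H11.classInner_sum_right, H11.classInner_smul_right, Finset.mul_sum] at h1
    rw [show (fun _ : K => (m : ℂ)) = (m : ℂ) • fun _ : K => (1 : ℂ) by ext; simp,
      H11.classInner_smul_right, mul_left_comm, hm1] at h1
    simp only [mul_left_comm (2 : ℂ), hw, map_intCast, mul_one] at h1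
    exact_mod_cast h1
  obtain ⟨H, hH⟩ : ∃ H : Subgroup K, ¬ (2 : ℤ) ∣ a H * (w H * i H) := by
    by_contra hcon
    push Not at hcon
    exact hm (hsum ▸ Finset.dvd_sum fun H _ => hcon H)
  have ha0 : a H ≠ 0 := fun h => hH (by simp [h])
  have ho : HasOdd π (H.map K.subtype) := by
    by_contra ho
    refine hH (Dvd.dvd.mul_left (Dvd.dvd.mul_right ?_ _) _)
    simp [w, ho]
  have hio : Odd (i H) := by
    rw [← Nat.not_even_iff_odd, even_iff_two_dvd]
    exact fun h => hH (Dvd.dvd.mul_left (Dvd.dvd.mul_left (by exact_mod_cast h) _) _)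
  obtain ⟨C, h1, h2, h3, h4, k, h5⟩ := ha H ha0
  refine ⟨H.map K.subtype, C.map K.subtype, map_subtype_le H, map_mono h1,
    (map_mono h2).trans (le_normalizer_map _), ?_, ?_, ⟨k, ?_⟩, ho, ?_⟩
  · exact isCyclic_of_surjective _ (C.equivMapOfInjective _ K.subtype_injective).surjective
  · rw [card_map_of_injective K.subtype_injective]
    exact Nat.coprime_two_right.1 h4
  · rw [relIndex_map_map_of_injective _ _ K.subtype_injective, h5]
  · obtain ⟨γ, hγ, e⟩ := ho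
    obtain ⟨θ, a, b⟩ := par hγ e _ (fun θ => by
      rw [← mult_tw (map_subtype_le H) hγ ψ θ, (sc_iff_tw _ e ψ).1 hψ]) hio
    exact ⟨θ, a, (Nat.odd_pow_iff two_ne_zero).1 b⟩

/-- Piece P2. -/
theorem pa (h1 : C1.{u}) (h2 : C2.{u}) : PA.{u} := by
  intro G _ _ π K hp ho ψ hψ
  obtain ⟨hK, hs⟩ := (h1 π K ψ).2.1 (by rw [hψ]; norm_num)
  obtain ⟨H, C, h₂, hCH, hn, hc, hodd, ⟨k, hk⟩, hH, θ, hθ, hm⟩ := solomon hK hs
  haveI : (C.subgroupOf H).Normal := normal_subgroupOf_of_le_normalizer hn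
  obtain ⟨P, hP, e⟩ := exists_pgroup_sup_eq Nat.prime_two hCH hn fun x hx =>
    ⟨k, by
      have := (C.subgroupOf H).pow_index_mem ⟨x, hx⟩
      rwa [← relIndex, hk] at this⟩
  have hPH : P ≤ H := e ▸ le_sup_left
  have hC : C ≤ ev π H := fun c hc => ⟨hCH hc, by
    have h3 : π c ^ Nat.card C = 1 := by
      rw [← map_pow, show c ^ Nat.card C = 1 from
        congrArg Subtype.val (pow_card_eq_one' (x := (⟨c, hc⟩ : C))), map_one]
    rcases Int.units_eq_one_or (π c) with h | h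
    · exact h
    · rw [h, hodd.neg_one_pow] at h3
      exact absurd h3 (by decide)⟩
  refine good_false h1 h2 hp ho hψ _ C P H rfl hC (fun a ha b hb => ?_) hodd hP hPH hn
    (fun h hh => exists_mul_of_mem_sup (hPH.trans hn) (by rwa [sup_comm, e])) hH h₂ θ hθ hm
  letI := IsCyclic.commGroup (α := C)
  exact congrArg Subtype.val (mul_comm (⟨a, ha⟩ : C) ⟨b, hb⟩)

end Cfsg.Agent.H61.FsPA
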