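import Cfsg.Agent.H78.G40A
import Cfsg.Agent.H8.Fusion

/-! Project L40G, piece PRT: transfer to an elementary abelian Sylow subgroup. -/

set_option autoImplicit false

namespace Cfsg.Agent.H61.G40Prt

open Subgroup Cfsg.Agent.H83 Cfsg.Agent.H78.G40

universe u

theorem prt : PrtS.{u} := by
  intro G _ _ ι N A U S Q κ τ h
  have : Fact (Nat.Prime 2) := ⟨Nat.prime_two⟩
  have inv : ∀ x ∈ A, x⁻¹ = x := fun x hx => inv_eq_of_mul_eq_one_right (h.el x hx)
  have comm : ∀ x ∈ A, ∀ y ∈ A, x * y = y * x := fun x hx y hy => by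
    rw [← inv _ (mul_mem hx hy), mul_inv_rev, inv x hx, inv y hy]
  have hQ : ∀ i ∈ S, Q i ≤ ⨆ i ∈ S, Q i := fun i hi => le_iSup₂_of_le i hi le_rfl
  have hQA : (⨆ i ∈ S, Q i) ≤ A := iSup₂_le h.QA
  refine ⟨resOf 2 N, resOf_le N, le_norm_resOf N, normalizer_le_norm_resOf N h.τN,
    le_antisymm ?_ (le_inf (iSup₂_le fun i hi => ?_) hQA), h.syl.resOf_sup.ge⟩
  · obtain ⟨P, hP⟩ := h.syl.exists_sylow
    have : IsMulCommutative P := by
      rw [hP]
      exact ⟨⟨fun a b => Subtype.ext (Subtype.ext (comm _ a.2 _ b.2))⟩⟩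
    have key : ∀ n ∈ N, n ∈ normalizer (A : Set G) → ∀ x ∈ A, x * (n * x * n⁻¹)⁻¹ ∈ ⨆ i ∈ S, Q i := by
      intro n hn hA
      have c : ∀ x ∈ A, n * x * n⁻¹ ∈ A := fun x hx => (mem_normalizer_iff.1 hA x).1 hx
      let W : Subgroup G :=
        { carrier := {x | x ∈ A ∧ x * (n * x * n⁻¹)⁻¹ ∈ ⨆ i ∈ S, Q i}
          one_mem' := ⟨one_mem _, by simp⟩
          mul_mem' := fun {x y} hx hy => ⟨mul_mem hx.1 hy.1, by
            have e : x * y * (n * (x * y) * n⁻¹)⁻¹ =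
                x * ((y * (n * y * n⁻¹)⁻¹) * (n * x * n⁻¹)⁻¹) := by group
            rw [e, comm _ (hQA hy.2) _ (inv_mem (c x hx.1)), ← mul_assoc]
            exact mul_mem hx.2 hy.2⟩
          inv_mem' := fun {x} hx => by rwa [inv x hx.1] }
      have : U ⊔ (⨆ i ∈ S, Q i) ≤ W := sup_le (fun x hx => ⟨h.UA hx, by
          rw [← mem_centralizer_iff.1 (h.cU n hn hA) x hx]; simp⟩)
        (iSup₂_le fun i hi x hx => ⟨h.QA i hi hx, hQ i hi
          (mul_mem hx (inv_mem ((mem_normalizer_iff.1 (h.nQ n hn hA i hi) x).1 hx)))⟩)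
      exact fun x hx => (this (h.gen hx)).2
    have h1 := Cfsg.Agent.H8.sylow_inf_pResidual_le_of_fusion P
      (K := (⨆ i ∈ S, Q i).subgroupOf N) fun x hx _ g _ hg => by
        obtain ⟨n, hn, e⟩ := P.conj_eq_normalizer_conj_of_mem x g⁻¹ hx (by rwa [inv_inv])
        rw [inv_inv] at e
        have hn' : n⁻¹ ∈ normalizer ((P : Subgroup N) : Set N) := inv_mem hn
        rw [hP, ← subgroupOf_normalizer_eq h.syl.le] at hn'
        have hx' : x ∈ A.subgroupOf N := hP ▸ hx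
        have := key _ (n⁻¹).2 hn' _ hx'
        rw [e, mem_subgroupOf]
        simpa using this
    rintro x ⟨⟨y, hy, rfl⟩, hx⟩
    exact h1 ⟨hP.ge hx, hy⟩
  · have hk : κ i ∈ resOf 2 N ⊔ A := h.syl.resOf_sup.ge (h.κN i hi)
    rw [← SetLike.mem_coe, coe_mul_of_right_le_normalizer_left _ _
      (h.syl.le.trans (le_norm_resOf N))] at hk
    obtain ⟨k, hk, a, ha, e⟩ := hk
    have nq := mem_normalizer_iff.1 (h.nQ _ (h.κN i hi) (h.κA i hi) i hi)
    let f : Q i → Q i := fun y => ⟨κ i * y * (κ i)⁻¹ * (y : G)⁻¹, mul_mem ((nq y).1 y.2) (inv_mem y.2)⟩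
    have hf : Function.Injective f := fun y z e => by
      have e1 : κ i * y * (κ i)⁻¹ * (y : G)⁻¹ = κ i * z * (κ i)⁻¹ * (z : G)⁻¹ := congrArg Subtype.val e
      have := h.κ3 i hi _ (mul_mem (inv_mem z.2) y.2) (by
        calc κ i * ((z : G)⁻¹ * y) = κ i * (z : G)⁻¹ * (κ i)⁻¹ *
              (κ i * y * (κ i)⁻¹ * (y : G)⁻¹) * (y * κ i) := by group
          _ = (z : G)⁻¹ * y * κ i := by rw [e1]; group)
      exact Subtype.ext (inv_mul_eq_one.1 this).symm
    intro x hx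
    obtain ⟨y, hy⟩ := Finite.surjective_of_injective hf ⟨x, hx⟩
    have e2 : x = k * (y * k⁻¹ * (y : G)⁻¹) := by
      have e1 : κ i * y * (κ i)⁻¹ * (y : G)⁻¹ = x := congrArg Subtype.val hy
      have e' : k * a = κ i := e
      rw [← e1, ← e', mul_assoc k a, comm a ha y (h.QA i hi y.2)]
      group
    rw [e2]
    exact mul_mem hk ((mem_normalizer_iff.1 (le_norm_resOf N (h.syl.le (h.QA i hi y.2))) _).1
      (inv_mem hk))

end Cfsg.Agent.H61.G40Prt
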