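import Cfsg.Agent.H61.HnA9a
import Cfsg.Agent.H99.HNDefs
import Cfsg.Agent.S0892

/-! Project HN3, piece A9: the centraliser `3 × A₉`. -/

set_option autoImplicit false
set_option synthInstance.maxSize 4096
set_option maxRecDepth 20000

namespace Cfsg.Agent.H61.HnA9

open Subgroup Cfsg Equiv Cfsg.Agent.H93.Hay DihedralGroup Cfsg.Agent.H99.HN Cfsg.Agent.H12.A9
open Cfsg.Agent.H91 (SL25)
open Cfsg.Agent.H21.L3 (Sig SigQ mem_zp3)
open scoped commutatorElement

universe u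

/-- extension by zero -/
def ex4 (v : T3) : W4 := ![v.1, v.2.1, v.2.2, 0]
/-- the first three coordinates -/
def pr3 (w : W4) : T3 := (w 0, w 1, w 2)
/-- the last basis vector -/
def e3 : W4 := ![0, 0, 0, 1]

/-- the permutation of the coordinates -/
def pm : DihedralGroup 3 → Perm (Fin 4)
  | r i => if i = 0 then 1 else if i = 1 then swap 0 2 * swap 2 1 else swap 0 1 * swap 1 2
  | sr i => if i = 0 then swap 0 1 else if i = 1 then swap 1 2 else swap 0 2

theorem mono_ex (x : HH) : Det1 ![sg x.1.b.1, sg x.1.b.2.1, sg x.1.b.2.2, 1] (pm x.1.p) ∧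
    ![sg x.1.b.1, sg x.1.b.2.1, sg x.1.b.2.2, 1] * e3 ∘ pm x.1.p = e3 ∧
    ∀ v, pr3 (![sg x.1.b.1, sg x.1.b.2.1, sg x.1.b.2.2, 1] * ex4 v ∘ pm x.1.p) = ac x v := by
  revert x; decide +kernel

theorem mono_st (ε : W4) (σ : Perm (Fin 4)) (h : Det1 ε σ) (h' : ε * e3 ∘ σ = e3) :
    ∃ x : HH, ∀ v, pr3 (ε * ex4 v ∘ σ) = ac x v := by
  revert ε σ; decide +kernel

theorem mono_triv (ε : W4) (σ : Perm (Fin 4)) (h : Det1 ε σ) (h' : ε * e3 ∘ σ = e3)
    (h'' : ∀ v, pr3 (ε * ex4 v ∘ σ) = v) : ∀ u : W4, ε * u ∘ σ = u := by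
  revert ε σ; decide +kernel

theorem split4 (w : W4) : w = ex4 (pr3 w) ∨ w = ex4 (pr3 w) + e3 ∨ w = ex4 (pr3 w) + -e3 := by
  revert w; decide +kernel

theorem ex4_add (v w : T3) : ex4 (v + w) = ex4 v + ex4 w := by
  funext i; fin_cases i <;> rfl

theorem ex4_zero (v : T3) (h : ex4 v = 0 ∨ ex4 v = e3 ∨ ex4 v = -e3) : v = 0 := by
  revert v; decide +kernel

variable {G : Type u} [Group G] {j : W4 → G} {ι : SL25 →* G}

section Basic

variable (h : HS3 j ι)
include h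

theorem j0 : j 0 = 1 := by
  have := h.add 0 0
  rw [add_zero] at this
  exact mul_left_cancel (this.symm.trans (mul_one _).symm)

theorem jneg (v : W4) : j (-v) = (j v)⁻¹ :=
  eq_inv_of_mul_eq_one_left (by rw [← h.add, neg_add_cancel, j0 h])

theorem jinj {v w : W4} (e : j v = j w) : v = w :=
  sub_eq_zero.1 (h.inj _ (by rw [sub_eq_add_neg, h.add, jneg h, e, mul_inv_cancel]))

theorem jcomm (v w : W4) : j v * j w = j w * j v := by rw [← h.add, ← h.add, add_comm]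

theorem jcube (v : W4) : j v ^ 3 = 1 := by
  rw [pow_three, ← h.add, ← h.add, show v + (v + v) = 0 by revert v; decide, j0 h]

theorem zp_cases {z : G} (hz : z ∈ zpowers (j e3)) : z = j 0 ∨ z = j e3 ∨ z = j (-e3) := by
  rw [j0 h, jneg h]
  exact mem_zp3 (jcube h _) hz

theorem order_a : orderOf (j e3) = 3 :=
  orderOf_eq_prime (jcube h _) fun e => absurd (h.inj _ e) (by decide)

end Basic

/-- the centraliser -/
abbrev CC (j : W4 → G) : Subgroup G := centralizer {j e3}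

/-- the central subgroup -/
abbrev ZZ (j : W4 → G) : Subgroup (CC j) := (zpowers (j e3)).subgroupOf (CC j)

theorem ZZ_le (j : W4 → G) : ZZ j ≤ center (CC j) := by
  rintro z ⟨i, hi⟩
  refine mem_center_iff.2 fun g => Subtype.ext ?_
  change g.1 * z.1 = z.1 * g.1
  rw [show z.1 = j e3 ^ i from hi.symm]
  exact (show Commute g.1 (j e3) from mem_centralizer_singleton_iff.1 g.2).zpow_right i

instance (j : W4 → G) : (ZZ j).Normal := ⟨fun z hz g => by
  rw [mem_center_iff.1 (ZZ_le j hz) g, mul_inv_cancel_right]; exact hz⟩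

/-- the elements of `J` in the centraliser -/
def jC (h : HS3 j ι) (v : W4) : CC j := ⟨j v, mem_centralizer_singleton_iff.2 (jcomm h _ _)⟩

/-- the projection -/
abbrev pj (j : W4 → G) : CC j →* CC j ⧸ ZZ j := QuotientGroup.mk' (ZZ j)

/-- the image of `J` -/
def jb (h : HS3 j ι) (v : T3) : CC j ⧸ ZZ j := pj j (jC h (ex4 v))

variable (h : HS3 j ι)

theorem jC_add (v w : W4) : jC h (v + w) = jC h v * jC h w := Subtype.ext (h.add v w)

theorem pj_one {g : CC j} : pj j g = 1 ↔ (g : G) ∈ zpowers (j e3) := QuotientGroup.eq_one_iff g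

theorem pj_jC (w : W4) : pj j (jC h w) = jb h (pr3 w) := by
  have h1 : pj j (jC h e3) = 1 := pj_one.2 (mem_zpowers _)
  have h2 : pj j (jC h (-e3)) = 1 := pj_one.2 (by
    change j (-e3) ∈ _
    rw [jneg h]; exact inv_mem (mem_zpowers _))
  rcases split4 w with e | e | e <;> nth_rewrite 1 [e]
  · rfl
  · rw [jC_add, map_mul, h1, mul_one]; rfl
  · rw [jC_add, map_mul, h2, mul_one]; rfl

theorem of_pj_eq {g : CC j} {v : T3} (e : pj j g = jb h v) : ∃ w, (g : G) = j w := by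
  have : pj j ((jC h (ex4 v))⁻¹ * g) = 1 := by rw [map_mul, map_inv, e]; exact inv_mul_cancel _
  have h1 : ∃ u, (j (ex4 v))⁻¹ * g = j u := by
    rcases zp_cases h (pj_one.1 this) with e | e | e <;> exact ⟨_, e⟩
  obtain ⟨u, hu⟩ := h1
  exact ⟨ex4 v + u, by rw [h.add, ← hu, mul_inv_cancel_left]⟩

theorem pj_conj {g : CC j} {u w : W4} (e : (g : G) * j u * (g : G)⁻¹ = j w) :
    pj j g * jb h (pr3 u) * (pj j g)⁻¹ = jb h (pr3 w) := by
  rw [← pj_jC, ← pj_jC, ← map_inv, ← map_mul, ← map_mul]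
  exact congrArg _ (Subtype.ext e)

theorem mono_of {g : CC j} (e : ∀ v, ∃ w, pj j g * jb h v * (pj j g)⁻¹ = jb h w) :
    ∃ ε σ, Det1 ε σ ∧ ε * e3 ∘ σ = e3 ∧ ∀ v, (g : G) * j v * (g : G)⁻¹ = j (ε * v ∘ σ) := by
  have hc : (g : G) * j e3 = j e3 * g := mem_centralizer_singleton_iff.1 g.2
  obtain ⟨ε, σ, a, b⟩ := h.stab g (fun u => by
    obtain ⟨w, hw⟩ := e (pr3 u)
    rw [← pj_jC, ← map_inv, ← map_mul, ← map_mul] at hw
    exact of_pj_eq h hw) hc
  exact ⟨ε, σ, a, jinj h (by rw [← b, hc, mul_inv_cancel_right]), b⟩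

include h in
theorem exists_mono {ε : W4} {σ : Perm (Fin 4)} (a : Det1 ε σ) (b : ε * e3 ∘ σ = e3) :
    ∃ g : CC j, ∀ v, (g : G) * j v * (g : G)⁻¹ = j (ε * v ∘ σ) := by
  obtain ⟨n, hn⟩ := h.exM ε σ a
  refine ⟨⟨n, mem_centralizer_singleton_iff.2 ?_⟩, hn⟩
  have := hn e3
  rw [b] at this
  exact mul_inv_eq_iff_eq_mul.1 this

theorem jb_inj (v : T3) (e : jb h v = 1) : v = 0 := by
  refine ex4_zero v ?_
  rcases zp_cases h (pj_one.1 e) with e | e | e
  exacts [.inl (jinj h e), .inr (.inl (jinj h e)), .inr (.inr (jinj h e))]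

theorem jb_add (v w : T3) : jb h (v + w) = jb h v * jb h w := by
  rw [jb, ex4_add, jC_add, map_mul]; rfl

theorem d3 : D3 (jb h) := by
  refine ⟨jb_add h, jb_inj h, fun g e => ?_, fun x => ?_, fun g e => ?_⟩
  · obtain ⟨g, rfl⟩ := QuotientGroup.mk'_surjective _ g
    have e' : ∀ v, pj j g * jb h v * (pj j g)⁻¹ = jb h v := fun v =>
      mul_inv_eq_iff_eq_mul.2 (e v)
    obtain ⟨ε, σ, a, b, c⟩ := mono_of h fun v => ⟨v, e' v⟩
    have d := mono_triv ε σ a b fun v => by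
      have h1 := (pj_conj h (c (ex4 v))).symm.trans (e' v)
      refine sub_eq_zero.1 (jb_inj h _ ?_)
      have h2 := jb_add h (pr3 (ε * ex4 v ∘ σ) - v) v
      rw [sub_add_cancel, h1] at h2
      exact mul_right_cancel (h2.symm.trans (one_mul _).symm)
    obtain ⟨u, hu⟩ := h.cJ g fun v => mul_inv_eq_iff_eq_mul.1 (by rw [c, d])
    exact ⟨pr3 u, by rw [← pj_jC]; exact congrArg _ (Subtype.ext hu)⟩
  · obtain ⟨a, b, c⟩ := mono_ex x
    obtain ⟨g, hg⟩ := exists_mono h a b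
    exact ⟨pj j g, fun v => by rw [← c]; exact pj_conj h (hg (ex4 v))⟩
  · obtain ⟨g, rfl⟩ := QuotientGroup.mk'_surjective _ g
    obtain ⟨ε, σ, a, b, c⟩ := mono_of h e
    obtain ⟨x, hx⟩ := mono_st ε σ a b
    exact ⟨x, fun v => by rw [← hx]; exact pj_conj h (c (ex4 v))⟩

theorem mem_comm {ε u : W4} (a : Det1 ε 1) (b : ε * e3 ∘ (1 : Perm (Fin 4)) = e3)
    (c : ε * u ∘ (1 : Perm (Fin 4)) + -u = u) : jC h u ∈ commutator (CC j) := by
  obtain ⟨g, hg⟩ := exists_mono h a b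
  have : jC h u = ⁅g, jC h u⁆ := Subtype.ext (by
    change j u = g * j u * (g : G)⁻¹ * (j u)⁻¹
    rw [hg, ← jneg h, ← h.add, c])
  rw [this]
  exact commutator_mem_commutator (mem_top _) (mem_top _)

include h in
theorem card_ZZ : Nat.card (ZZ j) = 3 := by
  rw [Nat.card_congr (subgroupOfEquivOfLe (zpowers_le.2
    (mem_centralizer_singleton_iff.2 rfl))).toEquiv, Nat.card_zpowers, order_a h]

variable [Finite G]

theorem sigb {K : Subgroup (CC j ⧸ ZZ j)} (hK : (Nat.card K).Coprime 3)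
    (hn : ∀ v, jb h v ∈ normalizer (K : Set (CC j ⧸ ZZ j))) : K = ⊥ := by
  let J : Subgroup G :=
    { carrier := {g | ∃ v, g = j v}
      one_mem' := ⟨0, (j0 h).symm⟩
      mul_mem' := by
        rintro _ _ ⟨v, rfl⟩ ⟨w, rfl⟩
        exact ⟨v + w, (h.add v w).symm⟩
      inv_mem' := by
        rintro _ ⟨v, rfl⟩
        exact ⟨-v, (jneg h v).symm⟩ }
  have hJ : J ≤ CC j := by
    rintro _ ⟨v, rfl⟩
    exact (jC h v).2
  have h1 : Sig J (CC j) := fun K _ a b => h.sig K (fun v => b ⟨v, rfl⟩) a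
  have h2 : SigQ (ZZ j) (J.subgroupOf (CC j)) ⊤ := (h1.subgroupOf hJ).sigQ
    (IsPGroup.of_card (n := 1) (card_ZZ h)) fun g _ z hz => (mem_center_iff.1 (ZZ_le j hz) g).symm
  have h3 := h2 (K.comap (pj j)) (fun z hz => by
    rw [mem_comap, pj_one.2 hz]; exact one_mem _) le_top (by
      have := relIndex_ker (K.comap (pj j)) (pj j)
      rw [QuotientGroup.ker_mk', map_comap_eq_self_of_surjective (QuotientGroup.mk'_surjective _)]
        at this
      rwa [this]) (by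
      rintro g ⟨v, hv⟩
      refine le_normalizer_comap _ ?_
      rw [mem_comap, show g = jC h v from Subtype.ext hv, pj_jC]
      exact hn _)
  rw [eq_bot_iff]
  intro k hk
  obtain ⟨g, rfl⟩ := QuotientGroup.mk'_surjective _ k
  exact pj_one.2 (h3 hk)

theorem exists_st : ∃ φ : HH →* CC j ⧸ ZZ j, St φ ∧ (∀ v, φ (jj v) = jb h v) ∧ φ.range ≠ ⊤ := by
  obtain ⟨φ, h1, h2, h3⟩ := (d3 h).exists_hom
  obtain ⟨y, y3, yN, yJ, yc, y243⟩ := h.out
  let yC : CC j := ⟨y, mem_centralizer_singleton_iff.2 yc⟩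
  obtain ⟨x₀, hx₀⟩ : pj j yC ∈ φ.range := by
    rw [h3]
    refine mem_normalizer_fintype ?_
    rintro _ ⟨x, hx, rfl⟩
    obtain ⟨w, hw⟩ := yN (ex4 (vec x))
    refine ⟨jj (pr3 w), jj_mem _, ?_⟩
    rw [h2, ← pj_conj h (g := yC) hw, eq_jj x hx, h2]
    rfl
  have x3 : x₀ ^ 3 = 1 := h1 (by
    rw [map_pow, hx₀, ← map_pow, show yC ^ 3 = 1 from Subtype.ext y3, map_one, map_one])
  have xJ : x₀ ∉ JJ := fun hx => by
    rw [eq_jj x₀ hx, h2] at hx₀
    obtain ⟨w, hw⟩ := of_pj_eq h hx₀.symm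
    exact yJ w hw
  obtain ⟨c₀, hc₀⟩ := cube_conj x₀ x3 xJ
  have key : ∀ g, g * φ x₀ = φ x₀ * g → g ^ 3 ^ 6 = 1 := by
    intro g e
    obtain ⟨g, rfl⟩ := QuotientGroup.mk'_surjective _ g
    have e1 : pj j (g * yC * g⁻¹ * yC⁻¹) = 1 := by
      rw [map_mul, map_mul, map_mul, map_inv, map_inv, ← hx₀, e]; group
    have e2 := mem_center_iff.1 (ZZ_le j (pj_one.1 e1))
    have e3' : (g * yC * g⁻¹ * yC⁻¹) ^ 3 = 1 := Subtype.ext (by
      rcases zp_cases h (pj_one.1 e1) with e | e | e <;> rw [coe_pow, e] <;> exact jcube h _)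
    generalize hz : g * yC * g⁻¹ * yC⁻¹ = z at e2 e3'
    have e4 : g * yC = z * yC * g := by rw [← hz]; group
    have e5 : g ^ 3 * yC = yC * g ^ 3 := by
      have e6 : ∀ n : ℕ, g ^ n * yC = z ^ n * yC * g ^ n := by
        intro n
        induction n with
        | zero => simp
        | succ n ih =>
          calc g ^ (n + 1) * yC = g ^ n * (z * yC * g) := by rw [pow_succ, mul_assoc, e4]
            _ = z * (g ^ n * yC) * g := by rw [← mul_assoc, ← mul_assoc, e2]; group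
            _ = _ := by rw [ih]; group
      rw [e6, e3', one_mul]
    have e7 : ((g ^ 3 : CC j) : G) ∈ (centralizer {j ![0, 0, 0, 1]} ⊓ centralizer {y} : Subgroup G) :=
      ⟨(g ^ 3).2, mem_centralizer_singleton_iff.2 (congrArg Subtype.val e5)⟩
    have e8 := congrArg Subtype.val (pow_card_eq_one' (x := (⟨_, e7⟩ :
      (centralizer {j ![0, 0, 0, 1]} ⊓ centralizer {y} : Subgroup G))))
    rw [y243] at e8
    rw [← map_pow, show g ^ 3 ^ 6 = 1 from Subtype.ext (by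
      rw [show 3 ^ 6 = 3 * 243 by norm_num, pow_mul]; exact e8), map_one]
  refine ⟨φ, ⟨h1, h3, fun x hx x1 => ?_⟩, h2, fun e => ?_⟩
  · by_cases hxJ : x ∈ JJ
    · refine (map_eq_bot_iff_of_injective _ (subtype_injective _)).1 (sigb h ?_ fun v => ?_)
      · rw [card_map_of_injective (subtype_injective _)]
        exact H3.pPrimeCore_coprime 3 _
      · refine le_normalizer_map (Subgroup.subtype _) ⟨⟨jb h v, ?_⟩, ?_, rfl⟩
        · rw [eq_jj x hxJ, h2]
          exact mem_centralizer_singleton_iff.2 ((d3 h).comm _ _)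
        · rw [normalizer_eq_top]
          exact mem_top _
    · obtain ⟨c, hc⟩ := cube_conj x hx hxJ
      refine H3.pPrimeCore_eq_bot_iff.2 fun N _ hN => eq_bot_iff.2 fun g hg => ?_
      have e1 : (g : CC j ⧸ ZZ j) * φ x = φ x * g := mem_centralizer_singleton_iff.1 g.2
      have e2 : φ x = φ (c * c₀⁻¹) * φ x₀ * (φ (c * c₀⁻¹))⁻¹ := by
        rw [← map_inv, ← map_mul, ← map_mul, ← hc, ← hc₀]; group
      have e3' := key ((φ (c * c₀⁻¹))⁻¹ * g * (φ (c * c₀⁻¹))⁻¹⁻¹) (by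
        generalize (g : CC j ⧸ ZZ j) = g' at e1
        rw [e2] at e1
        generalize φ (c * c₀⁻¹) = t at e1
        calc t⁻¹ * g' * t⁻¹⁻¹ * φ x₀ = t⁻¹ * (g' * (t * φ x₀ * t⁻¹)) * t := by group
          _ = _ := by rw [e1]; group)
      rw [conj_pow, conj_eq_one_iff] at e3'
      have e4 : g ^ 3 ^ 6 = 1 := Subtype.ext e3'
      have e5 : g ^ Nat.card N = 1 := congrArg Subtype.val (pow_card_eq_one' (x := (⟨g, hg⟩ : N)))
      have e6 := Nat.dvd_gcd (orderOf_dvd_of_pow_eq_one e5) (orderOf_dvd_of_pow_eq_one e4)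
      rwa [Nat.Coprime.pow_right 6 hN, Nat.dvd_one, orderOf_eq_one_iff] at e6
  · let f : (centralizer {j ![0, 0, 0, 1]} ⊓ centralizer {y} : Subgroup G) →* CC j ⧸ ZZ j :=
      (pj j).comp (inclusion inf_le_left)
    have e1 := f.ker.index_mul_card
    rw [index_ker, y243] at e1
    have e2 : Nat.card f.ker ≤ 3 := by
      refine le_trans ?_ ((Nat.card_zpowers (j e3)).trans (order_a h)).le
      exact Nat.card_le_card_of_injective (fun g => ⟨g.1.1, pj_one.1 g.2⟩) fun a b e =>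
        Subtype.ext (Subtype.ext (congrArg (fun z : zpowers (j e3) => (z : G)) e))
    have e3' : Nat.card f.range ≤ 9 := by
      have : (f.range : Set (CC j ⧸ ZZ j)) ⊆ Set.range fun i : Fin 3 × Fin 3 =>
          φ (c₀ * (hs ^ i.1.val * hz ^ i.2.val) * c₀⁻¹) := by
        rintro _ ⟨g, rfl⟩
        obtain ⟨x, hx⟩ := e.ge (mem_top (f g))
        have c1 : x * x₀ = x₀ * x := h1 (by
          rw [map_mul, map_mul, hx, hx₀]
          change pj j _ * _ = _ * pj j _
          rw [← map_mul, ← map_mul]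
          exact congrArg _ (Subtype.ext (mem_centralizer_singleton_iff.1 g.2.2)))
        obtain ⟨a, b, c2⟩ := cent_s (c₀⁻¹ * x * c₀) (by
          rw [← hc₀] at c1
          calc c₀⁻¹ * x * c₀ * hs = c₀⁻¹ * (x * (c₀ * hs * c₀⁻¹)) * c₀ := by group
            _ = _ := by rw [c1]; group)
        exact ⟨(a, b), by simp only [← c2, ← hx]; group⟩
      exact (Nat.card_mono (Set.toFinite _) this).trans ((Finite.card_range_le _).trans (by simp))
    nlinarith

theorem m1 : swap 0 1 * swap 1 2 ∈ A6 := Perm.mem_alternatingGroup.2 (by decide)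

theorem m2 : t6 ∈ A6 := Perm.mem_alternatingGroup.2 (by decide)

/-- Piece A9. -/
theorem a9 : A9Stmt.{u} := by
  intro G _ _ j ι h
  obtain ⟨φ, hS, h2, h3⟩ := exists_st h
  have hn : ¬ normalizer (zpowers (φ hc) : Set (CC j ⧸ ZZ j)) ≤ φ.range := fun hn => by
    refine h3 (H12.L3.M5.top ⟨hS.inj, fun x hx x1 y hy g e => hS.ti' ?_ (e ▸ St.inJ y hy)⟩)
    obtain ⟨c, rfl | rfl | rfl⟩ := jj_types x hx x1
    exacts [St.cjC (hS.ce_le.trans hn) c, St.cjC hS.cb c, St.cjC hS.ca c]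
  obtain ⟨κ, hk⟩ := hS.exists_K6 hn
  obtain ⟨ψ, p1, p2, p3⟩ := hS.exists_psi hk
  obtain ⟨e⟩ := hS.iso hk
  have p4 : Function.Surjective ψ :=
    ((Nat.bijective_iff_injective_and_card ψ).2 ⟨p1, (Nat.card_congr e.toEquiv).symm⟩).2
  have hZ : ∀ z ∈ commutator (CC j), pj j z = 1 → z = 1 := by
    intro z hz e1
    by_contra z1
    have : ZZ j ≤ commutator (CC j) := by
      have ha : jC h e3 ∈ commutator (CC j) := by
        rcases mem_zp3 (jcube h _) (pj_one.1 e1) with e | e | e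
        · exact absurd (Subtype.ext e) z1
        · exact (show z = jC h e3 from Subtype.ext e) ▸ hz
        · exact inv_mem_iff.1 ((show z = (jC h e3)⁻¹ from Subtype.ext e) ▸ hz)
      rintro w ⟨i, hi⟩
      exact (show jC h e3 ^ i = w from Subtype.ext hi) ▸ zpow_mem ha i
    have := S0892.result 9 (by norm_num) (by norm_num) (by norm_num) (ZZ j) (ZZ_le j) this e
    rw [card_ZZ h] at this
    omega
  let q : commutator (CC j) →* CC j ⧸ ZZ j := (pj j).comp (Subgroup.subtype _)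
  have hq : Function.Bijective q := by
    refine ⟨(injective_iff_map_eq_one q).2 fun z e1 => Subtype.ext (hZ z z.2 e1), fun x => ?_⟩
    have c1 : commutator (CC j ⧸ ZZ j) = ⊤ := by
      have := map_commutator_eq _ ψ
      rwa [commutator_alternatingGroup_eq_top (by simp), ← MonoidHom.range_eq_map,
        MonoidHom.range_eq_top.2 p4, eq_comm] at this
    have c2 := map_commutator_eq _ (pj j)
    rw [MonoidHom.range_eq_top.2 (QuotientGroup.mk'_surjective _)] at c2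
    obtain ⟨z, hz, rfl⟩ := c2.ge (c1.ge (mem_top x))
    exact ⟨⟨z, hz⟩, rfl⟩
  let E := MulEquiv.ofBijective q hq
  let θ : H99.HN.A9 →* G := ((CC j).subtype.comp (Subgroup.subtype _)).comp
    (E.symm.toMonoidHom.comp ψ)
  have hθ : ∀ γ (z : CC j) (hz : z ∈ commutator (CC j)), ψ γ = pj j z → θ γ = z := by
    intro γ z hz e1
    change ((E.symm (ψ γ) : CC j) : G) = z
    rw [e1, show pj j z = E ⟨z, hz⟩ from rfl, E.symm_apply_apply]
  refine ⟨θ, ((subtype_injective _).comp (subtype_injective _)).comp (E.symm.injective.comp p1),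
    hθ _ (jC h _) (mem_comm h (ε := ![-1, -1, 1, 1]) (by decide) (by decide) (by decide)) ?_,
    hθ _ (jC h _) (mem_comm h (ε := ![-1, -1, 1, 1]) (by decide) (by decide) (by decide)) ?_,
    hθ _ (jC h _) (mem_comm h (ε := ![1, -1, -1, 1]) (by decide) (by decide) (by decide)) ?_,
    fun γ => mem_centralizer_singleton_iff.1 (E.symm (ψ γ)).1.2, fun g hg => ?_⟩
  · rw [pj_jC, ← h2, show dd 0 1 1 2 = up6 ⟨swap 0 1 * swap 1 2, m1⟩ by decide +kernel, p2]
    exact hk.ka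
  · rw [pj_jC, ← h2, show dd 3 4 4 5 = up6 ⟨t6, m2⟩ by decide +kernel, p2]
    exact hk.kb
  · rw [pj_jC, ← h2, show dd 6 7 7 8 = g9 * up6 ⟨t6, m2⟩ * g9⁻¹ by decide +kernel, p3]
    exact St.kpt hk
  · let g' : CC j := ⟨g, mem_centralizer_singleton_iff.2 hg⟩
    obtain ⟨γ, hγ⟩ := p4 (pj j g')
    obtain ⟨z, hz⟩ := hq.2 (pj j g')
    have e1 : pj j (g' * (z : CC j)⁻¹) = 1 := by
      rw [map_mul, map_inv, ← hz]; exact mul_inv_cancel _
    obtain ⟨i, hi⟩ := mem_powers_iff_mem_zpowers.2 (pj_one.1 e1)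
    refine ⟨i, γ, ?_⟩
    rw [hθ γ z z.2 (hγ.trans hz.symm)]
    exact eq_mul_of_mul_inv_eq hi.symm

end Cfsg.Agent.H61.HnA9
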