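import Cfsg.Agent.H12.N9F

/-! Project HN3, piece A9: recognising the group `3³ : S₄`. -/

set_option autoImplicit false
set_option synthInstance.maxSize 4096
set_option maxRecDepth 20000

namespace Cfsg.Agent.H61.HnA9

open Subgroup Cfsg Cfsg.Agent.H93.Hay DihedralGroup

/-- coordinates -/
abbrev T3 : Type := ZMod 3 × ZMod 3 × ZMod 3

/-- the translations -/
def jj (v : T3) : HH := ⟨⟨(r v.1, r v.2.1, r v.2.2), 1⟩, rfl⟩

/-- translation part -/
def co : DihedralGroup 3 → ZMod 3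
  | r i => i
  | sr i => -i

/-- sign -/
def sg : DihedralGroup 3 → ZMod 3
  | r _ => 1
  | sr _ => -1

/-- permuting the coordinates -/
def actT : DihedralGroup 3 → T3 → T3
  | r i, u => if i = 0 then u else if i = 1 then (u.2.2, u.1, u.2.1) else (u.2.1, u.2.2, u.1)
  | sr i, u => if i = 0 then (u.2.1, u.1, u.2.2) else if i = 1 then (u.1, u.2.2, u.2.1)
      else (u.2.2, u.2.1, u.1)

/-- the translation vector -/
def vec (x : HH) : T3 := (co x.1.b.1, co x.1.b.2.1, co x.1.b.2.2)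

/-- the linear action -/
def ac (x : HH) (v : T3) : T3 :=
  (sg x.1.b.1 * (actT x.1.p v).1, sg x.1.b.2.1 * (actT x.1.p v).2.1,
    sg x.1.b.2.2 * (actT x.1.p v).2.2)

theorem co_mul (d e : DihedralGroup 3) : co (d * e) = co d + sg d * co e := by
  revert d e; decide

theorem vec_mul (x y : HH) : vec (x * y) = vec x + ac x (vec y) := by
  obtain ⟨⟨b, p⟩, hx⟩ := x
  rcases d3_cases p with rfl | rfl | rfl | rfl | rfl | rfl <;>
    exact Prod.ext (co_mul _ _) (Prod.ext (co_mul _ _) (co_mul _ _))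

theorem ac_add (x : HH) (v w : T3) : ac x (v + w) = ac x v + ac x w := by
  obtain ⟨⟨b, p⟩, hx⟩ := x
  rcases d3_cases p with rfl | rfl | rfl | rfl | rfl | rfl <;>
    exact Prod.ext (mul_add _ _ _) (Prod.ext (mul_add _ _ _) (mul_add _ _ _))

theorem vec_jj (v : T3) : vec (jj v) = v := rfl

theorem ac_mul (x y : HH) (v : T3) : ac (x * y) v = ac x (ac y v) := by
  have h1 := vec_mul (x * y) (jj v)
  rw [mul_assoc, vec_mul, vec_mul, vec_mul, ac_add, vec_jj, add_assoc] at h1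
  exact (add_left_cancel (add_left_cancel h1)).symm

theorem ac_jj (w v : T3) : ac (jj w) v = v :=
  Prod.ext (one_mul _) (Prod.ext (one_mul _) (one_mul _))

theorem ac_one (v : T3) : ac 1 v = v := ac_jj 0 v

theorem jj_mem (v : T3) : jj v ∈ JJ := by revert v; decide +kernel

theorem eq_jj (x : HH) (h : x ∈ JJ) : x = jj (vec x) := by revert x; decide +kernel

theorem mem_JJ_of_ac (x : HH) (h1 : ac x (1, 0, 0) = (1, 0, 0)) (h2 : ac x (0, 1, 0) = (0, 1, 0))
    (h3 : ac x (0, 0, 1) = (0, 0, 1)) : x ∈ JJ := by revert x; decide +kernel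

theorem sq_mem (x : HH) (h : pr x = 1) : x * x ∈ JJ := by revert x; decide +kernel

theorem fix0 (w : T3) (h1 : ac ht w = w) (h2 : ac (hs * ht * hs⁻¹) w = w) : w = 0 := by
  revert w; decide +kernel

variable {X : Type*} [Group X]

/-- `n` acts like `x` -/
def Acts (jb : T3 → X) (n : X) (x : HH) : Prop := ∀ v, n * jb v * n⁻¹ = jb (ac x v)

/-- the data -/
structure D3 (jb : T3 → X) : Prop where
  add : ∀ v w, jb (v + w) = jb v * jb w
  inj : ∀ v, jb v = 1 → v = 0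
  cJ : ∀ g, (∀ v, g * jb v = jb v * g) → ∃ v, g = jb v
  ex : ∀ x, ∃ n, Acts jb n x
  st : ∀ n, (∀ v, ∃ w, n * jb v * n⁻¹ = jb w) → ∃ x, Acts jb n x

theorem Acts.mul {jb : T3 → X} {n m : X} {x y : HH} (h : Acts jb n x) (h' : Acts jb m y) :
    Acts jb (n * m) (x * y) := fun v => by
  rw [ac_mul, ← h, ← h']; group

theorem Acts.inv {jb : T3 → X} {n : X} {x : HH} (h : Acts jb n x) : Acts jb n⁻¹ x⁻¹ := fun v => by
  have := h (ac x⁻¹ v)
  rw [← ac_mul, mul_inv_cancel, ac_one] at this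
  rw [← this]; group

theorem acts_one (jb : T3 → X) : Acts jb 1 1 := fun v => by rw [ac_one]; group

theorem Acts.of_mem {jb : T3 → X} {n : X} {x : HH} (h : Acts jb n x) (hx : x ∈ JJ) :
    Acts jb n 1 := fun v => by rw [h, eq_jj x hx, ac_jj, ac_one]

namespace D3

variable {jb : T3 → X} (h : D3 jb)
include h

theorem zero : jb 0 = 1 := by
  have := h.add 0 0
  rw [add_zero] at this
  exact mul_left_cancel (this.symm.trans (mul_one _).symm)

theorem neg (v : T3) : jb (-v) = (jb v)⁻¹ :=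
  eq_inv_of_mul_eq_one_left (by rw [← h.add, neg_add_cancel, h.zero])

theorem inj' {v w : T3} (e : jb v = jb w) : v = w :=
  sub_eq_zero.1 (h.inj _ (by rw [sub_eq_add_neg, h.add, h.neg, e, mul_inv_cancel]))

theorem comm (v w : T3) : jb v * jb w = jb w * jb v := by rw [← h.add, ← h.add, add_comm]

theorem cube (v : T3) : jb v ^ 3 = 1 := by
  rw [pow_three, ← h.add, ← h.add, show v + (v + v) = 0 by revert v; decide, h.zero]

theorem acts (v : T3) : Acts jb (jb v) 1 := fun w => by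
  rw [ac_one, h.comm, mul_inv_cancel_right]

theorem of_one {n : X} (e : Acts jb n 1) : ∃ v, n = jb v :=
  h.cJ n fun v => by
    have := e v
    rw [ac_one] at this
    exact mul_inv_eq_iff_eq_mul.1 this

theorem mem_JJ {n : X} {x : HH} (e : Acts jb n x) (e' : Acts jb n 1) : x ∈ JJ := by
  have : ∀ v, ac x v = v := fun v => h.inj' (by rw [← e, e', ac_one])
  exact mem_JJ_of_ac x (this _) (this _) (this _)

/-- the subgroup of translations -/
def J : Subgroup X where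
  carrier := {g | ∃ v, g = jb v}
  one_mem' := ⟨0, h.zero.symm⟩
  mul_mem' := by
    rintro _ _ ⟨v, rfl⟩ ⟨w, rfl⟩
    exact ⟨v + w, (h.add v w).symm⟩
  inv_mem' := by
    rintro _ ⟨v, rfl⟩
    exact ⟨-v, (h.neg v).symm⟩

theorem compl [Finite X] (hall : ∀ n, ∃ x, Acts jb n x) : ∃ Y : Subgroup X,
    (∀ x, ∃ y ∈ Y, Acts jb y x) ∧ ∀ y ∈ Y, Acts jb y 1 → y = 1 := by
  let D : Subgroup X :=
    { carrier := {n | ∃ x, pr x = 1 ∧ Acts jb n x}
      one_mem' := ⟨1, map_one _, acts_one jb⟩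
      mul_mem' := by
        rintro n m ⟨x, a, b⟩ ⟨y, c, d⟩
        exact ⟨x * y, by rw [map_mul, a, c, mul_one], b.mul d⟩
      inv_mem' := by
        rintro n ⟨x, a, b⟩
        exact ⟨x⁻¹, by rw [map_inv, a, inv_one], b.inv⟩ }
  haveI hD : D.Normal := ⟨by
    rintro n ⟨x, a, b⟩ m
    obtain ⟨y, c⟩ := hall m
    exact ⟨y * x * y⁻¹, by rw [map_mul, map_mul, a, mul_one, ← map_mul, mul_inv_cancel, map_one],
      (c.mul b).mul c.inv⟩⟩
  haveI hJ : h.J.Normal := ⟨by
    rintro _ ⟨v, rfl⟩ m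
    obtain ⟨y, c⟩ := hall m
    exact ⟨_, c v⟩⟩
  haveI : Fact (Nat.Prime 2) := ⟨Nat.prime_two⟩
  obtain ⟨P⟩ : Nonempty (Sylow 2 D) := inferInstance
  have hDP : ∀ d ∈ D, ∃ p ∈ (P : Subgroup D).map D.subtype, ∃ v, d = p * jb v := by
    have hQ : IsPGroup 2 (⊤ : Subgroup (D ⧸ h.J.subgroupOf D)) := by
      rintro ⟨q, -⟩
      obtain ⟨⟨x, y, a, b⟩, rfl⟩ := QuotientGroup.mk_surjective q
      refine ⟨1, Subtype.ext ?_⟩
      change ((⟨x, y, a, b⟩ : D) : D ⧸ h.J.subgroupOf D) ^ 2 ^ 1 = 1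
      rw [← QuotientGroup.mk_pow, QuotientGroup.eq_one_iff, pow_one, sq]
      exact h.of_one ((b.mul b).of_mem (sq_mem y a))
    have h1 := (P.mapSurjective (QuotientGroup.mk'_surjective (h.J.subgroupOf D))).is_maximal'
      hQ le_top
    rw [Sylow.coe_mapSurjective] at h1
    intro d hd
    obtain ⟨p, hp, e⟩ := h1.le (mem_top (QuotientGroup.mk ⟨d, hd⟩))
    obtain ⟨v, hv⟩ := QuotientGroup.eq.1 e
    exact ⟨p, ⟨p, hp, rfl⟩, v, by rw [← hv]; simp⟩
  set P' := (P : Subgroup D).map D.subtype with hP'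
  have h2 : IsPGroup 2 P' := P.2.map _
  have hF := P.normalizer_sup_eq_top
  refine ⟨normalizer (P' : Set X), fun x => ?_, fun y hy e => ?_⟩
  · obtain ⟨n, hn⟩ := h.ex x
    obtain ⟨y, hy, d, hd, rfl⟩ := mem_sup_of_normal_right.1 (hF.ge (mem_top n))
    obtain ⟨p, hp, v, rfl⟩ := hDP d hd
    refine ⟨y * p, mul_mem hy (le_normalizer hp), ?_⟩
    have := hn.mul (h.acts v).inv
    rwa [← mul_assoc, mul_inv_cancel_right, inv_one, mul_one] at this
  · obtain ⟨w, rfl⟩ := h.of_one e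
    have key : ∀ x : HH, pr x = 1 → ac x w = w := by
      intro x hx
      obtain ⟨n, hn⟩ := h.ex x
      obtain ⟨p, hp, v, rfl⟩ := hDP n ⟨x, hx, hn⟩
      have hp' : Acts jb p x := by
        have := hn.mul (h.acts v).inv
        rwa [mul_inv_cancel_right, inv_one, mul_one] at this
      have h3 : p * (jb w * p⁻¹ * (jb w)⁻¹) ∈ P' :=
        mul_mem hp ((mem_normalizer_iff.1 hy _).1 (inv_mem hp))
      have h4 : p * (jb w * p⁻¹ * (jb w)⁻¹) = jb (ac x w - w) := by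
        rw [sub_eq_add_neg, h.add, h.neg, ← hp']; group
      rw [h4] at h3
      obtain ⟨k, hk⟩ := h2 ⟨_, h3⟩
      have h5 : jb (ac x w - w) ^ 2 ^ k = 1 := congrArg Subtype.val hk
      have h6 := Nat.dvd_gcd (orderOf_dvd_of_pow_eq_one h5) (orderOf_dvd_of_pow_eq_one (h.cube _))
      rw [Nat.Coprime.pow_left k (by norm_num : Nat.Coprime 2 3), Nat.dvd_one,
        orderOf_eq_one_iff] at h6
      exact sub_eq_zero.1 (h.inj _ h6)
    rw [fix0 w (key _ (by decide)) (key _ (by decide)), h.zero]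

theorem exists_hom' [Finite X] (hall : ∀ n, ∃ x, Acts jb n x) : ∃ φ : HH →* X,
    Function.Bijective φ ∧ ∀ v, φ (jj v) = jb v := by
  obtain ⟨Y, h1, h2⟩ := h.compl hall
  choose y hy hy' using h1
  have uniq : ∀ x, ∀ n ∈ Y, Acts jb n x → n = y x := fun x n hn e => by
    have := h2 _ (mul_mem hn (inv_mem (hy x))) (mul_inv_cancel x ▸ e.mul (hy' x).inv)
    exact mul_inv_eq_one.1 this
  have ym : ∀ x x', y (x * x') = y x * y x' := fun x x' =>
    (uniq _ _ (mul_mem (hy x) (hy x')) ((hy' x).mul (hy' x'))).symm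
  have yj : ∀ x ∈ JJ, y x = 1 := fun x hx => h2 _ (hy x) ((hy' x).of_mem hx)
  let φ : HH →* X := MonoidHom.mk' (fun x => jb (vec x) * y x) fun x x' => by
    rw [vec_mul, h.add, ← hy' x, ym]; group
  have hφ : ∀ x, Acts jb (φ x) x := fun x => by
    have := (h.acts (vec x)).mul (hy' x)
    rwa [one_mul] at this
  have hj : ∀ v, φ (jj v) = jb v := fun v => by
    change jb (vec (jj v)) * y (jj v) = _
    rw [yj _ (jj_mem v), vec_jj, mul_one]
  refine ⟨φ, ⟨(injective_iff_map_eq_one φ).2 fun x e => ?_, fun n => ?_⟩, hj⟩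
  · have hx := h.mem_JJ (hφ x) (e ▸ acts_one jb)
    rw [eq_jj x hx, hj] at e
    rw [eq_jj x hx, h.inj _ e]
    rfl
  · obtain ⟨x, hx⟩ := hall n
    obtain ⟨w, e⟩ := h.of_one (mul_inv_cancel x ▸ hx.mul (hφ x).inv)
    exact ⟨jj w * x, by rw [map_mul, hj, ← e, inv_mul_cancel_right]⟩

theorem exists_hom [Finite X] : ∃ φ : HH →* X, Function.Injective φ ∧ (∀ v, φ (jj v) = jb v) ∧
    φ.range = normalizer ((JJ.map φ : Subgroup X) : Set X) := by
  let N := normalizer (h.J : Set X)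
  have hN : ∀ n, (∀ v, ∃ w, n * jb v * n⁻¹ = jb w) → n ∈ N := fun n hn =>
    mem_normalizer_fintype (by
      rintro _ ⟨v, rfl⟩
      exact hn v)
  have hN' : ∀ n ∈ N, ∀ v, ∃ w, n * jb v * n⁻¹ = jb w := fun n hn v =>
    (mem_normalizer_iff.1 hn _).1 ⟨v, rfl⟩
  let jb' : T3 → N := fun v => ⟨jb v, le_normalizer ⟨v, rfl⟩⟩
  have hall : ∀ n : N, ∃ x, Acts jb' n x := fun n => by
    obtain ⟨x, hx⟩ := h.st n (hN' n n.2)
    exact ⟨x, fun v => Subtype.ext (hx v)⟩
  have h' : D3 jb' := ⟨fun v w => Subtype.ext (h.add v w), fun v e => h.inj v (congrArg Subtype.val e),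
    fun g e => by
      obtain ⟨v, hv⟩ := h.cJ g fun v => congrArg Subtype.val (e v)
      exact ⟨v, Subtype.ext hv⟩,
    fun x => by
      obtain ⟨n, hn⟩ := h.ex x
      exact ⟨⟨n, hN n fun v => ⟨_, hn v⟩⟩, fun v => Subtype.ext (hn v)⟩,
    fun n _ => hall n⟩
  obtain ⟨φ, ⟨h1, h2⟩, h3⟩ := h'.exists_hom' hall
  have h4 : ∀ v, N.subtype.comp φ (jj v) = jb v := fun v => congrArg Subtype.val (h3 v)
  refine ⟨N.subtype.comp φ, N.subtype_injective.comp h1, h4, ?_⟩
  have h5 : JJ.map (N.subtype.comp φ) = h.J := by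
    ext g
    constructor
    · rintro ⟨x, hx, rfl⟩
      exact ⟨vec x, by rw [← h4, ← eq_jj x hx]⟩
    · rintro ⟨v, rfl⟩
      exact ⟨jj v, jj_mem v, h4 v⟩
  rw [h5, MonoidHom.range_comp, MonoidHom.range_eq_top.2 h2, ← MonoidHom.range_eq_map,
    range_subtype]

end D3

end Cfsg.Agent.H61.HnA9
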