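import Cfsg.Agent.H76.K4Defs
import Cfsg.Agent.H8.K4Ar
import Cfsg.Agent.H3.K4L3

/-! Principal blocks with four characters and rank three, from the numerical data. -/

set_option autoImplicit false

namespace Cfsg.Agent.H61.K4Short

open Cfsg Cfsg.Agent.H17 Cfsg.Agent.H23.SecT Cfsg.Agent.H23.KL Cfsg.Agent.H76.K4
open scoped Classical

universe u

theorem conv (q x y z : ℤ) (hq : q = 1 + x ^ 2 + y ^ 2 + z ^ 2)
    (h : ∀ w1 w2 w3 : ℤ, (x * w1 + y * w2 + z * w3) * (x * w1 + y * w2 + z * w3 + 1) ≤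
      q * (w1 ^ 2 + w2 ^ 2 + w3 ^ 2)) (a b c d : ℤ) (hb : q ∣ b - a * x) (hc : q ∣ c - a * y)
    (hd : q ∣ d - a * z) : q * a ≤ a ^ 2 + b ^ 2 + c ^ 2 + d ^ 2 := by
  obtain ⟨w1, h1⟩ := hb
  obtain ⟨w2, h2⟩ := hc
  obtain ⟨w3, h3⟩ := hd
  have hq0 : 0 < q := by rw [hq]; positivity
  have h4 := h (-w1) (-w2) (-w3)
  obtain rfl : b = a * x + q * w1 := by linarith
  obtain rfl : c = a * y + q * w2 := by linarith
  obtain rfl : d = a * z + q * w3 := by linarith
  obtain ⟨s, hs⟩ : ∃ s, s = x * -w1 + y * -w2 + z * -w3 := ⟨_, rfl⟩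
  rw [← hs] at h4
  have h5 : 0 ≤ (a - s) * (a - s - 1) := by
    rcases le_or_gt (a - s) 0 with h6 | h6
    · exact mul_nonneg_of_nonpos_of_nonpos h6 (by linarith)
    · exact mul_nonneg h6.le (by linarith)
  have e : a ^ 2 + (a * x + q * w1) ^ 2 + (a * y + q * w2) ^ 2 + (a * z + q * w3) ^ 2 - q * a =
      q * ((a - s) * (a - s - 1) + (q * ((-w1) ^ 2 + (-w2) ^ 2 + (-w3) ^ 2) - s * (s + 1))) := by
    rw [hs]; linear_combination (-a ^ 2) * hq
  have := mul_nonneg hq0.le (add_nonneg h5 (sub_nonneg.2 h4))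
  linarith

theorem a16 (set : SetStmt.{u}) (small : SmallStmt.{u}) {G : Type u} [Group G] [Finite G] (p : ℕ)
    [Fact p.Prime] (M : Ideal AlgInt) (hM : IsPModular p M)
    (hk : Nat.card (principalBlock M G) = 4) (hl : blockRank p (principalBlock M G) = 3)
    (D : Sylow p G) :
    p = 2 ∧ Nat.card (D : Subgroup G) = 4 ∧ IsElementaryAbelian 2 (D : Subgroup G) := by
  letI := Fintype.ofFinite G
  haveI := H13.finite_irrCharacter (G := G)
  letI := Fintype.ofFinite (IrrCharacter G)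
  have hp := (Fact.out : p.Prime)
  have hB : IsPBlock M (principalBlock M G) := H17.isPBlock_principalBlock
  have hD := H17.dg_principal hM D
  have h2 := H17.dg_card hM hB hD
  have hd : blockDefect p (principalBlock M G) ≠ 0 := fun h0 => by
    have := H21.card_eq_one_of_defect_zero hM hB h0
    omega
  have hD1 : (D : Subgroup G) ≠ ⊥ := fun e => by
    rw [e, Subgroup.card_bot] at h2
    exact hd ((Nat.pow_eq_one.mp h2.symm).resolve_left hp.one_lt.ne')
  obtain ⟨u, a, m, ha, h1, -, -, -, hw⟩ := set G p M hM (by omega) D hD1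
  obtain ⟨s2, s3, s7⟩ := small G p M hM hk D
  have htr : H21.triv G ∈ fB (principalBlock M G) := mem_fB.mpr (H21.triv_mem_principal hM.2.1)
  have hc : (fB (principalBlock M G)).card = 4 := by
    rw [← hk, Nat.card_eq_fintype_card, Fintype.card_subtype]
  have hc2 : ((fB (principalBlock M G)).erase (H21.triv G)).card = 3 := by
    rw [Finset.card_erase_of_mem htr, hc]
  obtain ⟨χ, ψ, η, n1, n2, n3, he⟩ := Finset.card_eq_three.mp hc2
  have hsum : ∀ f : IrrCharacter G → ℤ,
      ∑ ξ ∈ fB (principalBlock M G), f ξ = f (H21.triv G) + (f χ + (f ψ + f η)) := by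
    intro f
    rw [← Finset.add_sum_erase _ _ htr, he, Finset.sum_insert (by simp [n1, n2]),
      Finset.sum_pair n3]
  have t : ∀ ξ ∈ ({χ, ψ, η} : Finset (IrrCharacter G)), H21.triv G ≠ ξ := fun ξ hξ =>
    (Finset.ne_of_mem_erase (he ▸ hξ)).symm
  have t1 := t χ (by simp)
  have t2 := t ψ (by simp)
  have t3 := t η (by simp)
  have a1 : a (H21.triv G) = 1 := by
    have := ha (H21.triv G)
    rw [H21.triv_apply] at this
    exact_mod_cast this.symm
  rw [hsum, a1] at h1
  have hq : ((Nat.card (D : Subgroup G) : ℕ) : ℤ) = 1 + a χ ^ 2 + a ψ ^ 2 + a η ^ 2 := by linarith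
  have H := conv _ _ _ _ hq (fun w1 w2 w3 => by
    have := hw (fun ξ => if ξ = χ then w1 else if ξ = ψ then w2 else if ξ = η then w3 else 0)
      (by simp [t1, t2, t3])
    rw [hsum, hsum] at this
    simp only [t1, t2, t3, n1.symm, n2.symm, n3.symm, if_true, if_false] at this
    linarith)
  refine H3.K4L3.main p M hM hk hl D (Or.inl ?_)
  obtain ⟨n, hn⟩ := IsPGroup.iff_card.mp D.isPGroup'
  have hne : Nat.card (D : Subgroup G) ≠ 1 := fun e => hD1 (Subgroup.card_eq_one.mp e)
  by_cases hp2 : p = 2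
  · subst hp2
    have h8 := H8.K4Ar.not_eight _ _ _ _ hq
    rcases n with _ | _ | _ | n
    · exact absurd (by simpa using hn) hne
    · exact absurd (by simpa using hn) s2
    · simpa using hn
    · exfalso
      apply h8
      rw [hn]
      exact ⟨2 ^ n, by push_cast; ring⟩
  · exfalso
    have ho : Nat.card (D : Subgroup G) % 2 = 1 := by
      rw [hn]; exact Nat.odd_iff.mp ((hp.odd_of_ne_two hp2).pow)
    have := H8.K4Ar.ar _ _ _ _ hq (by omega) H
    have h15 : p ^ n = 15 := by omega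
    have d3 := (Nat.prime_dvd_prime_iff_eq Nat.prime_three hp).mp
      (Nat.prime_three.dvd_of_dvd_pow (h15 ▸ (by norm_num : 3 ∣ 15)))
    have d5 := (Nat.prime_dvd_prime_iff_eq Nat.prime_five hp).mp
      (Nat.prime_five.dvd_of_dvd_pow (h15 ▸ (by norm_num : 5 ∣ 15)))
    omega

end Cfsg.Agent.H61.K4Short
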