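import Cfsg.Agent.H44.K5Defs

set_option autoImplicit false

namespace Cfsg.Agent.H61.K5Herm

open Matrix

def blk {m : ℕ} (a : ℤ) (r : Fin m → ℤ) (D : Matrix (Fin m) (Fin m) ℤ) :
    Matrix (Fin (m + 1)) (Fin (m + 1)) ℤ :=
  of fun i j => Fin.cases (Fin.cases a r j) (fun i' => Fin.cases 0 (D i') j) i

theorem det_blk {m : ℕ} (a : ℤ) (r : Fin m → ℤ) (D : Matrix (Fin m) (Fin m) ℤ) :
    (blk a r D).det = a * D.det := by
  rw [det_succ_column_zero, Fin.sum_univ_succ]
  have : (blk a r D).submatrix (Fin.succAbove 0) Fin.succ = D := by ext i j; simp [blk]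
  rw [this]; simp [blk]

theorem entry {m : ℕ} (A U : Matrix (Fin m) (Fin m) ℤ) (i j : Fin m) :
    (Uᵀ * A * U) i j = (fun k => U k i) ⬝ᵥ A *ᵥ (fun k => U k j) := by
  rw [Matrix.mul_assoc]; simp [mul_apply, dotProduct, mulVec]

theorem quad {m : ℕ} (A : Matrix (Fin (m + 1)) (Fin (m + 1)) ℤ) (hs : Aᵀ = A) (k l : ℤ)
    (y z : Fin m → ℤ) : (Fin.cons k y : Fin (m + 1) → ℤ) ⬝ᵥ A *ᵥ (Fin.cons l z) =
      A 0 0 * k * l + k * ((fun i => A 0 i.succ) ⬝ᵥ z) + l * ((fun i => A 0 i.succ) ⬝ᵥ y) +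
        y ⬝ᵥ (A.submatrix Fin.succ Fin.succ) *ᵥ z := by
  have h : ∀ i : Fin m, A i.succ 0 = A 0 i.succ := fun i => by
    conv_lhs => rw [← hs]
    rfl
  simp only [dotProduct, mulVec, Fin.sum_univ_succ, Fin.cons_zero, Fin.cons_succ, submatrix_apply, h,
    mul_add, Finset.sum_add_distrib, Finset.mul_sum]
  have : ∑ i, y i * (A 0 i.succ * l) = ∑ i, l * (A 0 i.succ * y i) :=
    Finset.sum_congr rfl fun i _ => by ring
  rw [this]; ring

theorem herm : Cfsg.Agent.H44.K5.HermStmt := by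
  intro n
  induction n with
  | zero => intro A _ _; exact ⟨1, by simp, by simp⟩
  | succ n ih =>
    intro A0 hs0 hp0
    have hex : ∃ t : ℕ, ∃ U : Matrix (Fin (n + 2)) (Fin (n + 2)) ℤ, IsUnit U.det ∧
        ((Uᵀ * A0 * U) 0 0).toNat = t := ⟨_, 1, by simp, rfl⟩
    classical
    obtain ⟨U, hU, hUt⟩ := Nat.find_spec hex
    refine ⟨U, hU, ?_⟩
    obtain ⟨A, hA⟩ : ∃ A, A = Uᵀ * A0 * U := ⟨_, rfl⟩
    have hs : Aᵀ = A := by rw [hA, transpose_mul, transpose_mul, hs0, transpose_transpose, Matrix.mul_assoc]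
    have hp : ∀ x : Fin (n + 2) → ℤ, x ≠ 0 → 0 < x ⬝ᵥ A *ᵥ x := fun x hx => by
      have := hp0 (U *ᵥ x) (fun e => hx (eq_zero_of_mulVec_eq_zero hU.ne_zero e))
      rwa [hA, ← mulVec_mulVec, ← mulVec_mulVec, dotProduct_mulVec, vecMul_transpose]
    have hd : A.det = A0.det := by
      rw [hA, det_mul, det_mul, det_transpose]
      rcases Int.isUnit_iff.mp hU with e | e <;> rw [e] <;> ring
    have ha : 0 < A 0 0 := by
      have := hp (Pi.single 0 1) (by simp)
      simpa using this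
    have hmin : ∀ W : Matrix (Fin (n + 2)) (Fin (n + 2)) ℤ, IsUnit W.det → ∀ i, 0 ≤ (Wᵀ * A * W) i i →
        A 0 0 ≤ (Wᵀ * A * W) i i := fun W hW i h0 => by
      have h1 := Nat.find_min' hex ⟨(U * W).submatrix id (Equiv.swap 0 i), by
        rw [det_permute', det_mul]
        exact (Int.isUnit_iff.2 (by
          rcases Int.units_eq_one_or (Equiv.Perm.sign (Equiv.swap 0 i)) with e | e <;> simp [e])).mul
          (hU.mul hW), rfl⟩
      have e : (((U * W).submatrix id (Equiv.swap 0 i))ᵀ * A0 * (U * W).submatrix id (Equiv.swap 0 i)) 0 0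
          = (Wᵀ * A * W) i i := by
        have : Wᵀ * A * W = (U * W)ᵀ * A0 * (U * W) := by
          rw [hA, transpose_mul]; simp only [Matrix.mul_assoc]
        rw [this, entry, entry]; simp
      rw [e, ← hUt, ← hA] at h1
      omega
    rw [← hA, ← hd]
    set a := A 0 0 with hadef
    let b : Fin (n + 1) → ℤ := fun i => A 0 i.succ
    let C := A.submatrix Fin.succ Fin.succ
    let S : Matrix (Fin (n + 1)) (Fin (n + 1)) ℤ := a • C - vecMulVec b b
    have hSq : ∀ y : Fin (n + 1) → ℤ, y ⬝ᵥ S *ᵥ y = a * (y ⬝ᵥ C *ᵥ y) - (b ⬝ᵥ y) ^ 2 := fun y => by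
      simp only [S, sub_mulVec, smul_mulVec, dotProduct_sub, dotProduct_smul, smul_eq_mul,
        vecMulVec_mulVec, op_smul_eq_smul]
      rw [dotProduct_comm y b]; ring
    have hC : Cᵀ = C := by simp only [C, transpose_submatrix, hs]
    have hSs : Sᵀ = S := by simp only [S, transpose_sub, transpose_smul, hC, transpose_vecMulVec]
    have hSp : ∀ y : Fin (n + 1) → ℤ, y ≠ 0 → 0 < y ⬝ᵥ S *ᵥ y := fun y hy => by
      have h1 := hp (Fin.cons (-(b ⬝ᵥ y)) (a • y)) (fun e => hy (by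
        ext i
        have := congrFun e i.succ
        simpa [ha.ne'] using this))
      rw [quad A hs] at h1
      simp only [dotProduct_smul, smul_dotProduct, mulVec_smul, smul_eq_mul] at h1
      rw [hSq]
      have : 0 < a * (a * (y ⬝ᵥ C *ᵥ y) - (b ⬝ᵥ y) ^ 2) := by
        simp only [b, C]; linarith
      exact (mul_pos_iff_of_pos_left ha).1 this
    have hSd : S.det = a ^ n * A.det := by
      have h1 : (blk 1 (-b) (diagonal fun _ => a))ᵀ * A = blk a b S := by
        have h : ∀ i : Fin (n + 1), A i.succ 0 = A 0 i.succ := fun i => by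
          conv_lhs => rw [← hs]
          rfl
        ext i j
        refine Fin.cases ?_ (fun i => ?_) i <;> refine Fin.cases ?_ (fun j => ?_) j <;>
          simp [-zsmul_eq_mul, blk, mul_apply, Fin.sum_univ_succ (n := n + 1), diagonal_apply, b, S, C, vecMulVec_apply, h,
            ← hadef] <;> ring
      have h2 := congrArg det h1
      rw [det_mul, det_transpose, det_blk, det_blk, det_diagonal, Finset.prod_const, Finset.card_fin] at h2
      exact mul_left_cancel₀ ha.ne' (by rw [← h2]; ring)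
    obtain ⟨V, hV, hle⟩ := ih S hSs hSp
    rw [entry, hSd] at hle
    set y : Fin (n + 1) → ℤ := fun k => V k 0 with hy
    obtain ⟨k, hk⟩ : ∃ k : ℤ, 4 * (a * k + b ⬝ᵥ y) ^ 2 ≤ a ^ 2 := by
      refine ⟨-((2 * (b ⬝ᵥ y) + a) / (2 * a)), ?_⟩
      have e1 := Int.emod_add_mul_ediv (2 * (b ⬝ᵥ y) + a) (2 * a)
      have e2 := Int.emod_nonneg (2 * (b ⬝ᵥ y) + a) (show 2 * a ≠ 0 by omega)
      have e3 := Int.emod_lt_of_pos (2 * (b ⬝ᵥ y) + a) (show 0 < 2 * a by omega)
      nlinarith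
    have hcol : (fun i => blk 1 (fun _ => k) V i (Fin.succ 0)) = Fin.cons k y := by
      ext i; refine Fin.cases ?_ (fun i => ?_) i
      · rfl
      · rfl
    have hq := quad A hs k k y y
    have hS := hSq y
    have hy0 : y ≠ 0 := fun e => hV.ne_zero (det_eq_zero_of_column_eq_zero 0 fun i => congrFun e i)
    have h3 := hmin (blk 1 (fun _ => k) V) (by rw [det_blk, one_mul]; exact hV) (Fin.succ 0) (by
      rw [entry, hcol]
      exact (hp _ (fun e => hy0 (by ext i; simpa using congrFun e i.succ))).le)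
    rw [entry, hcol, hq] at h3
    have h4 : 3 * a ^ 2 ≤ 4 * (y ⬝ᵥ S *ᵥ y) := by
      rw [hS]
      have := mul_le_mul_of_nonneg_left h3 ha.le
      simp only [b, C] at hk ⊢
      nlinarith
    have h5 := pow_le_pow_left₀ (by positivity) h4 (n + 1)
    have hm : (n + 1) * (n + 1 + 1) / 2 = n * (n + 1) / 2 + (n + 1) := by
      have : (n + 1) * (n + 1 + 1) = n * (n + 1) + 2 * (n + 1) := by ring
      rw [this, Nat.add_mul_div_left _ _ (by norm_num)]
    rw [hm]
    refine le_of_mul_le_mul_left ?_ (pow_pos ha n)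
    have h6 := mul_le_mul_of_nonneg_right h5 (show (0 : ℤ) ≤ 3 ^ (n * (n + 1) / 2) by positivity)
    have h7 := mul_le_mul_of_nonneg_left hle (show (0 : ℤ) ≤ 4 ^ (n + 1) by positivity)
    rw [mul_pow, mul_pow] at h6
    calc _ = 3 ^ (n + 1) * (a ^ 2) ^ (n + 1) * 3 ^ (n * (n + 1) / 2) := by ring
      _ ≤ _ := h6
      _ = 4 ^ (n + 1) * ((y ⬝ᵥ S *ᵥ y) ^ (n + 1) * 3 ^ (n * (n + 1) / 2)) := by ring
      _ ≤ _ := h7
      _ = _ := by ring

end Cfsg.Agent.H61.K5Herm
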