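import Cfsg.Agent.H48.M2Defs
import Cfsg.Agent.H3.Cores

/-! Maximal 2-local subgroups of the Monster: the inequalities of the second case. -/

set_option autoImplicit false

namespace Cfsg.Agent.H48.M2

open Cfsg Subgroup Cfsg.Agent.H48 Cfsg.Agent.H48.Rec Cfsg.Agent.H49 Cfsg.Agent.H95.Par
open Cfsg.Agent.H97.Gr (DD ZZ)
open Cfsg.Agent.H97.Yt (M)

theorem bi_of (bu : BuStmt) (bd : BdStmt) (ta : TaStmt) : BiStmt := by
  intro R V w w' h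
  obtain ⟨-, cw, n1, wA, -⟩ := ta w w' h.bp.t1
  obtain ⟨-, -, n2, -⟩ := ta w' w h.bp.t2
  obtain ⟨-, -, -, -, -, sg, pp, -⟩ := bu w w' h.bp
  refine ⟨?_, fun u hu uV u1 => ⟨fun hle => ?_, ?_⟩⟩
  · have le : V ⊓ Qz w ⊓ Qz w' ≤ V ⊓ TT w w' := fun x hx =>
      ⟨hx.1.1, (bd w w' h.bp).1 ⟨hx.1.2, hx.2⟩⟩
    have hw : w ∈ V ⊓ TT w w' := ⟨h.m1.mem,
      ⟨(lx h.bp.z1).mem, mem_centralizer_singleton_iff.2 cw.symm⟩, mem_sup_left wA⟩
    obtain ⟨k, hk⟩ := card_dvd_of_le le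
    have h0 : 0 < Nat.card ↥(V ⊓ TT w w') := Nat.card_pos
    have h1 : k ≠ 1 := fun e => by
      rw [← eq_of_le_of_card_ge le (by rw [hk, e, mul_one])] at hw
      exact n2 hw.2
    have h2 : k ≠ 0 := fun e => by rw [hk, e, mul_zero] at h0; exact h0.false
    rw [hk, mul_comm]
    exact Nat.mul_le_mul_left _ (by omega)
  · have e := eq_of_le_of_card_ge (le_inf inf_le_left hle) (h.m1.max u uV (sg u hu u1).1)
    have : w' ∈ V ⊓ Qz u := ⟨h.m2.mem, (pp u hu u1).2⟩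
    rw [← e] at this
    exact n1 this.2
  · rw [← H3.card_sup_mul_card_inf_of_le_normalizer (H := V ⊓ Qz w ⊓ Qz u) (N := V ⊓ Qz w' ⊓ Qz u)
      fun x hx => centralizer_le_normalizer _ fun y hy => h.vs.el.cm hy.1.1 hx.1.1]
    refine Nat.mul_le_mul ((card_le_of_le ?_).trans (h.m1.max u uV (sg u hu u1).1))
      (card_le_of_le fun x hx => ⟨hx.1.1, hx.2.1.2⟩)
    exact sup_le (fun x hx => ⟨hx.1.1, hx.2⟩) fun x hx => ⟨hx.1.1, hx.2⟩

end Cfsg.Agent.H48.M2
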