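import Cfsg.Agent.H78.McDefs
import Cfsg.Agent.H83.Syl
import Cfsg.Agent.H89.PBasic

/-! Project MC, piece UNQ. -/

set_option autoImplicit false

namespace Cfsg.Agent.H61.McUnq

open Subgroup Cfsg.Agent.H78.Mc Cfsg.Agent.H83

universe u

variable {G : Type u} [Group G]

/-- elements of `N` centralising `Q` modulo `K` -/
def CM (N K : Subgroup G) (hK : N ≤ normalizer (K : Set G)) (Q : Set G) : Subgroup G where
  carrier := {a | a ∈ N ∧ ∀ q ∈ Q, a * q * a⁻¹ * q⁻¹ ∈ K}
  one_mem' := ⟨one_mem _, fun q _ => by simp⟩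
  mul_mem' := fun {a b} ha hb => ⟨mul_mem ha.1 hb.1, fun q hq => by
    simpa [mul_assoc] using mul_mem ((mem_normalizer_iff.1 (hK ha.1) _).1 (hb.2 q hq)) (ha.2 q hq)⟩
  inv_mem' := fun {a} ha => ⟨inv_mem ha.1, fun q hq => by
    simpa [mul_assoc] using (mem_normalizer_iff''.1 (hK ha.1) _).1 (inv_mem (ha.2 q hq))⟩

theorem le_CM {N K : Subgroup G} (hK : N ≤ normalizer (K : Set G)) (h : K ≤ N) {Q : Subgroup G}
    (hQ : Q ≤ normalizer (K : Set G)) : K ≤ CM N K hK Q := fun a ha => ⟨h ha, fun q hq => by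
  simpa [mul_assoc] using mul_mem ha ((mem_normalizer_iff.1 (hQ hq) _).1 (inv_mem ha))⟩

theorem grow [Finite G] {p : ℕ} [Fact p.Prime] {N K Q : Subgroup G} [hN : N.Normal]
    (hK : N ≤ normalizer (K : Set G)) (hne : ¬ N ≤ K) (hQ : IsPGroup p Q) (hNQ : N ≤ Q)
    (hn : Q ≤ normalizer (K : Set G)) : ¬ CM N K hK Q ≤ K := fun h => by
  have := normal_subgroupOf_of_le_normalizer hn
  let π := QuotientGroup.mk' (K.subgroupOf Q)
  have : ((N.subgroupOf Q).map π).Normal := (hN.subgroupOf Q).map π (QuotientGroup.mk'_surjective _)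
  refine Cfsg.Agent.H89.inf_center_ne_bot (hQ.to_quotient _) (N := (N.subgroupOf Q).map π)
    (fun e => hne fun a ha => ?_) (eq_bot_iff.2 ?_)
  · exact (QuotientGroup.eq_one_iff (N := K.subgroupOf Q) ⟨a, hNQ ha⟩).1
      (e.le (mem_map_of_mem π (show (⟨a, hNQ ha⟩ : Q) ∈ _ from ha)))
  · rintro _ ⟨⟨a, ha, rfl⟩, hc⟩
    refine (QuotientGroup.eq_one_iff _).2 (h ⟨ha, fun q hq => ?_⟩)
    refine (QuotientGroup.eq_one_iff (N := K.subgroupOf Q) (a * ⟨q, hq⟩ * a⁻¹ * ⟨q, hq⟩⁻¹)).1 ?_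
    change π _ = 1
    rw [map_mul, map_mul, map_mul, ← mem_center_iff.1 hc, map_inv, map_inv]
    group

theorem card_CM [Finite G] {N K : Subgroup G} (hK : N ≤ normalizer (K : Set G)) (x : G) :
    Nat.card (CM N K hK {x}) ≤ Nat.card K * Nat.card ↥(N ⊓ centralizer {x}) := by
  rw [card_eq_card_quotient_mul_card_subgroup ((centralizer {x}).subgroupOf (CM N K hK {x}))]
  refine Nat.mul_le_mul (Nat.card_le_card_of_injective
    (fun q => ⟨_, q.out.2.2 x rfl⟩) fun q q' e => ?_) (Nat.card_le_card_of_injective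
    (fun a => ⟨a.1.1, a.1.2.1, a.2⟩) fun a b e => Subtype.ext (Subtype.ext
      (congrArg (fun y : ↥(N ⊓ centralizer {x}) => y.1) e)))
  rw [← q.out_eq', ← q'.out_eq', QuotientGroup.eq, mem_subgroupOf, mem_centralizer_singleton_iff]
  have e1 := mul_right_cancel (congrArg Subtype.val e)
  change (q.out : G)⁻¹ * q'.out * x = x * ((q.out : G)⁻¹ * q'.out)
  calc _ = (q.out : G)⁻¹ * (q'.out * x * (q'.out : G)⁻¹) * q'.out := by group
    _ = _ := by rw [← e1]; group

theorem unq : UnqStmt.{u} := by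
  intro G _ _ p hp P N hN pN cN x hx xN hc
  have NP : N ≤ P := pN.le_sylow_of_normal P
  have h1 : Nat.card ↥(N ⊓ centralizer {x}) ≤ p := by
    have hlt : N ⊓ centralizer {x} < (P : Subgroup G) ⊓ centralizer {x} :=
      (inf_le_inf_right _ NP).lt_of_not_ge fun h => xN (h ⟨hx, mem_centralizer_singleton_iff.2 rfl⟩).1
    have d := card_dvd_of_le hlt.le
    rw [hc, Nat.dvd_prime_pow hp.out] at d
    obtain ⟨k, hk, e⟩ := d
    have : k ≠ 2 := fun h => hlt.ne (eq_of_le_of_card_ge hlt.le (by rw [hc, e, h]))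
    rw [e]
    exact (Nat.pow_le_pow_right hp.out.pos (by omega : k ≤ 1)).trans_eq (pow_one p)
  obtain ⟨D, hD, hED⟩ := exists_isSylowIn_ge (P := (P : Subgroup G) ⊓ centralizer {x})
    (H := centralizer {x}) inf_le_right (P.2.to_le inf_le_left)
  have xD : x ∈ D := hED ⟨hx, mem_centralizer_singleton_iff.2 rfl⟩
  obtain ⟨K, ⟨KN, nK, cK⟩, hmax⟩ := Set.Finite.exists_maximal
    (s := {K : Subgroup G | K ≤ N ∧ (P : Subgroup G) ⊔ D ≤ normalizer (K : Set G) ∧
      ∀ h ∈ (P : Subgroup G) ⊔ D, (orderOf h).Coprime p → ∀ a ∈ K, a * h = h * a}) (Set.toFinite _)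
    ⟨⊥, bot_le, le_normalizer_of_normal, fun h _ _ a ha => by rw [mem_bot.1 ha, one_mul, mul_one]⟩
  have hK := (NP.trans le_sup_left).trans nK
  have NK : N ≤ K := by
    by_contra hne
    have key : ∀ Q : Subgroup G, IsPGroup p Q → N ≤ Q → x ∈ Q → Q ≤ (P : Subgroup G) ⊔ D →
        CM N K hK Q = CM N K hK {x} := fun Q pQ NQ xQ QH => by
      have l1 := le_CM hK KN (QH.trans nK)
      refine eq_of_le_of_card_ge (fun a ha => ⟨ha.1, fun q hq => ha.2 q (hq ▸ xQ)⟩)
        ((card_CM hK x).trans ((Nat.mul_le_mul_left _ h1).trans ?_))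
      have e := (K.subgroupOf (CM N K hK Q)).card_mul_index
      rw [Nat.card_congr (subgroupOfEquivOfLe l1).toEquiv] at e
      obtain ⟨k, hk⟩ := (pN.to_le (fun a ha => ha.1 : CM N K hK Q ≤ N)).index (K.subgroupOf _)
      have : k ≠ 0 := fun h0 => grow hK hne pQ NQ (QH.trans nK)
        (subgroupOf_eq_top.1 (index_eq_one.1 (by rw [hk, h0, pow_zero])))
      rw [← e, hk]
      exact Nat.mul_le_mul_left _ (Nat.le_self_pow this p)
    have k1 := key P P.2 NP hx le_sup_left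
    have k2 := key (D ⊔ N) (hD.isPGroup.to_sup_of_normal_right pN) le_sup_right (mem_sup_left xD)
      (sup_le le_sup_right (NP.trans le_sup_left))
    have l1 : K ≤ CM N K hK P := le_CM hK KN (le_sup_left.trans nK)
    have cm : ∀ a ∈ CM N K hK P, ∀ h ∈ (P : Subgroup G) ⊔ D, a * h * a⁻¹ * h⁻¹ ∈ K := by
      intro a ha
      let W : Subgroup G :=
        { carrier := {h | h ∈ (P : Subgroup G) ⊔ D ∧ a * h * a⁻¹ * h⁻¹ ∈ K}
          one_mem' := ⟨one_mem _, by simp⟩
          mul_mem' := fun {g h} hg hh => ⟨mul_mem hg.1 hh.1, by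
            simpa [mul_assoc] using mul_mem hg.2 ((mem_normalizer_iff.1 (nK hg.1) _).1 hh.2)⟩
          inv_mem' := fun {g} hg => ⟨inv_mem hg.1, by
            simpa [mul_assoc] using (mem_normalizer_iff''.1 (nK hg.1) _).1 (inv_mem hg.2)⟩ }
      have : (P : Subgroup G) ⊔ D ≤ W := sup_le (fun h hh => ⟨mem_sup_left hh, ha.2 h hh⟩)
        fun h hh => ⟨mem_sup_right hh, ((k1.trans k2.symm).le ha).2 h (mem_sup_left hh)⟩
      exact fun h hh => (this hh).2
    refine grow hK hne P.2 NP (le_sup_left.trans nK) (hmax (y := CM N K hK P)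
      ⟨fun a ha => ha.1, fun h hh => mem_normalizer_fintype fun a ha => ?_, fun h hh co a ha => ?_⟩ l1)
    · simpa [mul_assoc] using mul_mem (inv_mem (l1 (cm a ha h hh))) ha
    · have c := cm a ha h hh
      have cc : Commute (a * h * a⁻¹ * h⁻¹) h := cK h hh co _ c
      have e1 : (a * h * a⁻¹ * h⁻¹) ^ orderOf h = 1 := by
        have := cc.mul_pow (orderOf h)
        rwa [inv_mul_cancel_right, conj_pow, pow_orderOf_eq_one, mul_one, mul_inv_cancel, mul_one,
          eq_comm] at this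
      obtain ⟨k, hk⟩ := pN ⟨_, KN c⟩
      have e2 := orderOf_eq_one_iff.1 (Nat.eq_one_of_dvd_coprimes (co.pow_right k)
        (orderOf_dvd_of_pow_eq_one e1) (orderOf_dvd_of_pow_eq_one (congrArg Subtype.val hk)))
      exact mul_inv_eq_iff_eq_mul.1 (mul_inv_eq_one.1 e2)
  have pH : IsPGroup p ((P : Subgroup G) ⊔ D : Subgroup G) := isPGroup_of_coprime_eq_one fun h hh co => by
    obtain ⟨k, hk⟩ := pN ⟨h, cN (mem_centralizer_iff.2 fun a ha => cK h hh co a (NK ha))⟩
    exact orderOf_eq_one_iff.1 (Nat.eq_one_of_dvd_coprimes (co.pow_right k) dvd_rfl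
      (orderOf_dvd_of_pow_eq_one (congrArg Subtype.val hk)))
  have e : D = (P : Subgroup G) ⊓ centralizer {x} :=
    le_antisymm (le_inf (le_sup_right.trans (P.is_maximal' pH le_sup_left).le) hD.le) hED
  obtain ⟨S, hS⟩ := hD.exists_sylow_map
  have := S.card_eq_multiplicity
  rw [← card_map_of_injective (subtype_injective _), hS, e, hc] at this
  exact (Nat.pow_right_injective hp.out.two_le this).symm

end Cfsg.Agent.H61.McUnq
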