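import Mathlib
import Cfsg.Agent.H61.Part2
import Cfsg.Agent.H8.Active
import Cfsg.Agent.H29.SmallGroups
import Cfsg.Agent.H9.BaerSuzuki

/-!
# Groups with a normal partition and a non-trivial solvable normal subgroup
-/

set_option autoImplicit false
set_option linter.unusedSectionVars false

namespace Cfsg.Agent.H61.Part

open Cfsg Cfsg.Agent.H63 Cfsg.Agent.H67 Subgroup
open scoped commutatorElement

variable {G : Type*} [Group G] [Finite G]

theorem piElt_of_orderOf {π : Set ℕ} {x : G} {p : ℕ} (hp : p.Prime) (h : orderOf x = p)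
    (hπ : p ∈ π) : PiElt π x := piElt_iff.2 (h ▸ (piNat_prime hp).2 hπ)

theorem commute_of_mem_c1 {x y : G} (h : y ∈ C1[x]) : Commute x y :=
  (mem_centralizer_singleton_iff.1 h).symm

theorem mem_c1_of_commute {x y : G} (h : Commute x y) : y ∈ C1[x] :=
  mem_centralizer_singleton_iff.2 h.symm.eq

theorem commute_of_mem_c {K : Subgroup G} {x y : G} (h : y ∈ C[K]) (hx : x ∈ K) : Commute x y :=
  h x hx

namespace NP

variable {c : G → Subgroup G} (h : NP c) {x y : G}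
include h

theorem mem_of_pi {π : Set ℕ} (hx : x ≠ 1) (hc : Commute x y) (h1 : PiElt π x) (h2 : PiElt πᶜ y) :
    y ∈ c x :=
  h.mem_of_ne hx hc fun e => hx (h1.eq_one (piElt_iff.2 (e ▸ piElt_iff.1 h2)))

theorem mem_of_pi' {π : Set ℕ} (hx : x ≠ 1) (hc : Commute x y) (h1 : PiElt πᶜ x) (h2 : PiElt π y) :
    y ∈ c x :=
  h.mem_of_pi hx hc h1 (by rwa [compl_compl])

theorem le_comp (hF : ¬ Frob G) {π : Set ℕ} {A : Subgroup G} (hA : ∀ g, g ∈ N[A])
    (hAc : IsMulCommutative A) (hAp : IsPiSubgroup π A) {a : G} (ha : a ∈ A) (ha1 : a ≠ 1) {u : G}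
    (hu : u ∈ c a) (hu1 : u ≠ 1) (hup : PiElt πᶜ u) : A ≤ c a := by
  have hAN : A ≤ N[c a] := fun b hb => h.cent_le_norm ha1 (h.mem a) ha1
    (mem_c1_of_commute (comm_of_isMulCommutative hAc ha hb))
  have hU : IsPiSubgroup πᶜ (zpowers u) := isPi_zpowers_iff.2 hup
  have h1 : ⁅A, zpowers u⁆ ≤ A ⊓ c a := le_inf (commutator_le_of_norm_left fun g _ => hA g)
    ((commutator_mono le_rfl (zpowers_le.2 hu)).trans (commutator_le_of_norm_right hAN))
  have h2 : zpowers u ≤ C[A] := coprime_cent_of_commutator_cent (fun g _ => hA g)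
    (isPi_coprime' hU hAp) (h1.trans (le_centralizer_of_isNilpotent_of_coprime (h.nil hF ha1)
      inf_le_right (zpowers_le.2 hu) (isPi_coprime (isPi_of_le hAp inf_le_left) hU)))
  intro b hb
  rw [← h.eq ha1 hu1 hu]
  exact h.mem_of_pi' hu1 (commute_of_mem_c (h2 (mem_zpowers u)) hb).symm hup (piElt_of_mem hAp hb)

theorem lemmaS' (hx : x ≠ 1) (hX : ∀ g, g ∈ N[c x]) {A K : Subgroup G} {u : G}
    (hAc : IsMulCommutative A) (hAX : A ≤ c x) (hA : ∀ g, g ∈ N[A]) (hu : (orderOf u).Prime)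
    (huX : u ∉ c x) (huK : u ∈ N[K]) (hf : K ⊓ C1[u] = ⊥) (hC : A ⊓ C[K] = ⊥)
    (hc : (Nat.card A).Coprime (Nat.card K)) : A = ⊥ := by
  refine eq_bot_iff.2 fun a ha => ?_
  have := lemmaS hAc hu huK hf (fun g _ => hA g) (hA u) hC (fun b hb k _ => h.split hx (hX _)
    (fun e => huX (by simpa [mul_assoc] using conj_mem_of_mem_normalizer' (hX k) e))
    (by rw [conj_pow, pow_orderOf_eq_one]; simp) (hAX hb)) ha
  exact orderOf_eq_one_iff.1 (Nat.eq_one_of_dvd_coprimes hc (orderOf_dvd_card_of_mem ha)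
    (orderOf_dvd_of_pow_eq_one this))

theorem caseI (hF : ¬ Frob G) (hx : x ≠ 1) (hX : ∀ g, g ∈ N[c x])
    (h2 : ∀ r : ℕ, r.Prime → ∃ s : ℕ, s.Prime ∧ s ≠ r ∧ s ∣ Nat.card (c x)) : Hug G := by
  have hnil := h.nil hF hx
  have heq : ∀ z ∈ c x, z ≠ 1 → c z = c x := fun z hz h1 => h.eq hx h1 hz
  obtain ⟨x', hx', hx1, y, hy, hyX⟩ : ∃ x' ∈ c x, x' ≠ 1 ∧ ∃ y ∈ C1[x'], y ∉ c x := by
    by_contra hcon
    push Not at hcon
    exact hF (frob_of (normalIn_top_iff.1 ⟨le_top, fun g _ => hX g⟩) (ne_bot_of_mem (h.mem x) hx)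
      (h.ne_top hx) hcon)
  obtain ⟨hr, hyr⟩ := h.baer hx1 ((heq x' hx' hx1).symm ▸ hyX) (commute_of_mem_c1 hy)
  set r := orderOf x' with hrdef
  have := Fact.mk hr
  set Q := O[{r}](c x) with hQ
  have hQX : Q ≤ c x := piCoreOf_le _ _
  have hQN : ∀ g, g ∈ N[Q] := fun g => normalizer_le_normalizer_piCoreOf _ _ (hX g)
  have hQπ : IsPiSubgroup {r} Q := isPi_piCoreOf _ _
  have hQp : IsPGroup r Q := isPGroup_pCoreOf hr _
  have hmemQ : ∀ z ∈ c x, PiElt {r} z → z ∈ Q := fun z hz h1 =>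
    mem_piCoreOf_of_hall (hall_piCoreOf_of_isNilpotent _ hnil) hz h1
  have hQ1 : Q ≠ ⊥ := ne_bot_of_mem (hmemQ x' hx' (piElt_of_orderOf hr rfl rfl)) hx1
  have hD : ∀ w, PiElt {r} w → ∃ d ∈ Q ⊓ C1[w], d ≠ 1 := fun w hw =>
    exists_ne_one_of_ne_bot (centralizer_zpowers w ▸ inf_centralizer_ne_bot_of_isPGroup hr
      ((isPGroup_zpowers_iff hr).2 hw) hQp (fun g _ => hQN g) hQ1)
  -- `r`-elements outside `X` have order `r`
  have F1 : ∀ w, w ∉ c x → PiElt {r} w → orderOf w = r := fun w hw hwr => by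
    obtain ⟨d, hd, hd1⟩ := hD w hwr
    obtain ⟨h3, h4⟩ := h.baer hd1 ((heq d (hQX hd.1) hd1).symm ▸ hw) (commute_of_mem_c1 hd.2).symm
    rw [h4]
    exact (piNat_prime h3).1 (piElt_iff.1 (piElt_of_mem hQπ hd.1))
  -- and their centralisers are `r`-groups
  have F2 : ∀ w, w ∉ c x → PiElt {r} w → ∀ v, PiElt {r}ᶜ v → Commute w v → v = 1 :=
    fun w hw hwr v hv hc => by
      have hw1 : w ≠ 1 := fun e => hw (e ▸ one_mem _)
      have h3 : v ∈ c w := h.mem_of_pi hw1 hc hwr hv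
      obtain ⟨d, hd, hd1⟩ := hD w hwr
      have h4 : d ∈ N[c w] := h.cent_le_norm hw1 (h.mem w) hw1 hd.2
      have h5 : d * v * d⁻¹ * v⁻¹ = 1 := h.eq_one hx hw
        (by rw [mul_assoc, mul_assoc, ← mul_assoc v]
            exact mul_mem (hQX hd.1) (conj_mem_of_mem_normalizer (hX v) (inv_mem (hQX hd.1))))
        (mul_mem (conj_mem_of_mem_normalizer h4 h3) (inv_mem h3))
      have h6 : Commute d v := commutatorElement_eq_one_iff_commute.1 h5
      exact h.eq_one hx hw (heq d (hQX hd.1) hd1 ▸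
        h.mem_of_pi hd1 h6 (piElt_of_mem hQπ hd.1) hv) h3
  obtain ⟨s, hs, hsr, hsX⟩ := h2 r hr
  have hS1 : O[{s}](c x) ≠ ⊥ := fun e => by
    obtain ⟨z, hz, hzs⟩ := exists_orderOf_eq_prime hs hsX
    have h3 := mem_piCoreOf_of_hall (hall_piCoreOf_of_isNilpotent {s} hnil) hz
      (piElt_of_orderOf hs hzs rfl)
    rw [e, mem_bot] at h3
    rw [h3, orderOf_one] at hzs
    exact hs.one_lt.ne hzs
  set B := omegaOne s Z[O[{s}](c x)] with hB
  have hB1 : B ≠ ⊥ := omegaOne_center_ne_bot hs (isPGroup_pCoreOf hs _) hS1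
  have hBe : IsElementaryAbelian s B := elemAb_omegaOne_center _ _
  have hBX : B ≤ c x := (omegaOne_center_le _ _).trans (piCoreOf_le _ _)
  have hBN : ∀ g, g ∈ N[B] := fun g => normalizer_le_normalizer_omegaOne_center _ _
    (normalizer_le_normalizer_piCoreOf _ _ (hX g))
  have hBπ : IsPiSubgroup {r}ᶜ B := isPi_compl_of_isPGroup hs (elemAb_isPGroup hBe) hsr
  have hyπ : PiElt {r} y := piElt_of_orderOf hr hyr rfl
  obtain ⟨R, hR, hyR⟩ := exists_syl_ge (p := r) (le_top (a := zpowers y))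
    ((isPGroup_zpowers_iff hr).2 hyπ)
  replace hyR : y ∈ R := hyR (mem_zpowers y)
  have hRπ := hall_isPi hR
  have hQR : Q ≤ R := le_syl_of_normalIn hR ⟨le_top, fun g _ => hQN g⟩ hQp
  have hRX : ∀ z ∈ R, z ∈ c x → z ∈ Q := fun z hz h1 => hmemQ z h1 (piElt_of_mem hRπ hz)
  -- `R` is self-normalising
  have hNR : N[R] ≤ R := by
    have h3 : IsPiSubgroup {r} N[R] := fun t ht hd => by
      by_contra htr
      obtain ⟨u, hu, hut⟩ := exists_orderOf_eq_prime ht hd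
      have huπ : PiElt {r}ᶜ u := piElt_of_orderOf ht hut htr
      have hu1 : u ≠ 1 := fun e => ht.one_lt.ne (by rw [← hut, e, orderOf_one])
      have hU : IsPiSubgroup {r}ᶜ (zpowers u) := isPi_zpowers_iff.2 huπ
      have huX : u ∉ c x := fun huX => by
        have h4 : ⁅R, zpowers u⁆ ≤ R ⊓ c x := le_inf (commutator_le_of_norm_left (zpowers_le.2 hu))
          ((commutator_mono le_rfl (zpowers_le.2 huX)).trans
            (commutator_le_of_norm_right fun g _ => hX g))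
        have h5 : zpowers u ≤ C[R] := coprime_cent_of_commutator_cent (zpowers_le.2 hu)
          (isPi_coprime' hU hRπ) (h4.trans (le_centralizer_of_isNilpotent_of_coprime hnil
            inf_le_right (zpowers_le.2 huX) (isPi_coprime (isPi_of_le hRπ inf_le_left) hU)))
        exact hu1 (F2 y hyX hyπ u huπ (commute_of_mem_c (h5 (mem_zpowers u)) hyR))
      refine hB1 (h.lemmaS' hx hX (elemAb_comm hBe) hBX hBN (hut ▸ ht) huX hu
        (eq_bot_iff.2 fun z hz => ?_) (eq_bot_iff.2 fun b hb => F2 y hyX hyπ b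
          (piElt_of_mem hBπ hb.1) (commute_of_mem_c hb.2 hyR)) (isPi_coprime' hBπ hRπ))
      by_contra hz1
      by_cases hzX : z ∈ c x
      · exact huX (heq z hzX hz1 ▸ h.mem_of_pi hz1 (commute_of_mem_c1 hz.2).symm
          (piElt_of_mem hRπ hz.1) huπ)
      · exact hu1 (F2 z hzX (piElt_of_mem hRπ hz.1) u huπ (commute_of_mem_c1 hz.2).symm)
    exact (hall_eq_of_le hR h3 le_normalizer le_top).le
  -- `R / Q` is abelian
  have hab : IsMulCommutative (R /ᵍ Q) := by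
    by_cases hr2 : r = 2
    · have h3 : ∀ z ∈ R /ᵍ Q, z * z = 1 := fun z hz => by
        obtain ⟨w, hw, hn, rfl⟩ := mem_quo.1 hz
        rw [← coset_mul hn hn, coset_eq_one_iff (hQN _)]
        by_cases hwX : w ∈ c x
        · exact mul_mem (hRX w hw hwX) (hRX w hw hwX)
        · rw [← pow_two, ← hr2, ← F1 w hwX (piElt_of_mem hRπ hw), pow_orderOf_eq_one]
          exact one_mem _
      refine ⟨⟨fun a b => Subtype.ext ?_⟩⟩
      have h4 : ∀ z ∈ R /ᵍ Q, z⁻¹ = z := fun z hz => inv_eq_of_mul_eq_one_right (h3 z hz)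
      have := h4 _ (mul_mem a.2 b.2)
      rw [mul_inv_rev, h4 _ a.2, h4 _ b.2] at this
      exact this.symm
    · refine (H69.odd_regular_pgroup_cyclic (H := B /ᵍ Q) (quo_isPGroup Q (syl_isPGroup hR))
        (quo_odd Q ?_) (fun e => hB1 ?_) (quo_norms Q fun g _ => hBN g) fun z hz hz1 => ?_
        ).isMulCommutative
      · rw [syl_card hR]
        exact (hr.odd_of_ne_two hr2).pow
      · rw [← isPi_inf_eq_bot' hBπ hQπ, eq_comm, inf_eq_left]
        exact (quo_eq_bot_iff fun g _ => hQN g).1 e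
      · obtain ⟨w, hw, hn, rfl⟩ := mem_quo.1 hz
        refine eq_bot_iff.2 fun z' hz' => ?_
        obtain ⟨b, hb, hbn, rfl⟩ := mem_quo.1 hz'.1
        have h3 : ⁅w, b⁆ ∈ B ⊓ Q := ⟨B.mul_mem (conj_mem_of_mem_normalizer (hBN w) hb) (B.inv_mem hb),
          (coset_eq_one_iff (hQN _)).1 (by
            rw [coset_commutator hn hbn]
            exact commutatorElement_eq_one_iff_commute.2 (commute_of_mem_c1 hz'.2))⟩
        rw [isPi_inf_eq_bot' hBπ hQπ, mem_bot] at h3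
        rw [F2 w (fun e => hz1 (coset_eq_one (hRX w hw e))) (piElt_of_mem hRπ hw) b
          (piElt_of_mem hBπ hb) (commutatorElement_eq_one_iff_commute.1 h3), coset_one]
        exact one_mem _
  have hQT : Q ⊴ ⊤ := ⟨le_top, fun g _ => hQN g⟩
  have hnpc : NormalPCompl r ((⊤ : Subgroup G) /ᵍ Q) := Burnside_normal_complement
    (quo_isPiHallOf hQT.norm hR) (inf_le_right.trans (by
      rw [← quo_normG ⟨hQR, fun g _ => hQN g⟩]
      exact (quo_mono Q hNR).trans (le_cent_of_comm hab le_rfl le_rfl)))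
  set K := cosetpre Q O[{r}ᶜ]((⊤ : Subgroup G) /ᵍ Q) with hK
  have hKT : K ⊴ ⊤ := cosetpre_normal_of_normal_quo hQT (piCoreOf_normalIn _ _)
  have hKi : PiNat {r} (K.relIndex ⊤) := by
    have := hnpc.relIndex
    rwa [← relIndex_cosetpre (N := Q), quo_cosetpre_of_normal hQT] at this
  have hQK : IsSyl r Q K := hall_mk (le_cosetpre _) hQπ (by
    rw [← card_quo (cosetpre_le_norm _), cosetpre_quo]; exact isPi_piCoreOf _ _)
  have hQK' : Q ⊴ K := hQT.of_le (le_cosetpre _) le_top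
  have hKX : K ≤ c x := le_of_forall_syl_le fun t ht _ => by
    have := Fact.mk ht
    obtain ⟨T, hT⟩ := exists_syl t K
    refine ⟨T, hT, ?_⟩
    by_contra hTX
    have htr : t ≠ r := fun e => by
      subst e
      exact hTX ((eq_of_normal_hall hQK hQK' hT).le.trans hQX)
    have hTπ : IsPiSubgroup {r}ᶜ T := isPi_compl_of_isPGroup ht (syl_isPGroup hT) htr
    obtain ⟨τ, hτ, hτX⟩ := SetLike.not_le_iff_exists.1 hTX
    obtain ⟨R', hR'⟩ := exists_syl r (⊤ ⊓ N[T])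
    have hR'K : ¬ R' ≤ K := fun e => by
      have h3 := (frattini_isMul hKT hT).relIndex_left
      have h4 : K.relIndex ⊤ = 1 := hKi.eq_one (h3 ▸ (hall_relIndex hR').of_dvd
        (relIndex_dvd_of_le_left _ e))
      exact hyX (hQX (mem_of_normal_hall hQK hQK' (relIndex_eq_one.1 h4 (mem_top y)) hyπ))
    obtain ⟨u, hu, huK⟩ := SetLike.not_le_iff_exists.1 hR'K
    have huπ : PiElt {r} u := piElt_of_mem (hall_isPi hR') hu
    have huX : u ∉ c x := fun e => huK (hQK.1 (hmemQ u e huπ))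
    have hA : omegaOne r Z[Q] ≤ Q := omegaOne_center_le _ _
    refine omegaOne_center_ne_bot hr hQp hQ1 (h.lemmaS' hx hX (K := T) (u := u)
      (elemAb_comm (elemAb_omegaOne_center _ _)) (hA.trans hQX)
      (fun g => normalizer_le_normalizer_omegaOne_center _ _ (hQN g))
      ((F1 u huX huπ).symm ▸ hr) huX (hR'.1 hu).2 (eq_bot_iff.2 fun z hz =>
        F2 u huX huπ z (piElt_of_mem hTπ hz.1) (commute_of_mem_c1 hz.2))
      (eq_bot_iff.2 fun a ha => ?_) (isPi_coprime (isPi_of_le hQπ hA) hTπ))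
    by_contra ha1
    exact hτX (heq a (hQX (hA ha.1)) ha1 ▸ h.mem_of_pi ha1 (commute_of_mem_c ha.2 hτ).symm
      (piElt_of_mem hQπ (hA ha.1)) (piElt_of_mem hTπ hτ))
  refine hug_of (h.ne_top hx) hr fun g hg => ?_
  have h3 : g ^ K.relIndex ⊤ = 1 := h.eq_one hx hg (hKX (by
    have := normalIn_top_iff.1 hKT
    rw [relIndex_top_right]
    exact K.pow_index_mem g)) (pow_mem (h.mem g) _)
  rw [← F1 g hg (piElt_iff.2 (hKi.of_dvd (orderOf_dvd_of_pow_eq_one h3))), pow_orderOf_eq_one]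

theorem caseII (hH : ¬ Hug G) (hF : ¬ Frob G) {p : ℕ} (hp : p.Prime)
    (hO1 : O[{p}]((⊤ : Subgroup G)) ≠ ⊥)
    (hc : ∀ a ∈ omegaOne p Z[O[{p}]((⊤ : Subgroup G))], a ≠ 1 → IsPiSubgroup {p} (c a)) :
    Nonempty (G ≃* Equiv.Perm (Fin 4)) := by
  classical
  have := Fact.mk hp
  set O := O[{p}]((⊤ : Subgroup G)) with hO
  set A := omegaOne p Z[O] with hA
  have hOT : O ⊴ ⊤ := piCoreOf_normalIn _ _
  have hON : ∀ g, g ∈ N[O] := fun g => hOT.norm (mem_top g)
  have hOπ : IsPiSubgroup {p} O := isPi_piCoreOf _ _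
  have hOp : IsPGroup p O := isPGroup_pCoreOf hp _
  have hAO : A ≤ O := omegaOne_center_le _ _
  have hAC : A ≤ C[O] := omegaOne_center_le_centralizer _ _
  have hAN : ∀ g, g ∈ N[A] := fun g => normalizer_le_normalizer_omegaOne_center _ _ (hON g)
  have hAe : IsElementaryAbelian p A := elemAb_omegaOne_center _ _
  have hA1 : A ≠ ⊥ := omegaOne_center_ne_bot hp hOp hO1
  have hAπ : IsPiSubgroup {p} A := isPi_of_le hOπ hAO
  have hAc := elemAb_comm hAe
  have hAcomp : ∀ a ∈ A, a ≠ 1 → A ≤ N[c a] := fun a ha ha1 b hb => h.cent_le_norm ha1 (h.mem a) ha1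
    (mem_c1_of_commute (comm_of_isMulCommutative hAc ha hb))
  have hD : ∀ w, PiElt {p} w → ∃ d ∈ A ⊓ C1[w], d ≠ 1 := fun w hw =>
    exists_ne_one_of_ne_bot (centralizer_zpowers w ▸ inf_centralizer_ne_bot_of_isPGroup hp
      ((isPGroup_zpowers_iff hp).2 hw) (elemAb_isPGroup hAe) (fun g _ => hAN g) hA1)
  have Q0 : ∀ a ∈ A, a ≠ 1 → ∀ v, PiElt {p}ᶜ v → Commute a v → v = 1 := fun a ha ha1 v hv hav =>
    (piElt_of_mem (hc a ha ha1) (h.mem_of_pi ha1 hav (piElt_of_mem hAπ ha) hv)).eq_one hv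
  have Q1 : ∀ w : G, w ≠ 1 → PiElt {p} w → ∀ v, PiElt {p}ᶜ v → Commute w v → v = 1 :=
    fun w hw1 hw v hv hwv => by
      have h3 : v ∈ c w := h.mem_of_pi hw1 hwv hw hv
      obtain ⟨d, hd, hd1⟩ := hD w hw
      have h4 : d * v * d⁻¹ * v⁻¹ ∈ c w := mul_mem (conj_mem_of_mem_normalizer
        (h.cent_le_norm hw1 (h.mem w) hw1 hd.2) h3) (inv_mem h3)
      have h5 : d * v * d⁻¹ * v⁻¹ ∈ A := by
        rw [mul_assoc, mul_assoc, ← mul_assoc v]
        exact mul_mem hd.1 (conj_mem_of_mem_normalizer (hAN v) (inv_mem hd.1))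
      by_cases h6 : d * v * d⁻¹ * v⁻¹ = 1
      · exact Q0 d hd.1 hd1 v hv (commutatorElement_eq_one_iff_commute.1 h6)
      · exact (piElt_of_mem (hc _ h5 h6) ((h.eq hw1 h6 h4).symm ▸ h3)).eq_one hv
  have hcentp : ∀ w : G, w ≠ 1 → PiElt {p} w → IsPiSubgroup {p} C1[w] := fun w hw1 hw t ht hd => by
    by_contra htp
    obtain ⟨v, hv, hvt⟩ := exists_orderOf_eq_prime ht hd
    rw [Q1 w hw1 hw v (piElt_of_orderOf ht hvt htp) (commute_of_mem_c1 hv), orderOf_one] at hvt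
    exact ht.one_lt.ne hvt
  have hAY : ∀ a ∈ A, a ≠ 1 → A ≤ c a → c a ≤ O := fun a ha ha1 hle =>
    le_piCoreOf ⟨le_top, fun g _ => h.norm_le_norm ha1 hle hA1 (hAN g)⟩ (hc a ha ha1)
  -- `O` is not a Sylow subgroup
  have hOS : ¬ IsSyl p O ⊤ := fun hS => by
    refine hF (frob_of (normalIn_top_iff.1 hOT) hO1 (fun e => ?_) fun z hz hz1 =>
      le_of_normal_hall hS hOT le_top (hcentp z hz1 (piElt_of_mem hOπ hz)))
    obtain ⟨a, ha, ha1⟩ := exists_ne_one_of_ne_bot hA1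
    exact ha1 (h.center hH fun g => (commute_of_mem_c (hAC ha) (e ▸ mem_top g)).symm)
  -- an element of order `p` outside `O`
  obtain ⟨x, hxO, hxp⟩ : ∃ x, x ∉ O ∧ x ^ p = 1 := by
    obtain ⟨P, hP, -, hPp⟩ := exists_lt_pgroup_normalizer le_top hOp hOS
    obtain ⟨x, hx, hxO⟩ := SetLike.exists_of_lt hP
    obtain ⟨a, ha, ha1⟩ := hD x (piElt_of_mem (isPi_of_isPGroup hp hPp) hx)
    by_cases hxa : x ∈ c a
    · obtain ⟨b, hb, hba⟩ := SetLike.not_le_iff_exists.1 fun e => hxO (hAY a ha.1 ha1 e hxa)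
      exact ⟨x * b, fun e => hxO ((mul_mem_cancel_right (hAO hb)).1 e),
        h.split ha1 (hAcomp a ha.1 ha1 hb) hba (by rw [elemAb_pow hAe hb]; exact one_mem _) hxa⟩
    · exact ⟨x, hxO, by rw [← elemAb_orderOf hp hAe ha.1 ha1,
        ← (h.baer ha1 hxa (commute_of_mem_c1 ha.2).symm).2, pow_orderOf_eq_one]⟩
  have hCA : C[A] = O := by
    obtain ⟨a, ha, ha1⟩ := exists_ne_one_of_ne_bot hA1
    exact le_antisymm (le_piCoreOf ⟨le_top, fun g _ => normalizer_le_normalizer_centralizer _ (hAN g)⟩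
      (isPi_of_le (hcentp a ha1 (piElt_of_mem hAπ ha)) (centralizer_le_centralizer_singleton ha)))
      (cent_symm hAC)
  have hxo : orderOf x = p := orderOf_eq_prime hxp fun e => hxO (e ▸ one_mem _)
  -- a `p'`-group normalised by an element of order `p`
  obtain ⟨K, u, hK1, hKπ, hu, huK⟩ : ∃ (K : Subgroup G) (u : G), K ≠ ⊥ ∧ IsPiSubgroup {p}ᶜ K ∧
      orderOf u = p ∧ u ∈ N[K] := by
    by_cases hp2 : p = 2
    · subst hp2
      obtain ⟨k, hk1, hko, hk⟩ := H9.exists_odd_inverted_of_not_mem_pCore (t := x)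
        (by rw [← pow_two, hxp]) (by rwa [pCore_eq_top_form hp])
      refine ⟨zpowers k, x, mt zpowers_eq_bot.1 hk1, isPi_zpowers_iff.2
        ((piNat_compl_singleton_iff hp).2 hko.not_two_dvd_nat), hxo, ?_⟩
      rw [← cj_eq_self_iff, cj_zpowers, hk, zpowers_inv]
    by_cases he : 2 ∣ Nat.card (⊤ : Subgroup G)
    · exfalso
      obtain ⟨t, -, ht⟩ := exists_orderOf_eq_prime Nat.prime_two he
      have hinv : ∀ s : G, orderOf s = 2 → ∀ a ∈ A, s * a * s⁻¹ = a⁻¹ := fun s hs a ha => by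
        have hs2 : s * s = 1 := by rw [← pow_two, ← hs, pow_orderOf_eq_one]
        have h3 := conj_mem_of_mem_normalizer (hAN s) ha
        by_contra hne
        refine (H10.ne_one_of_orderOf_two hs) (Q0 _ (mul_mem h3 ha) (fun e => hne
          (eq_inv_of_mul_eq_one_left e)) s (piElt_of_orderOf Nat.prime_two hs (Ne.symm hp2)) ?_)
        have h4 := comm_of_isMulCommutative hAc h3 ha
        calc s * a * s⁻¹ * a * s = s * (a * (s * a * s⁻¹)) := by
              rw [inv_eq_of_mul_eq_one_right hs2]; group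
          _ = s * (s * a * s⁻¹ * a) := by rw [h4]
      have htπ : PiElt {p}ᶜ t := piElt_of_orderOf Nat.prime_two ht (Ne.symm hp2)
      have h3 : x * t * x⁻¹ * t⁻¹ ∈ O := hCA ▸ fun a ha => by
        have h4 := hinv _ ((orderOf_conj' x t).trans ht) _ (conj_mem_of_mem_normalizer' (hAN t) ha)
        have h5 := hinv t⁻¹ ((orderOf_inv t).trans ht) a ha
        rw [inv_inv] at h5
        rw [h5, inv_inv] at h4
        calc a * (x * t * x⁻¹ * t⁻¹) = (x * t * x⁻¹ * a⁻¹ * (x * t * x⁻¹)⁻¹) * (x * t * x⁻¹ * t⁻¹) := by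
              rw [h4]
          _ = x * t * x⁻¹ * t⁻¹ * (t * a⁻¹ * t⁻¹) := by group
          _ = _ := by rw [hinv t ht _ (inv_mem ha), inv_inv]
      obtain ⟨n, hn, hnt⟩ := H69.exists_conj_eq_of_cent1 (hON t) (eq_bot_iff.2 fun z hz => by
        by_contra hz1
        exact H10.ne_one_of_orderOf_two ht (Q1 z hz1 (piElt_of_mem hOπ hz.1) t htπ
          (commute_of_mem_c1 hz.2).symm)) h3
      have h4 : PiElt {p} (n⁻¹ * x) := piElt_of_mem (isPi_sup hOπ (isPi_zpowers_iff.2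
        (piElt_of_orderOf hp hxo rfl)) (Or.inr fun g _ => hON g))
        (mul_mem_sup (inv_mem hn) (mem_zpowers x))
      refine H10.ne_one_of_orderOf_two ht (Q1 _ (fun e : n⁻¹ * x = 1 =>
        hxO (inv_mul_eq_one.1 e ▸ hn)) h4 t htπ ?_)
      calc n⁻¹ * x * t = n⁻¹ * (x * t * x⁻¹ * t⁻¹ * t) * x := by group
        _ = t * (n⁻¹ * x) := by rw [← hnt]; group
    · have hs : Group.IsSolvable (⊤ : Subgroup G) := S0205.result (Nat.odd_iff.2 (by omega))
      obtain ⟨q, hq, hq1⟩ := exists_pCoreOf_ne_bot (quo_isSolvable O hs)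
        (quo_ne_bot (lt_top_iff_ne_top.2 fun e => hxO (e ▸ mem_top x)) hOT.norm)
      have hqp : q ≠ p := fun e => hq1 (e ▸ piCoreOf_quo_self _ _)
      have := Fact.mk hq
      set M := cosetpre O O[{q}]((⊤ : Subgroup G) /ᵍ O)
      have hMT : M ⊴ ⊤ := cosetpre_normal_of_normal_quo hOT (piCoreOf_normalIn _ _)
      obtain ⟨T, hT⟩ := exists_syl q M
      have hTπ : IsPiSubgroup {p}ᶜ T := isPi_compl_of_isPGroup hq (syl_isPGroup hT) hqp
      have hMi : PiNat {q} (O.relIndex M) := by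
        rw [← card_quo (cosetpre_le_norm _), cosetpre_quo]; exact isPi_piCoreOf _ _
      have h3 : IsMul T O M := isMul_hall_of_relIndex hT (le_cosetpre _) hMi
      have h4 : IsMul O N[T] ⊤ := isMul_of_normal_left hOT (top_le_iff.1
        ((frattini_isMul hMT hT).le_of_le (h3.le_of_le (le_normalizer.trans le_sup_right)
          le_sup_left) (inf_le_right.trans le_sup_right)))
      have h5 : p ∣ Nat.card N[T] := by
        by_contra h6
        exact hOS (syl_mk le_top hOp fun e => h6 ((h4.relIndex_left ▸ e).trans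
          (relIndex_dvd_card _ _)))
      obtain ⟨u, hu, hup⟩ := exists_orderOf_eq_prime hp h5
      refine ⟨T, u, fun e => hq1 ?_, hTπ, hup, hu⟩
      rw [← cosetpre_quo (N := O) O[{q}]((⊤ : Subgroup G) /ᵍ O)]
      exact quo_eq_bot_of_le (h3.le_of_le (e ▸ bot_le) le_rfl)
  have hu1 : u ≠ 1 := fun e => hp.one_lt.ne (by rw [← hu, e, orderOf_one])
  have hKu : ∀ v, orderOf v = p → K ⊓ C1[v] = ⊥ := fun v hv => eq_bot_iff.2 fun z hz =>
    Q1 v (fun e => hp.one_lt.ne (by rw [← hv, e, orderOf_one])) (piElt_of_orderOf hp hv rfl) z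
      (piElt_of_mem hKπ hz.1) (commute_of_mem_c1 hz.2)
  obtain ⟨k₀, hk₀, hk₀1⟩ := exists_ne_one_of_ne_bot hK1
  obtain ⟨a, ha, v, hv, hvK, hav⟩ : ∃ a ∈ A, ∃ v, orderOf v = p ∧ v ∈ N[K] ∧ (a * v) ^ p ≠ 1 := by
    by_contra hcon
    push Not at hcon
    refine hA1 (eq_bot_iff.2 fun a ha => ?_)
    have := lemmaS hAc (hu ▸ hp) huK (hKu u hu) (fun g _ => hAN g) (hAN u)
      (eq_bot_iff.2 fun b hb => by
        by_contra hb1
        exact hk₀1 (Q0 b hb.1 hb1 k₀ (piElt_of_mem hKπ hk₀) (commute_of_mem_c hb.2 hk₀).symm))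
      (fun b hb k hk => hu ▸ hcon b hb _ ((orderOf_conj' k u).trans hu)
        (conj_mem_of_mem_normalizer (le_normalizer (le_normalizer hk)) huK)) ha
    exact (piElt_of_mem hAπ ha).eq_one
      (piElt_iff.2 ((isPi_piNat hKπ).of_dvd (orderOf_dvd_of_pow_eq_one this)))
  have hvp : v ^ p = 1 := hv ▸ pow_orderOf_eq_one v
  have hvk : ⁅v, k₀⁆ ∈ K := mul_mem (conj_mem_of_mem_normalizer hvK hk₀) (inv_mem hk₀)
  have hvk1 : ⁅v, k₀⁆ ≠ 1 := fun e => hk₀1 (mem_bot.1 ((hKu v hv).le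
    ⟨hk₀, mem_c1_of_commute (commutatorElement_eq_one_iff_commute.1 e)⟩))
  have hvO : v ∉ O := fun e => hvk1 (mem_bot.1 ((isPi_inf_eq_bot hOπ hKπ).le ⟨by
    rw [commutatorElement_def, mul_assoc, mul_assoc, ← mul_assoc k₀]
    exact mul_mem e (conj_mem_of_mem_normalizer (hON k₀) (inv_mem e)), hvk⟩))
  have hz : (a * v) ^ p ∈ A := by simpa [hvp] using mul_pow_mul_inv_mem (hAN v) ha p
  have hav1 : a * v ≠ 1 := fun e => hav (by rw [e, one_pow])
  have hY : c ((a * v) ^ p) = c (a * v) := h.eq hav1 hav (pow_mem (h.mem _) p)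
  have hAY' : ¬ A ≤ c (a * v) := fun e => hvO ((mul_mem_cancel_left (hAO ha)).1
    (hAY _ hz hav (hY ▸ e) (hY ▸ h.mem _)))
  have hN : ∀ b ∈ A, b ∉ c (a * v) → (b * a * v) ^ p = 1 := fun b hb hbY => by
    have := h.split hav1 (hY ▸ hAcomp _ hz hav hb) hbY (n := p)
      (by rw [elemAb_pow hAe hb]; exact one_mem _) (h.mem _)
    calc (b * a * v) ^ p = (b * (a * v * b) * b⁻¹) ^ p := by group
      _ = 1 := by rw [conj_pow, this]; simp
  have hmul : ∀ b ∈ A, ∀ b' ∈ A, (b * b' * v) ^ p = (b * v) ^ p * (b' * v) ^ p := fun b hb b' hb' => by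
    open scoped IsMulCommutative in
    have h3 := coe_prod_conjOn (hAN v) (⟨b, hb⟩ * ⟨b', hb'⟩) p
    simp only [map_mul, Finset.prod_mul_distrib, coe_mul, coe_prod_conjOn (hAN v), hvp] at h3
    simpa using h3.symm
  obtain ⟨b₀, hb₀, hb₀Y⟩ := SetLike.not_le_iff_exists.1 hAY'
  have hp2 : p = 2 := by
    have h3 := hN b₀ hb₀ hb₀Y
    have h4 := hN b₀⁻¹ (inv_mem hb₀) (mt inv_mem_iff.1 hb₀Y)
    have h5 := hmul _ (mul_mem hb₀ ha) _ (mul_mem (inv_mem hb₀) ha)
    rw [h3, h4, comm_of_isMulCommutative hAc hb₀ ha, show a * b₀ * (b₀⁻¹ * a) = a * a by group,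
      hmul a ha a ha, mul_one, ← pow_two] at h5
    exact (Nat.prime_dvd_prime_iff_eq hp Nat.prime_two).1
      (elemAb_orderOf hp hAe hz hav ▸ orderOf_dvd_of_pow_eq_one h5)
  subst hp2
  have hsq : ∀ b ∈ A, b * b = 1 := fun b hb => by rw [← pow_two, elemAb_pow hAe hb]
  have hN' : ∀ b ∈ A, (b * v) ^ 2 = 1 ↔ b ∈ C1[v] := fun b hb => by
    rw [mem_centralizer_singleton_iff, pow_two, mul_eq_one_iff_eq_inv, mul_inv_rev,
      inv_eq_of_mul_eq_one_right (hsq b hb), inv_eq_of_mul_eq_one_right ((pow_two v).symm.trans hvp)]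
  have hi : C1[v].relIndex A = 2 := by
    refine relIndex_eq_two_iff.2 ⟨a, ha, fun b hb => ?_⟩
    have h3 : a ∉ C1[v] := fun e => hav ((hN' a ha).2 e)
    by_cases h4 : b ∈ C1[v]
    · exact Or.inr ⟨h4, fun e => h3 ((mul_mem_cancel_left h4).1 e)⟩
    · refine Or.inl ⟨?_, h4⟩
      by_cases h5 : b ∈ c (a * v)
      · have h6 := (hN' _ (mul_mem (mul_mem hb hb₀) ha)).1
          (hN _ (mul_mem hb hb₀) fun e => hb₀Y ((mul_mem_cancel_left h5).1 e))
        rw [mul_assoc] at h6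
        exact absurd ((mul_mem_cancel_right ((hN' _ (mul_mem hb₀ ha)).1 (hN _ hb₀ hb₀Y))).1 h6) h4
      · exact (hN' _ (mul_mem hb ha)).1 (hN b hb h5)
  have hcard : Nat.card A = 4 := by
    have h3 : C1[k₀ * v * k₀⁻¹].relIndex A = 2 := by
      rw [← cj_centralizer_singleton, ← cj_eq_self (hAN k₀), relIndex_cj, hi]
    have h4 : C1[k₀ * v * k₀⁻¹] ⊓ (C1[v] ⊓ A) = ⊥ := eq_bot_iff.2 fun b hb => by
      by_contra hb1
      refine hvk1 (Q0 b hb.2.2 hb1 _ (piElt_of_mem hKπ hvk) ?_)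
      rw [show ⁅v, k₀⁆ = v * (k₀ * v * k₀⁻¹)⁻¹ by rw [commutatorElement_def]; group]
      exact (commute_of_mem_c1 hb.2.1).symm.mul_right (commute_of_mem_c1 hb.1).symm.inv_right
    have h5 := card_inf_mul_relIndex C1[k₀ * v * k₀⁻¹] (C1[v] ⊓ A)
    have h6 := relIndex_le_of_le_right (H := C1[k₀ * v * k₀⁻¹]) (inf_le_right : C1[v] ⊓ A ≤ A)
      (by omega)
    have h7 := card_inf_mul_relIndex C1[v] A
    obtain ⟨d, hd, hd1⟩ := hD v (piElt_of_orderOf hp hv rfl)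
    have h8 : 1 < Nat.card ↥(C1[v] ⊓ A) := (one_lt_card_iff_ne_bot _).2 (ne_bot_of_mem ⟨hd.2, hd.1⟩ hd1)
    rw [h4, card_bot] at h5
    rw [hi] at h7
    omega
  have hOA : O = A := by
    have h3 : ∀ w ∈ O, w * w = 1 := fun w hw => by
      by_cases hw1 : w = 1
      · rw [hw1, mul_one]
      obtain ⟨b, hb, hbw⟩ := SetLike.not_le_iff_exists.1 fun e : A ≤ c w =>
        hAY' (hY ▸ (h.eq hw1 hav (e hz)).symm ▸ e)
      rw [← pow_two]
      exact h.pow_eq_one hw1 hbw (commute_of_mem_c (hAC hb) hw) (elemAb_pow hAe hb)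
    refine le_antisymm (fun w hw => mem_omegaOne (X := Z[O]) ⟨hw, fun w' hw' => ?_⟩
      (by rw [pow_two, h3 w hw])) hAO
    have := inv_eq_of_mul_eq_one_right (h3 _ (mul_mem hw hw'))
    rwa [mul_inv_rev, inv_eq_of_mul_eq_one_right (h3 w hw),
      inv_eq_of_mul_eq_one_right (h3 w' hw')] at this
  have h3 : A.relIndex ⊤ ∣ 6 := by
    have := (relIndex_cent_dvd_card_mulAut (A := ⊤) fun g _ => hAN g).trans
      (H8.card_mulAut_four_dvd (H8.isKleinFour_of_card hcard hsq))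
    rwa [hCA, hOA] at this
  have h4 : 2 ∣ A.relIndex ⊤ := by
    by_contra h4
    exact hOS (syl_mk le_top hOp (hOA ▸ h4))
  have h5 : A.relIndex ⊤ ≠ 2 := fun e => hK1 (isPi_eq_bot (isPi_of_le (isPi_of_relIndex (N := A)
    (K := ⊤) (isPi_of_le hAπ inf_le_left) (by rw [e]; exact (piNat_prime hp).2 rfl)) le_top) hKπ)
  have h6 := card_mul_relIndex (le_top : A ≤ ⊤)
  have h7 : A.relIndex ⊤ = 6 := by
    have := Nat.le_of_dvd (by norm_num) h3
    interval_cases A.relIndex ⊤ <;> omega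
  refine H29.nonempty_mulEquiv_S4 (by rw [← card_top, ← h6, hcard, h7]) fun g hg => ?_
  have h8 : orderOf (g ^ 3) = 2 := by rw [orderOf_pow_of_dvd (by norm_num) (by rw [hg]; norm_num), hg]
  have h9 : orderOf (g ^ 2) = 3 := by rw [orderOf_pow_of_dvd (by norm_num) (by rw [hg]; norm_num), hg]
  rw [Q1 _ (H10.ne_one_of_orderOf_two h8) (piElt_of_orderOf hp h8 rfl) _
    (piElt_of_orderOf Nat.prime_three h9 (by norm_num)) ((Commute.refl g).pow_pow 3 2),
    orderOf_one] at h9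
  omega

theorem solv (hH : ¬ Hug G) (hF : ¬ Frob G) (hs : ¬ NoSol G) :
    Nonempty (G ≃* Equiv.Perm (Fin 4)) := by
  simp only [NoSol, not_forall] at hs
  obtain ⟨N, hN, hNs, hN1⟩ := hs
  obtain ⟨p, hp, hp1⟩ := exists_pCoreOf_ne_bot hNs hN1
  have hO1 : O[{p}]((⊤ : Subgroup G)) ≠ ⊥ :=
    ne_bot_mono hp1 (piCoreOf_le_of_normalIn (normalIn_top_iff.2 hN))
  refine h.caseII hH hF hp hO1 fun a ha ha1 t ht hd => ?_
  by_contra htp
  obtain ⟨u, hu, hut⟩ := exists_orderOf_eq_prime ht hd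
  have hAN : ∀ g, g ∈ N[omegaOne p Z[O[{p}]((⊤ : Subgroup G))]] := fun g =>
    normalizer_le_normalizer_omegaOne_center _ _ ((piCoreOf_normalIn _ _).norm (mem_top g))
  have hAe := elemAb_omegaOne_center p O[{p}]((⊤ : Subgroup G))
  have h1 := h.le_comp hF hAN (elemAb_comm hAe) (isPi_of_isPGroup hp (elemAb_isPGroup hAe)) ha ha1 hu
    (fun e => ht.one_lt.ne (by rw [← hut, e, orderOf_one])) (piElt_of_orderOf ht hut htp)
  refine hH (h.caseI hF ha1 (fun g => h.norm_le_norm ha1 h1 (ne_bot_of_mem ha ha1) (hAN g))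
    fun r _ => ?_)
  by_cases hr : t = r
  · exact ⟨p, hp, fun e => htp (hr.trans e.symm), elemAb_orderOf hp hAe ha ha1 ▸
      orderOf_dvd_card_of_mem (h.mem a)⟩
  · exact ⟨t, ht, hr, hd⟩

end NP

end Cfsg.Agent.H61.Part
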