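import Cfsg.Agent.Lead.PcDefs
import Cfsg.Agent.H83.Syl

/-! Project PL, piece A3: the layers. -/

set_option autoImplicit false

namespace Cfsg.Agent.H61.PcA3

open Subgroup Cfsg.Agent.Lead.Pc Cfsg.Agent.H83
open scoped commutatorElement

universe u

theorem sq_cj {G : Type u} [Group G] {T : Subgroup G} {n : G} (hn : n ∈ Nm T) {s : G}
    (hs : s ∈ Sq T) : n * s * n⁻¹ ∈ Sq T := by
  induction hs using closure_induction with
  | mem x hx =>
    obtain ⟨t, ht, rfl⟩ := hx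
    exact subset_closure ⟨_, (mem_normalizer_iff.1 hn t).1 ht, (conj_mul).symm⟩
  | one => simp
  | mul x y _ _ h1 h2 => rw [← conj_mul]; exact mul_mem h1 h2
  | inv x _ h1 => rw [← conj_inv]; exact inv_mem h1

theorem a3 : A3Stmt.{u} := by
  intro q a2 G _ _ S T st ev cv ⟨O, oO, nO, hO⟩
  have : Fact (Nat.Prime 2) := ⟨Nat.prime_two⟩
  have := st.nm
  have syl : IsSylowIn 2 T S := isSylowIn_of_not_dvd_relIndex st.le st.two st.odd.not_two_dvd_nat
  have lift : ∀ (N : Subgroup G) [N.Normal], S ≤ N → ∀ x : G ⧸ N, ∃ n ∈ Nm T,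
      QuotientGroup.mk' N n = x := fun N _ h x => by
    obtain ⟨g, rfl⟩ := QuotientGroup.mk'_surjective N x
    obtain ⟨s, hs, n, hn, rfl⟩ := syl.frattini (g := g) (by rw [normalizer_eq_top]; trivial)
    exact ⟨n, hn, by
      rw [map_mul, show QuotientGroup.mk' N s = 1 from (QuotientGroup.eq_one_iff s).2 (h hs), one_mul]⟩
  have nrm : ∀ (N : Subgroup G) [N.Normal], S ≤ N → ∀ K : Subgroup G,
      (∀ n ∈ Nm T, ∀ k ∈ K, n * k * n⁻¹ ∈ K) → (K.map (QuotientGroup.mk' N)).Normal :=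
    fun N _ h K hK => ⟨by
      rintro _ ⟨k, hk, rfl⟩ x
      obtain ⟨n, hn, rfl⟩ := lift N h x
      exact ⟨_, hK n hn k hk, by simp⟩⟩
  obtain ⟨S1, ⟨n1, le1, odd1⟩, hmax⟩ := Set.Finite.exists_maximal
    (s := {N : Subgroup G | N.Normal ∧ S ≤ N ∧ Odd (S.relIndex N)}) (Set.toFinite _)
    ⟨S, st.nm, le_rfl, by rw [relIndex_self]; exact odd_one⟩
  have OS : O ≤ S1 := by
    have n2 : (O ⊔ S1).Normal := by
      have := (nrm S1 le1 O fun n hn k hk => (mem_normalizer_iff.1 (nO hn) k).1 hk).comap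
        (QuotientGroup.mk' S1)
      rwa [comap_map_eq, QuotientGroup.ker_mk'] at this
    refine le_sup_left.trans (hmax (y := O ⊔ S1) ⟨n2, le1.trans le_sup_right, ?_⟩ le_sup_right)
    rw [← relIndex_mul_relIndex S S1 _ le1 le_sup_right, relIndex_sup_right]
    exact odd1.mul (oO.of_dvd_nat (relIndex_dvd_card _ _))
  let C : Subgroup G :=
    { carrier := {n | n ∈ Nm T ∧ ∀ t ∈ T, ⁅n, t⁆ ∈ Sq T}
      one_mem' := ⟨one_mem _, fun t _ => by simp⟩
      mul_mem' := fun {a b} ha hb => ⟨mul_mem ha.1 hb.1, fun t ht => by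
        have := mul_mem (sq_cj ha.1 (hb.2 t ht)) (ha.2 t ht)
        simpa [commutatorElement_def, mul_assoc] using this⟩
      inv_mem' := fun {a} ha => ⟨inv_mem ha.1, fun t ht => by
        have := sq_cj (inv_mem ha.1) (inv_mem (ha.2 t ht))
        simpa [commutatorElement_def, mul_assoc] using this⟩ }
  let π := QuotientGroup.mk' S1
  have hπ : ∀ g, π g = 1 ↔ g ∈ S1 := QuotientGroup.eq_one_iff
  obtain ⟨A, nA, hA⟩ := a2 (G ⧸ S1) (C.map π) (q G _ π (QuotientGroup.mk'_surjective _) st.cp)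
    (nrm S1 le1 C fun m hm c hc => ⟨mul_mem (mul_mem hm hc.1) (inv_mem hm), fun t ht => by
      have := sq_cj hm (hc.2 _ ((mem_normalizer_iff''.1 hm t).1 ht))
      simpa [commutatorElement_def, mul_assoc] using this⟩)
    (by
      rintro ⟨_, c, hc, rfl⟩
      obtain ⟨k, hk⟩ := hO c hc.1 hc.2
      exact ⟨k, Subtype.ext (by
        change π c ^ 2 ^ k = 1
        rw [← map_pow, hπ]
        exact OS hk)⟩)
    (fun x hx => by
      by_cases x1 : x = 1
      · exact x1 ▸ one_mem _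
      obtain ⟨n, hn, e⟩ := lift S1 le1 x
      obtain ⟨a, m, ⟨j, hm⟩, e1⟩ := Nat.exists_eq_two_pow_mul_odd (orderOf_pos n).ne'
      have e2 : π (n ^ m) = x := by
        rw [map_pow, show π n = x from e, hm, pow_succ, pow_mul, pow_two, hx, one_pow, one_mul]
      have h1 : (n ^ m * n ^ m) ^ 2 ^ a = 1 := by
        rw [← pow_two, ← pow_mul, mul_comm, pow_mul, ← pow_mul n, mul_comm m, ← e1,
          pow_orderOf_eq_one, one_pow]
      have h2 : n ^ m * n ^ m ∈ S1 := by rw [← hπ, map_mul, e2, hx]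
      have h3 : n ^ m * n ^ m ∈ S := by
        obtain ⟨l, hl⟩ := exists_pow_eq_self_of_coprime (x := n ^ m * n ^ m) (n := S.relIndex S1)
          (((Nat.coprime_two_right.2 odd1).pow_right a).of_dvd_right (orderOf_dvd_of_pow_eq_one h1))
        exact hl ▸ pow_mem (S.pow_relIndex_mem h2) l
      have h4 := pow_mem hn m
      exact ⟨n ^ m, ⟨h4, (cv _ ⟨h4, fun h => x1 (e2 ▸ (hπ _).2 (le1 h)),
        syl.mem_of_norm h3 h1 (mul_mem h4 h4)⟩).2⟩, e2⟩)
  have mem : ∀ g, g ∈ A.comap π ↔ g * g ∈ S1 := fun g => by rw [mem_comap, hA, ← map_mul, hπ]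
  obtain ⟨R, hR, hTR⟩ := exists_isSylowIn_ge (H := A.comap π)
    (fun t ht => (mem t).2 (le1 (st.le (mul_mem ht ht)))) st.two
  refine ⟨S1, A.comap π, R, n1, nA.comap π, le1, odd1, mem, fun h => ?_, hTR, hR.le, hR.isPGroup,
    Nat.odd_iff.2 (Nat.two_dvd_ne_zero.1 hR.not_dvd_relIndex)⟩
  rw [← relIndex_mul_index le1, Nat.even_mul] at ev
  obtain ⟨x, hx⟩ := exists_prime_orderOf_dvd_card' (G := G ⧸ S1) 2
    (ev.resolve_left (Nat.not_even_iff_odd.2 odd1)).two_dvd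
  obtain ⟨g, rfl⟩ := QuotientGroup.mk'_surjective S1 x
  have h1 : g ∈ S1 := h ((hA _).2 (by rw [← pow_two, ← hx, pow_orderOf_eq_one]))
  rw [show QuotientGroup.mk' S1 g = 1 from (hπ g).2 h1, orderOf_one] at hx
  omega

end Cfsg.Agent.H61.PcA3
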