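import Mathlib
import Cfsg.Agent.H61.RegLin2
import Cfsg.Agent.S0690
import Cfsg.Agent.S0144
import Cfsg.Agent.S0813
import Cfsg.Agent.H29.PSL2Sub
import Cfsg.Agent.H28.PSL2Small
import Cfsg.Agent.H26.SLBasic
import Cfsg.Agent.H73.MatAut

/-!
Non-solvable groups regular on non-zero vectors.
-/

set_option autoImplicit false

namespace Cfsg.Agent.H61

universe u

theorem projAut_injective {X : Type*} [Group X] (hX : commutator X = ⊤) :
    Function.Injective (H73.projAut : MulAut X →* _) := by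
  rw [injective_iff_map_eq_one]
  intro α hα
  have h1 : ∀ x : X, x⁻¹ * α x ∈ Subgroup.center X := fun x => by
    have := H73.projAut_mk α x
    rw [hα] at this
    exact QuotientGroup.eq.mp this
  let f : X →* Subgroup.center X := MonoidHom.mk' (fun x => ⟨x⁻¹ * α x, h1 x⟩) fun x y =>
    Subtype.ext (by
      change (x * y)⁻¹ * α (x * y) = x⁻¹ * α x * (y⁻¹ * α y)
      rw [← mul_assoc (x⁻¹ * α x), ← Subgroup.mem_center_iff.mp (h1 x) y⁻¹, map_mul]
      group)
  have h2 : commutator X ≤ f.ker := by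
    rw [commutator_def, Subgroup.commutator_le]
    intro a _ b _
    rw [MonoidHom.mem_ker, map_commutatorElement, commutatorElement_eq_one_iff_mul_comm]
    exact Subtype.ext (Subgroup.mem_center_iff.mp (f b).2 _)
  ext x
  have h3 : x⁻¹ * α x = 1 := congrArg Subtype.val (h2 (hX ▸ Subgroup.mem_top x))
  exact (inv_mul_eq_one.mp h3).symm

theorem card_sl25 : Nat.card (Matrix.SpecialLinearGroup (Fin 2) (ZMod 5)) = 120 := by
  have : Fact (Nat.Prime 5) := ⟨by norm_num⟩
  exact H28.card_SL2 (F := ZMod 5) (q := 5) (ZMod.card 5)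

theorem card_center_sl25 :
    Nat.card (Subgroup.center (Matrix.SpecialLinearGroup (Fin 2) (ZMod 5))) = 2 := by
  have : Fact (Nat.Prime 5) := ⟨by norm_num⟩
  have := H26.card_center_sl (ι := Fin 2) (F := ZMod 5)
  rw [Nat.card_zmod] at this
  exact this

theorem card_mulAut_sl25_dvd :
    Nat.card (MulAut (Matrix.SpecialLinearGroup (Fin 2) (ZMod 5))) ∣ 120 := by
  have h0 : ∃ x : ZMod 5, x ≠ 0 ∧ x ^ 2 ≠ 1 := by decide
  have : Fact (Nat.Prime 5) := ⟨by norm_num⟩
  have h1 := Cfsg.Agent.S0813.result (F := ZMod 5) 5 1 le_rfl (ZMod.card 5) 2 le_rfl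
    (fun _ => by norm_num)
  rw [H29.card_PGL2, Nat.card_zmod] at h1
  have h2 := Subgroup.card_dvd_of_injective _ (projAut_injective
    (H26.sl_commutator_eq_top (ι := Fin 2) (F := ZMod 5) (Or.inr h0)))
  exact h2.trans (dvd_of_eq h1)

variable {G : Type*} {V : Type u} [Group G] [AddCommGroup V] [DistribMulAction G V]

theorem IsRL.sl25_of_perfect (h : IsRL G V) [Finite V] (N : Subgroup G) (hN : ⁅N, N⁆ = N)
    (hne : N ≠ ⊥) : Nonempty (N ≃* Matrix.SpecialLinearGroup (Fin 2) (ZMod 5)) := by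
  let _ := multAction N V
  let ψ : N →* MulAut (Multiplicative V) := MulDistribMulAction.toMulAut N (Multiplicative V)
  have hψ : Function.Injective ψ := (injective_iff_map_eq_one ψ).mpr fun n hn =>
    Subtype.ext (h.faithful n.1 fun v => MulEquiv.congr_fun hn (Multiplicative.ofAdd v))
  have e := MonoidHom.ofInjective hψ
  have hc : commutator N = ⊤ := by
    apply Subgroup.map_injective N.subtype_injective
    rw [commutator_def, Subgroup.map_commutator, ← MonoidHom.range_eq_map, N.range_subtype, hN]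
  obtain ⟨f⟩ := Cfsg.Agent.S0690.result ψ.range (by
      rintro _ ⟨n, rfl⟩ hn k hk
      exact h.free n.1 (fun e => hn (by rw [show n = 1 from Subtype.ext e, map_one])) k.toAdd hk)
    (by
      rw [commutator_def, ← Subgroup.map_top_of_surjective e.toMonoidHom e.surjective,
        ← Subgroup.map_commutator, ← commutator_def, hc])
    (by
      rw [← Subgroup.nontrivial_iff_ne_bot] at hne ⊢
      exact e.injective.nontrivial)
  exact ⟨e.trans f⟩

theorem sl25_arith {q m a t : ℕ} (hm : 2 ≤ m) (hq : 2 ≤ q) (h1 : t * a = q ^ m - 1)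
    (h2 : a ∣ q - 1) (h3 : 2 ∣ a) (h4 : ¬ 3 ∣ a) (h5 : t ∣ 120) (h6 : 60 ∣ t) (h7 : q ≠ 119) :
    m = 2 ∧ t = 60 ∧ ((q = 11 ∧ a = 2) ∨ (q = 29 ∧ a = 14) ∨ (q = 59 ∧ a = 58)) := by
  obtain ⟨j, hj⟩ := h2
  have ha : 0 < a := Nat.pos_of_ne_zero (by rintro rfl; omega)
  rw [← geom_sum_mul_of_one_le (show 1 ≤ q by omega), hj, mul_comm a, ← mul_assoc] at h1
  have h8 := Nat.eq_of_mul_eq_mul_right ha h1
  have ht : t = 60 ∨ t = 120 := by
    have := Nat.le_of_dvd (by norm_num) h5
    have := Nat.pos_of_dvd_of_pos h5 (by norm_num)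
    omega
  have hj0 : 0 < j := Nat.pos_of_ne_zero (by rintro rfl; omega)
  have h9 : ∑ i ∈ Finset.range m, q ^ i ∣ 120 := (Dvd.intro _ h8.symm).trans h5
  have h10 := Nat.le_of_dvd (by norm_num) h9
  have hq2 : q % 2 = 1 := by
    obtain ⟨b, rfl⟩ := h3
    rw [mul_assoc] at hj
    omega
  have hm2 : m = 2 := by
    by_contra hm2
    have hm5 : m < 5 := by
      by_contra hm5
      have h11 : ∑ i ∈ Finset.range 5, 3 ^ i ≤ ∑ i ∈ Finset.range m, q ^ i :=
        le_trans (Finset.sum_le_sum fun i _ => Nat.pow_le_pow_left (by omega) i)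
          (Finset.sum_le_sum_of_subset (Finset.range_subset_range.mpr (by omega)))
      simp only [Finset.sum_range_succ, Finset.range_zero, Finset.sum_empty] at h11
      omega
    have h11 : q ^ 2 ≤ ∑ i ∈ Finset.range m, q ^ i :=
      Finset.single_le_sum (f := fun i => q ^ i) (fun _ _ => Nat.zero_le _)
        (Finset.mem_range.mpr (by omega))
    have hq11 : q < 11 := by
      by_contra h
      have : 11 ^ 2 ≤ q ^ 2 := Nat.pow_le_pow_left (by omega) 2
      omega
    have hj' : j ∣ q - 1 := Dvd.intro_left _ hj.symm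
    have hj1 := Nat.le_of_dvd (by omega) hj'
    clear h1 h10 h11
    interval_cases m <;>
      simp only [Finset.sum_range_succ, Finset.range_zero, Finset.sum_empty] at h8 h9 <;>
      first | omega | (interval_cases q <;> omega)
  subst hm2
  simp only [Finset.sum_range_succ, Finset.range_zero, Finset.sum_empty, pow_zero, pow_one,
    zero_add] at h8 h9 h10
  have hq' : q = 3 ∨ q = 5 ∨ q = 7 ∨ q = 9 ∨ q = 11 ∨ q = 19 ∨ q = 23 ∨ q = 29 ∨ q = 39 ∨
      q = 59 := by
    have : q ≤ 119 := by omega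
    interval_cases q <;> omega
  rcases hq' with rfl | rfl | rfl | rfl | rfl | rfl | rfl | rfl | rfl | rfl <;>
    rcases ht with rfl | rfl <;>
    first
    | omega
    | (obtain rfl : j = _ := Nat.eq_of_mul_eq_mul_left (by norm_num) (h8.symm.trans
        (Nat.mul_div_cancel' (Dvd.intro _ h8.symm)).symm); omega)

theorem IsRL.nonsolvable (h : IsRL G V) [Finite V] (hns : ¬ Group.IsSolvable G) :
    (Nat.card V = 121 ∧ Nonempty (G ≃* Matrix.SpecialLinearGroup (Fin 2) (ZMod 5))) ∨
    (Nat.card V = 841 ∧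
      Nonempty (G ≃* Matrix.SpecialLinearGroup (Fin 2) (ZMod 5) × Multiplicative (ZMod 7))) ∨
    (Nat.card V = 3481 ∧
      Nonempty (G ≃* Matrix.SpecialLinearGroup (Fin 2) (ZMod 5) × Multiplicative (ZMod 29))) := by
  have := h.finite
  have : Nontrivial V := by
    by_contra hh
    rw [not_nontrivial_iff_subsingleton] at hh
    have : Subsingleton G := ⟨fun a b => h.eq_of_smul_eq fun v => Subsingleton.elim _ _⟩
    exact hns inferInstance
  obtain ⟨A, hAn, hA, hmax⟩ := exists_max_abelian_normal G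
  have hAc := h.isCyclic_of_comm A hA
  have hsolv : ∀ {X : Type _} [Group X] [Group.IsSolvable X] (φ : G →* X), φ.ker = A → False :=
    fun φ hφ => by
      have : Group.IsSolvable A := Group.isSolvable_of_comm fun a b => Subtype.ext (hA _ a.2 _ b.2)
      exact hns (Group.isSolvable_of_ker_le_range A.subtype φ (by rw [hφ, A.range_subtype]))
  have hirr : ¬ IrrOn V A := fun hirr => by
    obtain ⟨D, _, _, _, -, hsc⟩ := hirr.exists_field
    have hC := hmax _ inferInstance (h.comm_of_scalars hsc) fun a ha b hb => hA b hb a ha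
    have : Group.IsSolvable (MulAut A) := Group.isSolvable_of_comm mulAut_comm_of_isCyclic
    exact hsolv MulAut.conjNormal ((ker_conjNormal A).trans hC)
  obtain ⟨N, hNn, hNC, hnc, hmin⟩ :=
    exists_min_nonabelian_normal _ (h.centralizer_not_comm A hA hmax hirr)
  have hC := h.centralizer_eq A N hmax hNC hnc
  have hperf : ⁅N, N⁆ = N := by
    by_contra hlt
    obtain ⟨e⟩ := h.quaternion_of_min A N hA hmax hNC hnc hmin hlt
    obtain ⟨f⟩ := Cfsg.Agent.S3742.result
    have : Group.IsSolvable (MulAut N) := Cfsg.Agent.S0144.result 2 3 3 1 Nat.prime_two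
      Nat.prime_three (by
        rw [Nat.card_congr ((MulAut.congr e).trans f).toEquiv, Nat.card_perm, Nat.card_fin]
        rfl)
    exact hsolv MulAut.conjNormal ((ker_conjNormal N).trans hC)
  obtain ⟨e⟩ := h.sl25_of_perfect N hperf (by rintro rfl; exact hnc (by simp))
  have hN : Nat.card N = 120 := (Nat.card_congr e.toEquiv).trans card_sl25
  have hZ : A.subgroupOf N = Subgroup.center N := by
    ext x
    rw [Subgroup.mem_subgroupOf, ← hC, Subgroup.mem_center_iff]
    exact ⟨fun hx y => Subtype.ext (hx y.1 y.2), fun hx y hy => congrArg Subtype.val (hx ⟨y, hy⟩)⟩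
  have hZc : Nat.card (A.subgroupOf N) = 2 := by
    rw [hZ, Nat.card_congr (Subgroup.centerCongr e).toEquiv, card_center_sl25]
  have h5 : A.index ∣ 120 := by
    rw [← hC, ← ker_conjNormal, Subgroup.index_ker]
    refine (Subgroup.card_subgroup_dvd_card _).trans ?_
    rw [Nat.card_congr (MulAut.congr e).toEquiv]
    exact card_mulAut_sl25_dvd
  have h6 : 60 ∣ A.index := by
    have h1 := (A.subgroupOf N).index_mul_card
    rw [hZc, hN] at h1
    have h2 := A.relIndex_dvd_index_of_normal N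
    rwa [show A.relIndex N = 60 by rw [Subgroup.relIndex]; omega] at h2
  have h3 : 2 ∣ Nat.card A := by
    rw [← hZc, ← Subgroup.card_map_of_injective N.subtype_injective, Subgroup.subgroupOf_map_subtype]
    exact Subgroup.card_dvd_of_le inf_le_left
  have h4 : ¬ 3 ∣ Nat.card A := fun h3 => by
    have : Fact (Nat.Prime 3) := ⟨Nat.prime_three⟩
    obtain ⟨a, ha⟩ := exists_prime_orderOf_dvd_card' (G := A) 3 h3
    obtain ⟨n, hn⟩ := exists_prime_orderOf_dvd_card' (G := N) 3 (by rw [hN]; decide)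
    let _ := multAction G V
    have h7 := h.semireg.mem_zpowers_of_commute Nat.prime_three (x := a.1) (y := n.1)
      (by rw [Subgroup.orderOf_coe, ha]) (by rw [Subgroup.orderOf_coe, hn]) (hNC n.2 a.1 a.2)
    have h8 : a.1 ∈ N := Subgroup.zpowers_le.mpr n.2 h7
    have h9 := (A.subgroupOf N).orderOf_dvd_natCard (x := ⟨a.1, h8⟩) a.2
    rw [hZc, Subgroup.orderOf_mk, Subgroup.orderOf_coe, ha] at h9
    omega
  obtain ⟨D, _, _, _, hlin, hsc⟩ := (h.irrOn_of_not_comm N hnc).exists_field
  rw [hC] at hsc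
  have hV : Nat.card V = Nat.card D ^ Module.finrank D V := Module.natCard_eq_pow_finrank
  have hG := h.card_eq
  obtain ⟨hm, ht, hq⟩ := sl25_arith (h.two_le_finrank hlin hnc) Finite.one_lt_card
    (A.index_mul_card.trans (hV ▸ hG)) (h.card_dvd_of_scalars hsc).1 h3 h4 h5 h6 (by
      intro e
      have := Fintype.ofFinite D
      have h1 := FiniteField.isPrimePow_card D
      rw [← Nat.card_eq_fintype_card, e] at h1
      exact absurd ((isPrimePow_iff_unique_prime_dvd.mp h1).unique (y₁ := 7) (y₂ := 17)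
        ⟨by norm_num, by norm_num⟩ ⟨by norm_num, by norm_num⟩) (by norm_num))
  rw [hm] at hV
  have key : ∀ k : ℕ, k.Prime → k ∣ Nat.card A → Nat.card G = 120 * k → Nat.Coprime 120 k →
      Nonempty (G ≃* Matrix.SpecialLinearGroup (Fin 2) (ZMod 5) × Multiplicative (ZMod k)) := by
    intro k hk h1 h2 h7
    have := Fact.mk hk
    obtain ⟨b, hb⟩ := exists_prime_orderOf_dvd_card' (G := A) k h1
    have hB : Nat.card (Subgroup.zpowers b.1) = k := by
      rw [Nat.card_zpowers, Subgroup.orderOf_coe, hb]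
    obtain ⟨f⟩ := exists_mulEquiv_prod N (Subgroup.zpowers b.1)
      (Subgroup.isComplement'_of_coprime (by rw [hN, hB, h2]) (by rwa [hN, hB]))
      fun s hs x hx => (hNC hs x (Subgroup.zpowers_le.mpr b.2 hx)).symm
    exact ⟨f.trans (e.prodCongr (mulEquivOfPrimeCardEq (p := k) hB (by simp)))⟩
  rcases hq with ⟨h1, h2⟩ | ⟨h1, h2⟩ | ⟨h1, h2⟩ <;> rw [h1] at hV
  · have : N = ⊤ := Subgroup.eq_top_of_card_eq _ (by omega)
    subst this
    exact Or.inl ⟨hV, ⟨Subgroup.topEquiv.symm.trans e⟩⟩
  · exact Or.inr (Or.inl ⟨hV, key 7 (by norm_num) (by rw [h2]; decide) (by omega) (by decide)⟩)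
  · exact Or.inr (Or.inr ⟨hV, key 29 (by norm_num) (by rw [h2]; decide) (by omega) (by decide)⟩)

end Cfsg.Agent.H61
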