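import Cfsg.Agent.H29.SpKit

/-! The translations of the orthogonal case. -/

set_option autoImplicit false

namespace Cfsg.Agent.H61.SpPt

open Cfsg Cfsg.Agent.H63 Cfsg.Agent.H63.SL Cfsg.Agent.H26 Cfsg.Agent.H78 Subgroup Module
open Cfsg.Agent.H68.Sp Cfsg.Agent.H29.SpK
open scoped commutatorElement

universe u v

variable {F V : Type v} [Field F] [AddCommGroup V] [Module F V] {G : Type u} [Group G]
  {P : PForm F V} {φ : P.E →* G} {L : Subgroup G} {k : ℕ} {t : G}

theorem span_ind {ι : Type*} {e : ι → V} (Q : V → Prop) (h0 : Q 0) (hm : ∀ i (r : F), Q (r • e i))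
    (ha : ∀ x ∈ Submodule.span F (Set.range e), ∀ y ∈ Submodule.span F (Set.range e),
      Q x → Q y → Q (x + y)) : ∀ v ∈ Submodule.span F (Set.range e), Q v := by
  intro v hv
  have : ∀ r : F, Q (r • v) := by
    induction hv using Submodule.span_induction with
    | mem x hx => obtain ⟨i, rfl⟩ := hx; exact hm i
    | zero => intro r; rwa [smul_zero]
    | add x y hx hy h1 h2 =>
      intro r
      rw [smul_add]
      exact ha _ (Submodule.smul_mem _ _ hx) _ (Submodule.smul_mem _ _ hy) (h1 r) (h2 r)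
    | smul a x _ h1 => intro r; rw [smul_smul]; exact h1 _
  simpa using this 1

/-- the maximal isotropic subspace of a frame -/
abbrev WW (Fr : Frame P k) : Submodule F V :=
  Submodule.span F (Set.range fun i => Fr.e (i, false))

theorem e_mem (Fr : Frame P k) (i : Fin k) (r : F) : r • Fr.e (i, false) ∈ WW Fr :=
  Submodule.smul_mem _ _ (Submodule.subset_span ⟨i, rfl⟩)

theorem iso (h : SG P φ L k) (Fr : Frame P k) {x y : V} (hx : x ∈ WW Fr) (hy : y ∈ WW Fr) :
    P.f x y = 0 := by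
  refine span_ind (fun x => P.f x y = 0) (P.f_zero_left _) (fun i r => ?_)
    (fun a _ b _ h1 h2 => by rw [P.f_add_left, h1, h2, add_zero]) x hx
  refine span_ind (fun y => P.f (r • Fr.e (i, false)) y = 0) (P.f_zero_right _) (fun j s => ?_)
    (fun a _ b _ h1 h2 => by rw [P.f_add_right, h1, h2, add_zero]) y hy
  rw [fr h, fc h, fr h, Fr.orth _ _ (by simp [ng]), mul_zero, mul_zero]

variable (P φ) in
/-- `q` is a translation by `b` -/
structure Tl (t : G) (W : Submodule F V) (b : V) (q : G) : Prop where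
  cs : ∀ u ∈ W, ∀ w ∈ W, Commute q (Es P φ u w)
  ct : q * t * q⁻¹ = t * tv P φ b 1
  cv : ∀ v ∈ W, q * tv P φ v 1 * q⁻¹ = tv P φ v 1 * Es P φ b v

theorem Tl.add (h : SG P φ L k) {Fr : Frame P k} {b b' : V} {q q' : G} (hb : b ∈ WW Fr)
    (hb' : b' ∈ WW Fr) (h1 : Tl P φ t (WW Fr) b q) (h2 : Tl P φ t (WW Fr) b' q') :
    Tl P φ t (WW Fr) (b + b') (q * q') where
  cs u hu w hw := (h1.cs u hu w hw).mul_left (h2.cs u hu w hw)
  ct := by
    calc _ = q * (q' * t * q'⁻¹) * q⁻¹ := by group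
      _ = q * t * q⁻¹ * (q * tv P φ b' 1 * q⁻¹) := by rw [h2.ct]; group
      _ = _ := by rw [h1.ct, h1.cv _ hb', tv_add_vec h (iso h Fr hb hb'), one_smul]; group
  cv v hv := by
    calc _ = q * (q' * tv P φ v 1 * q'⁻¹) * q⁻¹ := by group
      _ = q * tv P φ v 1 * q⁻¹ * (q * Es P φ b' v * q⁻¹) := by rw [h2.cv _ hv]; group
      _ = _ := by
        rw [h1.cv _ hv, (h1.cs _ hb' _ hv).eq, Es_symm h (b + b'),
          Es_add0 h (iso h Fr hv hb) (iso h Fr hv hb') (iso h Fr hb hb'), Es_symm h v, Es_symm h v]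
        group

theorem Tl.base (h : SG P φ L k) {Fr : Frame P k} {i : Fin k} {s : F} {q : G}
    (m : MB P φ Fr t 1 (i, false) s q) : Tl P φ t (WW Fr) (s • Fr.e (i, false)) q := by
  have cs : ∀ u ∈ WW Fr, ∀ w ∈ WW Fr, Commute q (Es P φ u w) := by
    intro u hu w hw
    revert u
    refine span_ind (fun u => Commute q (Es P φ u w)) (by
      rw [Es_symm h, Es_zero]; exact Commute.one_right _) (fun a r => ?_) fun x hx y hy h1 h2 => by
        rw [Es_symm h] at h1 h2 ⊢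
        rw [Es_add0 h (iso h Fr hw hx) (iso h Fr hw hy) (iso h Fr hx hy)]
        exact h1.mul_right h2
    revert w
    refine span_ind (fun w => Commute q (Es P φ (r • Fr.e (a, false)) w)) (by
      rw [Es_zero]; exact Commute.one_right _) (fun c r' => ?_) fun x hx y hy h1 h2 => by
        rw [Es_add0 h (iso h Fr (e_mem Fr a r) hx) (iso h Fr (e_mem Fr a r) hy) (iso h Fr hx hy)]
        exact h1.mul_right h2
    rw [Es_smul h, smul_smul]
    by_cases e : a = c
    · rw [e, Es_self h]; exact Commute.one_right _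
    · exact m.comS (a, false) (c, false) e (by simp [ng]) (by simp [ng]) _
  have hb := e_mem Fr i s
  refine ⟨cs, by rw [m.mv, tv_smul h, mul_one], ?_⟩
  refine span_ind (fun v => q * tv P φ v 1 * q⁻¹ = tv P φ v 1 * Es P φ (s • Fr.e (i, false)) v)
    (by rw [Es_zero, H68.Sp.tv, ET_zero_left h]; group) (fun c r => ?_) fun x hx y hy h1 h2 => ?_
  · have h1 := m.comT (c, false) (by simp [ng]) r
    rw [commutatorElement_def, mul_inv_eq_iff_eq_mul, one_mul, ← smul_smul, ← Es_smul h,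
      ← mul_one (r * r), ← tv_smul h] at h1
    rw [h1]
    exact (comm_tv_ET h (iso h Fr (e_mem Fr c r) hb)
      (iso h Fr (e_mem Fr c r) (e_mem Fr c r)) 1 0).eq.symm
  · have c1 := (cs x hx y hy).eq
    have c2 := (comm_tv_ET h (iso h Fr hy hb) (iso h Fr hy hx) 1 0).eq
    have c3 := (comm_orth h (iso h Fr hx hb) (iso h Fr hx hx) (iso h Fr hy hb) (iso h Fr hy hx)
      0 0).eq
    have c4 := (comm_orth h (iso h Fr hx hb) (iso h Fr hx hy) (iso h Fr hy hb) (iso h Fr hy hy)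
      0 0).eq
    rw [tv_add_vec h (iso h Fr hx hy), one_smul,
      Es_add0 h (iso h Fr hb hx) (iso h Fr hb hy) (iso h Fr hx hy)]
    calc _ = q * tv P φ x 1 * q⁻¹ * (q * tv P φ y 1 * q⁻¹) * (q * Es P φ x y * q⁻¹) := by group
      _ = tv P φ x 1 * (Es P φ (s • Fr.e (i, false)) x * tv P φ y 1) *
          (Es P φ (s • Fr.e (i, false)) y * Es P φ x y) := by rw [h1, h2, c1]; group
      _ = tv P φ x 1 * tv P φ y 1 * (Es P φ (s • Fr.e (i, false)) x * Es P φ x y) *
          Es P φ (s • Fr.e (i, false)) y := by rw [← c2, ← c4]; group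
      _ = _ := by rw [← c3]; group

theorem Tl.conj (h : SG P φ L k) (ht : t ∈ C[L]) {W W' : Submodule F V} {b : V} {q : G} (e : P.E)
    (he : ∀ v ∈ W', e.1 v ∈ W) (h1 : Tl P φ t W (e.1 b) q) :
    Tl P φ t W' b ((φ e)⁻¹ * q * φ e) where
  cs u hu w hw := by
    have := (h1.cs _ (he u hu) _ (he w hw)).eq
    rw [← conj_Es h] at this
    calc (φ e)⁻¹ * q * φ e * Es P φ u w
        = (φ e)⁻¹ * (q * (φ e * Es P φ u w * (φ e)⁻¹)) * φ e := by group
      _ = _ := by rw [this]; group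
  ct := by
    have e1 : φ e * t = t * φ e := ht _ (φ_mem h e)
    calc _ = (φ e)⁻¹ * (q * (φ e * t * (φ e)⁻¹) * q⁻¹) * φ e := by group
      _ = (φ e)⁻¹ * (t * φ e) * tv P φ b 1 := by
        rw [e1, mul_inv_cancel_right, h1.ct, ← conj_tv h]; group
      _ = _ := by rw [← e1]; group
  cv v hv := by
    calc _ = (φ e)⁻¹ * (q * (φ e * tv P φ v 1 * (φ e)⁻¹) * q⁻¹) * φ e := by group
      _ = _ := by rw [conj_tv h, h1.cv _ (he v hv), ← conj_tv h, ← conj_Es h]; group

theorem dt_conj {x : G} (n : G) (h : x ∈ Dt t) : n * x * n⁻¹ ∈ Dt t := by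
  obtain ⟨g, rfl⟩ := h
  exact ⟨n * g, by group⟩

theorem pt : PtStmt.{u, v} := by
  intro F V _ _ _ _ _ G _ _ P φ L k t c Fr hN c0 p hp
  have h : SG P φ L k := c.toSG
  have ex0 : ∀ b ∈ WW Fr, ∃ q, Tl P φ t (WW Fr) b q :=
    span_ind (fun b => ∃ q, Tl P φ t (WW Fr) b q)
      ⟨1, fun _ _ _ _ => Commute.one_left _, by rw [H68.Sp.tv, ET_zero_left h]; group, fun v _ => by
        rw [Es_symm h, Es_zero]; group⟩ (fun i r => ⟨_, Tl.base h (hp.mb _ r)⟩)
      fun x hx y hy ⟨_, h1⟩ ⟨_, h2⟩ => ⟨_, Tl.add h hx hy h1 h2⟩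
  have li : ∀ Fr' : Frame P k, LinearIndependent F fun i => Fr'.e (i, false) := fun Fr' =>
    (c.g1.li Fr').comp (fun i => (i, false)) fun i j e => congrArg Prod.fst e
  have ex : ∀ Fr' : Frame P k, ∀ b ∈ WW Fr', ∃ q, Tl P φ t (WW Fr') b q := fun Fr' b hb => by
    obtain ⟨e, he⟩ := c.g1.witt _ _ (li Fr') (li Fr) fun i j => by
      rw [Fr.orth _ _ (by simp [ng]), Fr'.orth _ _ (by simp [ng])]
    have hw : ∀ v ∈ WW Fr', e.1 v ∈ WW Fr :=
      span_ind (fun v => e.1 v ∈ WW Fr) (by simp) (fun i r => by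
        rw [map_smul, he]; exact e_mem Fr i r) fun x _ y _ h1 h2 => by
          rw [map_add]; exact add_mem h1 h2
    obtain ⟨q, hq⟩ := ex0 _ (hw b hb)
    exact ⟨_, hq.conj h c.tc.tc e hw⟩
  have cj : ∀ Fr' : Frame P k, ∀ j ∈ AW P φ Fr', Alt P φ j → ∀ x,
      (∀ u ∈ WW Fr', ∀ w ∈ WW Fr', Commute x (Es P φ u w)) → Commute x j := by
    intro Fr' j hj ha x hx
    refine (mem_centralizer_singleton_iff.1
      ((closure_le C1[x]).2 ?_ (c.g3.altm Fr' j hj ha))).symm
    rintro _ ⟨i, l, r, -, rfl⟩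
    exact mem_centralizer_singleton_iff.2
      (hx _ (Submodule.subset_span ⟨i, rfl⟩) _ (e_mem Fr' l r)).eq.symm
  refine ⟨fun Fr' v hv j hj ha => ?_, fun Fr' v hv b hb j hj ha hd => ?_, fun v a => ?_⟩
  · obtain ⟨q, hq⟩ := ex Fr' v hv
    have e : q * (t * j) * q⁻¹ = t * (tv P φ v 1 * j) := by
      calc _ = q * t * q⁻¹ * (q * j * q⁻¹) := by group
        _ = _ := by rw [hq.ct, (cj Fr' j hj ha q hq.cs).eq]; group
    refine ⟨fun m => e ▸ dt_conj q m, fun m => ?_⟩
    have := dt_conj q⁻¹ m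
    rwa [← e, show q⁻¹ * (q * (t * j) * q⁻¹) * q⁻¹⁻¹ = t * j by group] at this
  · obtain ⟨q, hq⟩ := ex Fr' b hb
    have c1 := cj Fr' j hj ha (Es P φ b v) fun u hu w hw =>
      comm_orth h (iso h Fr' hb hu) (iso h Fr' hb hw) (iso h Fr' hv hu) (iso h Fr' hv hw) 0 0
    have e : q * (tv P φ v 1 * j) * q⁻¹ = tv P φ v 1 * j * Es P φ b v := by
      calc _ = q * tv P φ v 1 * q⁻¹ * (q * j * q⁻¹) := by group
        _ = tv P φ v 1 * (Es P φ b v * j) := by
          rw [hq.cv v hv, (cj Fr' j hj ha q hq.cs).eq]; group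
        _ = _ := by rw [c1.eq, mul_assoc]
    exact e ▸ dt_conj q hd
  · by_cases hv : v = 0
    · exact ⟨1, one_mem _, by rw [hv, H68.Sp.tv, ET_zero_left h]; group⟩
    have : CharP F 2 := CharTwo.of_one_ne_zero_of_two_eq_zero one_ne_zero h.two
    obtain ⟨s, rfl⟩ := FiniteField.isSquare_of_char_two (ringChar.eq F 2) a
    let i : Fin k := ⟨0, by have := c.k3; omega⟩
    have h0 : Fr.e (i, false) ≠ 0 := (c.g1.li Fr).ne_zero _
    obtain ⟨e, he⟩ := c.g1.witt ![v] ![Fr.e (i, false)] (by simpa using hv) (by simpa using h0)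
      fun a b => by
        rw [Subsingleton.elim a 0, Subsingleton.elim b 0, fs h, fs h]
    have he0 : e.1 v = Fr.e (i, false) := he 0
    have m1 : φ e ∈ GO P φ L t := mem_sup_left (φ_mem h e)
    have m2 : p (i, false) s ∈ GO P φ L t := mem_sup_right (subset_closure
      ⟨_, h0, (hp.canon _ _).2 ⟨s, 1, one_mem _, (mul_one _).symm⟩⟩)
    refine ⟨(φ e)⁻¹ * p (i, false) s * φ e, mul_mem (mul_mem (inv_mem m1) m2) m1, ?_⟩
    have e1 : φ e * t = t * φ e := c.tc.tc _ (φ_mem h e)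
    calc _ = (φ e)⁻¹ * (φ e * t) * tv P φ v (s * s) := by group
      _ = (φ e)⁻¹ * (p (i, false) s * (φ e * t * (φ e)⁻¹) * (p (i, false) s)⁻¹) * φ e := by
        rw [e1, mul_inv_cancel_right, (hp.mb _ s).mv, ← he0, ← conj_tv h]; group
      _ = _ := by group

end Cfsg.Agent.H61.SpPt
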