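import Mathlib
import Cfsg.Agent.Lead.T3Defs

/-!
# Transfer of germs between opposite chambers
-/

set_option autoImplicit false

namespace Cfsg.Agent.H61.T3Link

open Cfsg.Agent.H35 Cfsg.Agent.Lead.T3

universe u

section Cox

variable {I W : Type} [Group W] [Finite W] (X : Cox I W)

theorem op_op (hx : CxStmt) (i : I) : X.op Set.univ (X.op Set.univ i) = i :=
  ((hx X).2.2.1 Set.univ i (Set.mem_univ i)).2.2

theorem op_inj (hx : CxStmt) : Function.Injective (X.op Set.univ) :=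
  Function.LeftInverse.injective (op_op X hx)

theorem WJ_univ (w : W) : w ∈ X.WJ Set.univ := by
  obtain ⟨l, rfl⟩ := X.wp_surjective w
  exact X.wp_mem_closure (fun _ _ => Set.mem_univ _)

omit [Finite W] in
theorem WJ_mono {J K : Set I} (h : J ⊆ K) : X.WJ J ≤ X.WJ K :=
  Subgroup.closure_mono (Set.image_mono h)

theorem wJ_inv (hx : CxStmt) (K : Set I) : (X.wJ K)⁻¹ = X.wJ K :=
  inv_eq_of_mul_eq_one_right ((hx X).1 K)

/-- `w_J w_0` has no left descent in `J`. -/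
theorem g_red (hx : CxStmt) (J : Set I) : ∀ j ∈ J,
    X.len (X.wJ J * X.wJ Set.univ) ≤ X.len (X.s j * (X.wJ J * X.wJ Set.univ)) := by
  intro j hj
  have h1 := ((hx X).2.1 Set.univ (X.wJ J) (WJ_univ X _)).2
  have h2 := ((hx X).2.1 Set.univ (X.s j * X.wJ J) (WJ_univ X _)).2
  have h3 := (X.wJ_spec J).left j hj
  rw [← mul_assoc]
  omega

theorem g_inv (hx : CxStmt) (J : Set I) :
    (X.wJ J * X.wJ Set.univ)⁻¹ = X.wJ (X.op Set.univ '' J) * X.wJ Set.univ := by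
  rw [← (hx X).2.2.2.2.2.2.1 J Set.univ (Set.subset_univ J), mul_inv_rev, wJ_inv X hx,
    wJ_inv X hx, mul_assoc (X.wJ Set.univ * X.wJ J), (hx X).1, mul_one]

end Cox

section One

variable {I W : Type} [Group W] [Finite W] {X : Cox I W} {C : Type u} [Finite C] (B : Bld X C)

theorem self_mem (h1 : Ba1Stmt.{u}) (J : Set I) (x : C) : x ∈ B.res J x := (h1 B).2.2.2.1 J x

theorem res_eq (h1 : Ba1Stmt.{u}) {J : Set I} {x y : C} (h : y ∈ B.res J x) :
    B.res J y = B.res J x := (h1 B).2.2.2.2.1 J x y h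

theorem proj_mem (h1 : Ba1Stmt.{u}) (J : Set I) (x z : C) : B.proj J x z ∈ B.res J x :=
  ((h1 B).2.2.2.2.2.2.1 J x z).1

theorem gate (h1 : Ba1Stmt.{u}) {J : Set I} {x y : C} (z : C) (h : y ∈ B.res J x) :
    B.δ y z = B.δ y (B.proj J x z) * B.δ (B.proj J x z) z :=
  (((h1 B).2.2.2.2.2.2.1 J x z).2.2 y h).1

omit [Finite W] [Finite C] in
theorem res_mono {J K : Set I} (h : J ⊆ K) (x : C) : B.res J x ⊆ B.res K x :=
  fun _ hy => WJ_mono X h hy

theorem proj_of_g (hx : CxStmt) (h1 : Ba1Stmt.{u}) {J : Set I} {x a b : C} (ha : a ∈ B.res J x)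
    (h : B.δ a b = X.wJ J * X.wJ Set.univ) : B.proj J x b = a :=
  (h1 B).2.2.2.2.2.2.2.1 J x b a ha (by rw [h]; exact g_red X hx J)

theorem proj_of_g' (hx : CxStmt) (h1 : Ba1Stmt.{u}) {J : Set I} {y a b : C}
    (hb : b ∈ B.res (X.op Set.univ '' J) y) (h : B.δ a b = X.wJ J * X.wJ Set.univ) :
    B.proj (X.op Set.univ '' J) y a = b :=
  proj_of_g B hx h1 hb (by rw [B.symm, h, g_inv X hx])

end One

section Two

variable {I W : Type} [Group W] [Finite W] {X : Cox I W} {C C' : Type u} [Finite C] [Finite C']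
  (B : Bld X C) (B' : Bld X C')

omit [Finite C'] in
theorem iso_mem (h1 : Ba1Stmt.{u}) {φ : C → C'} {J : Set I} {c x : C}
    (h : B.Iso B' φ (B.res J c)) (hx : x ∈ B.res J c) : φ x ∈ B'.res J (φ c) := by
  have := h c (self_mem B h1 J c) x hx
  change B'.δ (φ c) (φ x) ∈ X.WJ J
  rw [this]; exact hx

/-- The transfer map on the residue of type `J*`. -/
noncomputable def T (φ : C → C') (c : C) (d' : C') (J : Set I) (y : C) : C' :=
  B'.proj (X.op Set.univ '' J) d' (φ (B.proj J c y))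

variable {B B'} {φ : C → C'} {c d : C} {d' : C'}

theorem T_link (h1 : Ba1Stmt.{u}) (h2 : Ba2Stmt.{u}) {J : Set I}
    (hcd : B.δ c d = X.wJ Set.univ) (hcd' : B'.δ (φ c) d' = X.wJ Set.univ)
    (hI : B.Iso B' φ (B.res J c)) {x y : C} (hx : x ∈ B.res J c)
    (hy : y ∈ B.res (X.op Set.univ '' J) d) : B'.δ (φ x) (T B B' φ c d' J y) = B.δ x y := by
  have hp := proj_mem B h1 J c y
  have a1 := ((h2 B).1 J Set.univ c d (Set.subset_univ J) hcd).1 y hy
  have a2 := ((h2 B').1 J Set.univ (φ c) d' (Set.subset_univ J) hcd').2.1 _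
    (iso_mem B B' h1 hI hp)
  rw [gate B h1 y hx, a1.1, gate B' h1 (T B B' φ c d' J y) (iso_mem B B' h1 hI hx)]
  unfold T
  rw [a2.2, a2.1, hI x hx _ hp]

theorem T_iso (h1 : Ba1Stmt.{u}) (h2 : Ba2Stmt.{u}) {J : Set I}
    (hcd : B.δ c d = X.wJ Set.univ) (hcd' : B'.δ (φ c) d' = X.wJ Set.univ)
    (hI : B.Iso B' φ (B.res J c)) {y y' : C} (hy : y ∈ B.res (X.op Set.univ '' J) d)
    (hy' : y' ∈ B.res (X.op Set.univ '' J) d) :
    B'.δ (T B B' φ c d' J y) (T B B' φ c d' J y') = B.δ y y' := by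
  have hp := proj_mem B h1 J c y
  have hp' := proj_mem B h1 J c y'
  have a1 := (h2 B).1 J Set.univ c d (Set.subset_univ J) hcd
  have a2 := ((h2 B').1 J Set.univ (φ c) d' (Set.subset_univ J) hcd').2.2 _
    (iso_mem B B' h1 hI hp) _ (iso_mem B B' h1 hI hp')
  have a3 := a1.2.2 _ hp _ hp'
  rw [(a1.1 y hy).2, (a1.1 y' hy').2] at a3
  unfold T
  rw [a2, a3, hI _ hp _ hp']

theorem T_base (hx : CxStmt) (h1 : Ba1Stmt.{u}) (h2 : Ba2Stmt.{u}) {J : Set I}
    (hcd : B.δ c d = X.wJ Set.univ) (hC : ∀ x ∈ B.res J c, B'.δ (φ x) d' = B.δ x d) :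
    T B B' φ c d' J d = d' := by
  have a1 := ((h2 B).1 J Set.univ c d (Set.subset_univ J) hcd).1 d (self_mem B h1 _ d)
  exact proj_of_g' B' hx h1 (self_mem B' h1 _ d') (by rw [hC _ (proj_mem B h1 J c d), a1.1])

theorem T_mono (hx : CxStmt) (h1 : Ba1Stmt.{u}) (h2 : Ba2Stmt.{u}) {J K : Set I} (hJK : J ⊆ K)
    (hcd : B.δ c d = X.wJ Set.univ) (hI : B.Iso B' φ (B.res K c))
    (hC : ∀ x ∈ B.res K c, B'.δ (φ x) d' = B.δ x d) {y : C}
    (hy : y ∈ B.res (X.op Set.univ '' J) d) : T B B' φ c d' J y = T B B' φ c d' K y := by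
  have hcd' : B'.δ (φ c) d' = X.wJ Set.univ := by rw [hC c (self_mem B h1 K c), hcd]
  have hyK := res_mono B (Set.image_mono hJK) d hy
  have e1 := T_iso h1 h2 hcd hcd' hI (self_mem B h1 _ d) hyK
  rw [T_base hx h1 h2 hcd hC] at e1
  have e2 := T_link h1 h2 hcd hcd' hI (res_mono B hJK c (proj_mem B h1 J c y)) hyK
  rw [(((h2 B).1 J Set.univ c d (Set.subset_univ J) hcd).1 y hy).1] at e2
  refine proj_of_g' B' hx h1 ?_ e2
  change B'.δ d' _ ∈ X.WJ _
  rw [e1]; exact hy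

theorem part1 (hx : CxStmt) (h1 : Ba1Stmt.{u}) (h2 : Ba2Stmt.{u}) (hG : B.Germ B' φ c)
    (hC : B.Cpt B' φ c d d') : ∃ ψ, B.Germ B' ψ d ∧ ψ d = d' ∧ B.Link B' φ c ψ d := by
  classical
  have hcd : B.δ c d = X.wJ Set.univ := hC.1
  have hCK : ∀ i j, ∀ x ∈ B.res {i, j} c, B'.δ (φ x) d' = B.δ x d :=
    fun i j x hx => hC.2 x ⟨i, j, hx⟩
  have hcd' : ∀ _ : I, B'.δ (φ c) d' = X.wJ Set.univ := fun i => by
    rw [hCK i i c (self_mem B h1 _ c), hcd]
  let ψ : C → C' := fun y =>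
    if h : ∃ p : I × I, y ∈ B.res (X.op Set.univ '' {p.1, p.2}) d then
      T B B' φ c d' {h.choose.1, h.choose.2} y else d'
  have hψ : ∀ i j, ∀ y ∈ B.res (X.op Set.univ '' {i, j}) d, ψ y = T B B' φ c d' {i, j} y := by
    intro i j y hy
    have h : ∃ p : I × I, y ∈ B.res (X.op Set.univ '' {p.1, p.2}) d := ⟨(i, j), hy⟩
    have hs := h.choose_spec
    have hm : y ∈ B.res (X.op Set.univ '' (({h.choose.1, h.choose.2} : Set I) ∩ {i, j})) d := by
      rw [Set.image_inter (op_inj X hx)]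
      change B.δ d y ∈ X.WJ _
      rw [← (hx X).2.2.2.1]
      exact ⟨hs, hy⟩
    simp only [ψ, dif_pos h]
    rw [← T_mono hx h1 h2 Set.inter_subset_left hcd (hG _ _).1 (hCK _ _) hm,
      T_mono hx h1 h2 Set.inter_subset_right hcd (hG _ _).1 (hCK _ _) hm]
  have hd : ψ d = d' := by
    by_cases h : ∃ p : I × I, d ∈ B.res (X.op Set.univ '' {p.1, p.2}) d
    · obtain ⟨p, hp⟩ := h
      rw [hψ _ _ d hp, T_base hx h1 h2 hcd (hCK _ _)]
    · simp only [ψ, dif_neg h]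
  refine ⟨ψ, fun k l => ?_, hd, hC.1, fun i j x hx' y hy => ?_⟩
  · have e : ({k, l} : Set I) = X.op Set.univ '' {X.op Set.univ k, X.op Set.univ l} := by
      rw [Set.image_pair, op_op X hx, op_op X hx]
    rw [e]
    refine ⟨fun y hy y' hy' => ?_, fun y' hy' => ?_⟩
    · rw [hψ _ _ y hy, hψ _ _ y' hy', T_iso h1 h2 hcd (hcd' k) (hG _ _).1 hy hy']
    · rw [hd] at hy'
      obtain ⟨x, hx1, hx2⟩ := (hG (X.op Set.univ k) (X.op Set.univ l)).2
        (proj_mem B' h1 _ (φ c) y')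
      refine ⟨_, proj_mem B h1 _ d x, ?_⟩
      rw [hψ _ _ _ (proj_mem B h1 _ d x)]
      unfold T
      rw [(((h2 B).1 _ Set.univ c d (Set.subset_univ _) hcd).2.1 x hx1).2, hx2]
      exact (((h2 B').1 _ Set.univ (φ c) d' (Set.subset_univ _) (hcd' k)).1 y' hy').2
  · rw [← Set.image_pair] at hy
    rw [hψ _ _ y hy, T_link h1 h2 hcd (hcd' i) (hG _ _).1 hx' hy]

end Two

/-- **LINK** -/
theorem linkStmt (hx : CxStmt) (h1 : Ba1Stmt.{u}) (h2 : Ba2Stmt.{u}) (h3 : Ba3Stmt.{u}) :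
    LinkStmt.{u} := by
  intro I W _ _ X C C' _ _ B B'
  refine ⟨fun φ c d d' hG hC => part1 hx h1 h2 hG hC, fun φ ψ c d hL => ⟨⟨?_, ?_⟩, hL.1, ?_⟩,
    ?_, ?_⟩
  · rw [B.symm, hL.1]; exact wJ_inv X hx _
  · intro i j y hy x hx'
    have := hL.2 _ _ x hx' y (by rw [op_op X hx, op_op X hx]; exact hy)
    rw [B'.symm, this, ← B.symm]
  · rintro x ⟨i, j, hx'⟩
    exact hL.2 i j x hx' d (self_mem B h1 _ d)
  · intro φ ψ φ₂ ψ₂ c d c₂ d₂ i j _ hψ hψ₂ hL hL₂ hc he hd hd' y hy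
    have hp := proj_mem B h1 {i, j} c y
    have hy' : y ∈ B.res (X.op Set.univ '' {i, j}) d := by rw [Set.image_pair]; exact hy
    have a1 := (((h2 B).1 {i, j} Set.univ c d (Set.subset_univ _) hL.1).1 y hy').1
    have hy₂ : y ∈ B.res {X.op Set.univ i, X.op Set.univ j} d₂ := by
      rw [res_eq B h1 hd]; exact hy
    have e1 := hL.2 i j _ hp y hy
    have e2 := hL₂.2 i j _ (by rw [res_eq B h1 hc]; exact hp) y hy₂
    rw [← he hp] at e2
    rw [a1] at e1 e2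
    have m1 := iso_mem B B' h1 (hψ _ _).1 hy
    have m2 := iso_mem B B' h1 (hψ₂ _ _).1 hy₂
    rw [res_eq B' h1 hd'] at m2
    rw [← Set.image_pair] at m1 m2
    exact (proj_of_g' B' hx h1 m1 e1).symm.trans (proj_of_g' B' hx h1 m2 e2)
  · rintro φ φ₂ c d d' hφ hφ₂ hC hC₂ hc hp x ⟨i, j, hx'⟩
    have hcd : B.δ c d = X.wJ Set.univ := hC.1
    have ha := proj_mem B h1 {i, j} c d
    have a1 := (((h2 B).1 {i, j} Set.univ c d (Set.subset_univ _) hcd).1 d (self_mem B h1 _ d)).1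
    have a2 : B.δ c (B.proj {i, j} c d) = X.wJ {i, j} := by
      have := gate B h1 d (self_mem B h1 {i, j} c)
      rw [a1, hcd, ← mul_assoc, right_eq_mul] at this
      rw [eq_inv_of_mul_eq_one_left this, wJ_inv X hx]
    have e1 := hC.2 _ ⟨i, j, ha⟩
    have e2 := hC₂.2 _ ⟨i, j, ha⟩
    rw [a1] at e1 e2
    have m1 := iso_mem B B' h1 (hφ i j).1 ha
    have m2 := iso_mem B B' h1 (hφ₂ i j).1 ha
    rw [← hc] at m2
    exact (h3 B B').2 {i, j} c _ φ φ₂ (hφ i j).1 (hφ₂ i j).1 a2 hc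
      ((proj_of_g B' hx h1 m1 e1).symm.trans (proj_of_g B' hx h1 m2 e2))
      (fun k _ => hp k) hx'

end Cfsg.Agent.H61.T3Link
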