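import Mathlib
import Cfsg.Agent.Lead.T3Defs
import Cfsg.Agent.H7.T3Cx

/-!
# The wall condition in types `A₃` and `C₃`, by a coset table
-/

set_option autoImplicit false

namespace Cfsg.Agent.H61.T3Wall

open Cfsg.Agent.H35 Cfsg.Agent.Lead.T3 InvGen

/-- One rewriting move: a position and the number of a rule. -/
def app (rules : List (List (Fin 3) × List (Fin 3))) (l : List (Fin 3)) (m : ℕ × ℕ) :
    List (Fin 3) :=
  if (l.drop m.1).take (rules.getD m.2 ([], [])).1.length = (rules.getD m.2 ([], [])).1 then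
    l.take m.1 ++ (rules.getD m.2 ([], [])).2 ++
      (l.drop m.1).drop (rules.getD m.2 ([], [])).1.length
  else l

/-- The Coxeter relations as rewriting rules. -/
def rules (n : ℕ) : List (List (Fin 3) × List (Fin 3)) :=
  [([0, 0], []), ([1, 1], []), ([2, 2], []), (altw 0 1 3, altw 1 0 3), (altw 1 0 3, altw 0 1 3),
    (altw 0 2 2, altw 2 0 2), (altw 2 0 2, altw 0 2 2), (altw 1 2 n, altw 2 1 n),
    (altw 2 1 n, altw 1 2 n)]

/-- The Coxeter matrix. -/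
def mat (n : ℕ) : Fin 3 → Fin 3 → ℕ := ![![1, 3, 2], ![3, 1, n], ![2, n, 1]]

section Gen

variable {W : Type} [Group W] (X : Cox (Fin 3) W)

theorem app_sound {rs : List (List (Fin 3) × List (Fin 3))}
    (h : ∀ r ∈ rs, X.wp r.1 = X.wp r.2) (l : List (Fin 3)) (m : ℕ × ℕ) :
    X.wp (app rs l m) = X.wp l := by
  have h' : X.wp (rs.getD m.2 ([], [])).1 = X.wp (rs.getD m.2 ([], [])).2 := by
    rcases lt_or_ge m.2 rs.length with hm | hm
    · rw [List.getD_eq_getElem _ _ hm]; exact h _ (List.getElem_mem hm)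
    · rw [List.getD_eq_default _ _ hm]
  unfold app
  split_ifs with e
  · rw [wp_append, wp_append, ← h', ← e, mul_assoc, ← wp_append, e, ← wp_append]
    conv_lhs => rw [← e]
    rw [List.length_take]
    congr 1
    conv_rhs => rw [← List.take_append_drop m.1 l]
    congr 1
    rcases le_total (rs.getD m.2 ([], [])).1.length (l.drop m.1).length with hl | hl
    · rw [min_eq_left hl, List.take_append_drop]
    · rw [min_eq_right hl, List.take_of_length_le hl, List.drop_length, List.append_nil]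
  · rfl

theorem moves_sound {rs : List (List (Fin 3) × List (Fin 3))}
    (h : ∀ r ∈ rs, X.wp r.1 = X.wp r.2) (ms : List (ℕ × ℕ)) (l : List (Fin 3)) :
    X.wp (ms.foldl (app rs) l) = X.wp l := by
  induction ms generalizing l with
  | nil => rfl
  | cons m ms ih => rw [List.foldl_cons, ih, app_sound X h]

theorem m_eq {n : ℕ} (h : X.Tri n 0 1 2) (a b : Fin 3) : X.m a b = mat n a b := by
  obtain ⟨h1, h2, h3⟩ := h
  have h0 : ∀ i, X.m i i = 1 := fun i => by rw [Cox.m, X.s_mul_s, orderOf_one]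
  have h1' := (H7.T3Cx.m_symm X 0 1).trans h1
  have h2' := (H7.T3Cx.m_symm X 1 2).trans h2
  have h3' := (H7.T3Cx.m_symm X 0 2).trans h3
  fin_cases a <;> fin_cases b
  exacts [h0 _, h1, h3, h1', h0 _, h2, h3', h2', h0 _]

theorem rules_sound {n : ℕ} (h : X.Tri n 0 1 2) : ∀ r ∈ rules n, X.wp r.1 = X.wp r.2 := by
  obtain ⟨h1, h2, h3⟩ := h
  have a1 := H7.T3Cx.wp_altw_m X 0 1
  have a2 := H7.T3Cx.wp_altw_m X 1 2
  have a3 := H7.T3Cx.wp_altw_m X 0 2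
  rw [h1] at a1
  rw [h2] at a2
  rw [h3] at a3
  have h0 : ∀ i, X.wp [i, i] = X.wp [] := fun i => by simp [X.s_mul_s]
  simp only [rules, List.forall_mem_cons]
  exact ⟨h0 0, h0 1, h0 2, a1, a1.symm, a3, a3.symm, a2, a2.symm, by simp⟩

end Gen

/-- A coset table. -/
structure Tab (N : ℕ) where
  wd : Fin N → List (Fin 3)
  mul : Fin N → Fin 3 → Fin N
  cert : Fin N → Fin 3 → List (ℕ × ℕ)

namespace Tab

variable {N : ℕ} [NeZero N] (T : Tab N)

/-- Following a word in the table. -/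
def ev (k : Fin N) (l : List (Fin 3)) : Fin N := l.foldl T.mul k

/-- The table is a correct multiplication table. -/
def OK (n : ℕ) : Prop :=
  T.wd 0 = [] ∧ (∀ k, T.ev 0 (T.wd k) = k) ∧
    (∀ k j, (T.cert k j).foldl (app (rules n)) (T.wd k ++ [j]) = T.wd (T.mul k j) ∧
      T.mul (T.mul k j) j = k ∧ (T.wd (T.mul k j)).length ≤ (T.wd k).length + 1) ∧
    ∀ a b k, T.ev k (altw a b (2 * mat n a b)) = k

instance (n : ℕ) : Decidable (T.OK n) := by unfold OK; infer_instance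

/-- Membership in the root. -/
def inR (i : Fin 3) (k : Fin N) : Prop := (T.wd k).length < (T.wd (T.ev 0 (i :: T.wd k))).length

instance (i : Fin 3) (k : Fin N) : Decidable (T.inR i k) := by unfold inR; infer_instance

/-- The residue. -/
def resl (k : Fin N) (a b : Fin 3) : List (Fin N) := (List.range 8).map fun n => T.ev k (altw a b n)

/-- The residue lies in the root. -/
def good (i : Fin 3) (k : Fin N) (a b : Fin 3) : Prop :=
  ∀ x ∈ T.resl k a b, T.inR i x ∧ T.mul x a ∈ T.resl k a b ∧ T.mul x b ∈ T.resl k a b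

instance (i : Fin 3) (k : Fin N) (a b : Fin 3) : Decidable (T.good i k a b) := by
  unfold good; infer_instance

/-- The reflection. -/
def rf (k : Fin N) (j : Fin 3) : Fin N := T.ev 0 (T.wd k ++ j :: (T.wd k).reverse)

/-- One closure step. -/
def step (i : Fin 3) (M : List (Fin N)) (t : Fin N × Fin 3 × Fin 3) : List (Fin N) :=
  if T.good i t.1 t.2.1 t.2.2 ∧ T.rf t.1 t.2.1 ∈ M ∧ T.rf t.1 t.2.2 ∈ M then
    M ++ (T.resl t.1 t.2.1 t.2.2).flatMap fun x => [T.rf x t.2.1, T.rf x t.2.2]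
  else M

/-- The wall condition in the table. -/
def WOK (i : Fin 3) (c : Fin N) (st : List (Fin N × Fin 3 × Fin 3)) : Prop :=
  (∀ a b, T.good i c a b) ∧ ∀ k j, T.inR i k → T.inR i (T.mul k j) →
    T.rf k j ∈ st.foldl (T.step i) [T.rf c 0, T.rf c 1, T.rf c 2]

instance (i : Fin 3) (c : Fin N) (st : List (Fin N × Fin 3 × Fin 3)) : Decidable (T.WOK i c st) := by
  unfold WOK; infer_instance

variable {T} {W : Type} [Group W] {X : Cox (Fin 3) W} {n : ℕ}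

theorem wp_mul_s (h : X.Tri n 0 1 2) (hT : T.OK n) (k : Fin N) (j : Fin 3) :
    X.wp (T.wd k) * X.s j = X.wp (T.wd (T.mul k j)) := by
  rw [← (hT.2.2.1 k j).1, moves_sound X (rules_sound X h), wp_concat]

theorem wp_mul_wp (h : X.Tri n 0 1 2) (hT : T.OK n) (l : List (Fin 3)) (k : Fin N) :
    X.wp (T.wd k) * X.wp l = X.wp (T.wd (T.ev k l)) := by
  induction l generalizing k with
  | nil => simp [ev]
  | cons j l ih => rw [wp_cons, ← mul_assoc, wp_mul_s h hT, ih]; rfl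

theorem wp_eq (h : X.Tri n 0 1 2) (hT : T.OK n) (l : List (Fin 3)) :
    X.wp l = X.wp (T.wd (T.ev 0 l)) := by
  rw [← wp_mul_wp h hT, hT.1, wp_nil, one_mul]

theorem ev_eq (h : X.Tri n 0 1 2) (hT : T.OK n) {l l' : List (Fin 3)} (e : X.wp l = X.wp l') :
    T.ev 0 l = T.ev 0 l' := by
  let f : Fin 3 → Equiv.Perm (Fin N) := fun j =>
    Function.Involutive.toPerm (fun k => T.mul k j) fun k => (hT.2.2.1 k j).2.1
  have hf : ∀ (l : List (Fin 3)) k, ((l.map f).prod)⁻¹ k = T.ev k l := by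
    intro l
    induction l with
    | nil => intro k; rfl
    | cons j l ih =>
      intro k
      rw [List.map_cons, List.prod_cons, mul_inv_rev, Equiv.Perm.mul_apply, ih]
      rfl
  have := X.exch.prod_eq_of_wp_eq f (fun a b => by
    rw [← prod_altw_two_mul, ← inv_eq_one]
    ext k
    rw [hf, show orderOf (X.s a * X.s b) = mat n a b from m_eq X h a b, hT.2.2.2]
    rfl) e
  rw [← hf, ← hf, this]

theorem len_ev (hT : T.OK n) (l : List (Fin 3)) (k : Fin N) :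
    (T.wd (T.ev k l)).length ≤ (T.wd k).length + l.length := by
  induction l generalizing k with
  | nil => simp [ev]
  | cons j l ih =>
    have h1 := ih (T.mul k j)
    have h2 := (hT.2.2.1 k j).2.2
    change (T.wd (T.ev (T.mul k j) l)).length ≤ _
    rw [List.length_cons]
    omega

theorem len_wd (h : X.Tri n 0 1 2) (hT : T.OK n) (k : Fin N) :
    X.len (X.wp (T.wd k)) = (T.wd k).length := by
  refine le_antisymm (X.len_wp_le _) ?_
  obtain ⟨l, hl, e⟩ := X.exists_red (X.wp (T.wd k))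
  have h1 := ev_eq h hT e
  have h2 := len_ev hT l 0
  rw [h1, hT.2.1, hT.1] at h2
  simpa [hl] using h2

theorem mem_rt (h : X.Tri n 0 1 2) (hT : T.OK n) (i : Fin 3) (k : Fin N) :
    X.wp (T.wd k) ∈ X.rt 1 i ↔ T.inR i k := by
  unfold Cox.rt inR
  rw [Set.mem_setOf_eq, inv_one, one_mul, ← wp_cons, wp_eq h hT (i :: T.wd k), len_wd h hT,
    len_wd h hT]

theorem good_sound (h : X.Tri n 0 1 2) (hT : T.OK n) {i : Fin 3} {k : Fin N} {a b : Fin 3}
    (hg : T.good i k a b) : ∀ u ∈ X.WJ {a, b}, X.wp (T.wd k) * u ∈ X.rt 1 i := by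
  intro u hu
  obtain ⟨l, hl, rfl⟩ := X.mem_closure_iff.1 hu
  rw [wp_mul_wp h hT, mem_rt h hT]
  have key : ∀ l : List (Fin 3), (∀ j ∈ l, j ∈ ({a, b} : Set (Fin 3))) → ∀ x ∈ T.resl k a b,
      T.ev x l ∈ T.resl k a b := by
    intro l
    induction l with
    | nil => exact fun _ x hx => hx
    | cons j l ih =>
      intro hl x hx
      refine ih (fun j' hj => hl j' (List.mem_cons_of_mem _ hj)) (T.mul x j) ?_
      rcases hl j List.mem_cons_self with rfl | rfl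
      · exact (hg x hx).2.1
      · exact (hg x hx).2.2
  exact (hg _ (key l hl k (List.mem_map.2 ⟨0, by simp, rfl⟩))).1

theorem rf_eq (h : X.Tri n 0 1 2) (hT : T.OK n) (k : Fin N) (j : Fin 3) :
    X.rf (X.wp (T.wd k)) j = X.wp (T.wd (T.rf k j)) := by
  rw [rf, ← wp_eq h hT, wp_append, wp_cons, wp_reverse, Cox.rf, mul_assoc]

theorem wall (h : X.Tri n 0 1 2) (hT : T.OK n) {i : Fin 3} {c : Fin N}
    {st : List (Fin N × Fin 3 × Fin 3)} (hw : T.WOK i c st) : Wall X i := by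
  refine ⟨X.wp (T.wd c), fun a b => good_sound h hT (hw.1 a b), fun M hM hc v j hv hv' => ?_⟩
  have key : ∀ (st : List (Fin N × Fin 3 × Fin 3)) (L : List (Fin N)),
      (∀ x ∈ L, X.wp (T.wd x) ∈ M) → ∀ x ∈ st.foldl (T.step i) L, X.wp (T.wd x) ∈ M := by
    intro st
    induction st with
    | nil => exact fun L hL => hL
    | cons t st ih =>
      intro L hL
      refine ih _ fun x hx => ?_
      unfold step at hx
      split_ifs at hx with ht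
      · rcases List.mem_append.1 hx with hx | hx
        · exact hL x hx
        · obtain ⟨y, hy, hx⟩ := List.mem_flatMap.1 hx
          obtain ⟨m, -, rfl⟩ := List.mem_map.1 hy
          have := hc _ _ _ (good_sound h hT ht.1) (by rw [rf_eq h hT]; exact hL _ ht.2.1)
            (by rw [rf_eq h hT]; exact hL _ ht.2.2) _
            (X.wp_mem_closure (H7.T3Cx.altw_mem t.2.1 t.2.2 m))
          rw [wp_mul_wp h hT, rf_eq h hT, rf_eq h hT] at this
          simp only [List.mem_cons, List.not_mem_nil, or_false] at hx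
          rcases hx with rfl | rfl
          exacts [this.1, this.2]
      · exact hL x hx
  obtain ⟨l, rfl⟩ := X.wp_surjective v
  rw [wp_eq h hT] at hv hv' ⊢
  rw [wp_mul_s h hT] at hv'
  rw [mem_rt h hT] at hv hv'
  rw [rf_eq h hT]
  refine key st _ (fun x hx => ?_) _ (hw.2 _ j hv hv')
  simp only [List.mem_cons, List.not_mem_nil, or_false] at hx
  rcases hx with rfl | rfl | rfl <;> rw [← rf_eq h hT] <;> exact hM _

end Tab

-- n=3 N=24 moves=78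
/-- Table data. -/
def wdL3 : List (List (Fin 3)) :=
  [[],[0],[1],[2],[0,1],[0,2],[1,0],[1,2],[2,1],[0,1,0],[0,1,2],[0,2,1],[1,0,2],[1,2,1],[2,1,0],
   [0,1,0,2],[0,1,2,1],[0,2,1,0],[1,0,2,1],[1,2,1,0],[0,1,0,2,1],[0,1,2,1,0],[1,0,2,1,0],[0,1,0,2,
   1,0]]

/-- Table data. -/
def mulL3 : List (Fin 24) :=
  [1,2,3,0,4,5,6,0,7,5,8,0,9,1,10,3,11,1,2,9,12,12,13,2,14,3,13,4,6,15,15,16,4,17,5,16,7,18,6,19,
   7,8,8,17,19,10,20,9,21,10,11,11,14,21,22,12,20,13,22,14,23,15,18,16,23,17,18,19,23,20,21,22]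

/-- Table data. -/
def certL3 : List (List (ℕ × ℕ)) :=
  [[],[],[],[(0,0)],[],[],[],[(0,1)],[],[(0,6)],[],[(0,2)],[],[(1,1)],[],[(0,5),(1,0)],[],[(1,2)],
   [(1,0)],[(0,4)],[],[(1,6)],[],[(1,2)],[],[(1,1)],[(0,8)],[(2,0)],[(0,3),(2,1)],[],[(2,6)],[],
   [(2,2)],[],[(2,1)],[(1,8)],[(1,5),(2,0)],[],[(2,2)],[],[(2,1)],[(0,7),(2,2)],[(2,0)],[(1,4),(0,
   6)],[(2,5),(0,8)],[(2,5),(3,0)],[],[(3,2)],[],[(3,1)],[(1,7),(3,2)],[(3,0)],[(0,5),(1,3),(3,
   1)],[(3,5),(1,8)],[],[(3,1)],[(2,8),(0,4)],[(3,0)],[(2,4),(1,6)],[(0,7),(2,6),(3,2)],[],[(4,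
   1)],[(0,3),(2,7),(4,2)],[(4,0)],[(3,4),(2,6)],[(1,7),(3,6),(4,2)],[(4,0)],[(1,5),(2,3),(4,1)],
   [(4,5),(2,8),(0,4)],[(5,0)],[(2,5),(3,3),(5,1)],[(0,3),(2,7),(4,6),(5,2)]]

/-- Table data. -/
def cL3 : Fin 3 → Fin 24 := ![7,5,6]

/-- Table data. -/
def stL3 : Fin 3 → List (Fin 24 × Fin 3 × Fin 3) :=
  ![[(3,1,2),(7,0,1)],[(5,0,1),(5,1,2)],[(1,0,1),(6,1,2)]]

-- n=4 N=48 moves=188
/-- Table data. -/
def wdL4 : List (List (Fin 3)) :=
  [[],[0],[1],[2],[0,1],[0,2],[1,0],[1,2],[2,1],[0,1,0],[0,1,2],[0,2,1],[1,0,2],[1,2,1],[2,1,0],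
   [2,1,2],[0,1,0,2],[0,1,2,1],[0,2,1,0],[0,2,1,2],[1,0,2,1],[1,2,1,0],[1,2,1,2],[2,1,0,2],[0,1,0,
   2,1],[0,1,2,1,0],[0,1,2,1,2],[0,2,1,0,2],[1,0,2,1,0],[1,0,2,1,2],[1,2,1,0,2],[2,1,0,2,1],[0,1,
   0,2,1,0],[0,1,0,2,1,2],[0,1,2,1,0,2],[0,2,1,0,2,1],[1,0,2,1,0,2],[1,2,1,0,2,1],[2,1,0,2,1,2],
   [0,1,0,2,1,0,2],[0,1,2,1,0,2,1],[0,2,1,0,2,1,2],[1,0,2,1,0,2,1],[1,2,1,0,2,1,2],[0,1,0,2,1,0,2,
   1],[0,1,2,1,0,2,1,2],[1,0,2,1,0,2,1,2],[0,1,0,2,1,0,2,1,2]]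

/-- Table data. -/
def mulL4 : List (Fin 48) :=
  [1,2,3,0,4,5,6,0,7,5,8,0,9,1,10,3,11,1,2,9,12,12,13,2,14,3,15,4,6,16,16,17,4,18,5,19,7,20,6,21,
   7,22,8,18,23,23,22,8,10,24,9,25,10,26,11,14,27,27,26,11,28,12,29,13,28,30,30,15,13,15,31,14,32,
   16,33,17,32,34,34,19,17,19,35,18,20,21,36,36,33,20,22,37,21,37,23,38,24,25,39,39,29,24,26,40,
   25,40,27,41,29,42,28,31,30,43,43,41,31,33,44,32,35,34,45,45,38,35,44,36,46,38,46,37,42,39,47,
   41,47,40,47,43,42,46,45,44]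

/-- Table data. -/
def certL4 : List (List (ℕ × ℕ)) :=
  [[],[],[],[(0,0)],[],[],[],[(0,1)],[],[(0,6)],[],[(0,2)],[],[(1,1)],[],[(0,5),(1,0)],[],[(1,2)],
   [(1,0)],[(0,4)],[],[(1,6)],[],[(1,2)],[],[(1,1)],[],[(2,0)],[(0,3),(2,1)],[],[(2,6)],[],[(2,
   2)],[],[(2,1)],[],[(1,5),(2,0)],[],[(2,2)],[],[(2,1)],[],[(2,0)],[(1,4),(0,6)],[],[(2,6)],[(0,
   8)],[(2,2)],[(2,5),(3,0)],[],[(3,2)],[],[(3,1)],[],[(3,0)],[(0,5),(1,3),(3,1)],[],[(3,6)],[(1,
   8)],[(3,2)],[],[(3,1)],[],[(3,0)],[(2,4),(1,6)],[],[(3,6)],[(0,7),(3,1)],[(3,2)],[(2,5),(3,0)],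
   [],[(3,2)],[],[(4,1)],[],[(4,0)],[(3,4),(2,6)],[],[(4,6)],[(1,7),(4,1)],[(4,2)],[(3,5),(4,0)],
   [],[(4,2)],[(4,0)],[(1,5),(2,3),(4,1)],[],[(4,6)],[(2,8),(0,4)],[(4,2)],[(3,5),(4,0)],[],[(4,
   2)],[(2,5),(3,3),(0,8),(3,6)],[(4,1)],[],[(5,0)],[(2,5),(3,3),(5,1)],[],[(5,6)],[(0,3),(2,7),
   (5,1)],[(5,2)],[(4,5),(5,0)],[],[(5,2)],[(3,5),(4,3),(1,8),(4,6)],[(5,1)],[],[(4,5),(5,0)],[],
   [(5,2)],[(3,5),(0,7),(3,4),(2,6),(5,0)],[(5,1)],[],[(2,5),(5,6),(3,3),(0,8),(3,6)],[(3,8),(1,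
   4),(0,6)],[(5,2)],[(5,5),(6,0)],[],[(6,2)],[(4,5),(1,7),(4,4),(3,6),(6,0)],[(6,1)],[],[(3,5),
   (6,6),(4,3),(1,8),(4,6)],[(0,5),(1,3),(3,7),(6,1)],[(6,2)],[(4,5),(5,3),(2,8),(0,4),(5,6)],[(6,
   1)],[],[(3,5),(0,7),(3,4),(2,6),(5,5),(6,0)],[(4,8),(2,4),(1,6)],[(6,2)],[(0,3),(5,5),(2,7),(5,
   4),(4,6),(7,0)],[(7,1)],[],[(4,5),(1,7),(4,4),(3,6),(6,5),(7,0)],[(5,8),(3,4),(2,6)],[(7,2)],
   [(4,5),(7,6),(5,3),(2,8),(0,4),(5,6)],[(1,5),(2,3),(4,7),(7,1)],[(7,2)],[(0,3),(5,5),(2,7),(5,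
   4),(4,6),(7,5),(8,0)],[(2,5),(3,3),(5,7),(8,1)],[(8,2)]]

/-- Table data. -/
def cL4 : Fin 3 → Fin 48 := ![7,5,6]

/-- Table data. -/
def stL4 : Fin 3 → List (Fin 48 × Fin 3 × Fin 3) :=
  ![[(7,0,1),(7,1,2),(21,1,2)],[(5,0,1),(5,1,2),(18,1,2)],[(1,0,1),(6,1,2),(12,0,1),(16,0,1)]]

/-- The table of type `A₃`. -/
def T3 : Tab 24 where
  wd k := wdL3.getD k []
  mul k j := mulL3.getD (3 * k.1 + j.1) 0
  cert k j := certL3.getD (3 * k.1 + j.1) []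

/-- The table of type `C₃`. -/
def T4 : Tab 48 where
  wd k := wdL4.getD k []
  mul k j := mulL4.getD (3 * k.1 + j.1) 0
  cert k j := certL4.getD (3 * k.1 + j.1) []

theorem ok3 : T3.OK 3 := by decide +kernel

theorem ok4 : T4.OK 4 := by decide +kernel

theorem wok3 : ∀ i, T3.WOK i (cL3 i) (stL3 i) := by decide +kernel

theorem wok4 : ∀ i, T4.WOK i (cL4 i) (stL4 i) := by decide +kernel

/-- **WALL** -/
theorem wallStmt : WallStmt := by
  intro W _ _ X h i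
  rcases h with h | h
  · exact Tab.wall h ok3 (wok3 i)
  · exact Tab.wall h ok4 (wok4 i)

end Cfsg.Agent.H61.T3Wall
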